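import Groth.Agent.LCZ.AcycExt
import Groth.Agent.EtMV.Ext
import Mathlib

/-! Acyclic resolutions and change of source along an exact functor. -/

set_option autoImplicit false
set_option backward.isDefEq.respectTransparency false
set_option backward.isDefEq.respectTransparency.types false
set_option linter.unusedSectionVars false

universe w v u u'

open CategoryTheory CategoryTheory.Limits CategoryTheory.Abelian Opposite

noncomputable section

namespace Groth.Agent.EtBCQ

open LCZ (seqCyc seqCyc_shortExact eCls homCyc homLift homLift_i homCls)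

variable {A : Type u} [Category.{v} A] [Abelian A] [HasExt.{v} A]
  {B : Type u'} [Category.{v} B] [Abelian B] [HasExt.{v} B]

section Classes

variable (K : CochainComplex A ℕ) (hex : ∀ n, K.ExactAt (n + 1)) (P : A)

/-- `Hom(P, K)` -/
abbrev homK : CochainComplex AddCommGrpCat.{v} ℕ :=
  ((preadditiveCoyoneda.obj (op P)).mapHomologicalComplex (ComplexShape.up ℕ)).obj K

/-- the map underlying a cycle -/
def cyc (n : ℕ) : ((homK K P).cycles n : AddCommGrpCat.{v}) →+ homCyc K P n :=
  AddMonoidHom.codRestrict ((homK K P).iCycles n).hom (homCyc K P n)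
    fun z => ConcreteCategory.congr_hom ((homK K P).iCycles_d n (n + 1)) z

theorem cyc_injective (n : ℕ) : Function.Injective (cyc K P n) := fun a b h =>
  (AddCommGrpCat.mono_iff_injective ((homK K P).iCycles n)).mp inferInstance (congrArg Subtype.val h)

theorem cyc_surjective (n : ℕ) : Function.Surjective (cyc K P n) := fun f => by
  let F : AddCommGrpCat.of (ULift.{v} ℤ) ⟶ (homK K P).X n :=
    AddCommGrpCat.ofHom ((zmultiplesHom (P ⟶ K.X n) f.1).comp AddEquiv.ulift.toAddMonoidHom)
  have h : F ≫ (homK K P).d n (n + 1) = 0 := by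
    ext ⟨m⟩
    show (m • f.1) ≫ K.d n (n + 1) = 0
    rw [Preadditive.zsmul_comp, show f.1 ≫ K.d n (n + 1) = 0 from f.2, smul_zero]
  refine ⟨(homK K P).liftCycles F (n + 1) (by simp) h ⟨1⟩, Subtype.ext ?_⟩
  show ((homK K P).iCycles n) ((homK K P).liftCycles F (n + 1) (by simp) h ⟨1⟩) = f.1
  exact (ConcreteCategory.congr_hom ((homK K P).liftCycles_i F (n + 1) (by simp) h) ⟨1⟩).trans (one_smul ℤ f.1)

/-- the class map on cycles -/
def clsCyc (n : ℕ) : (homK K P).cycles n ⟶ AddCommGrpCat.of (Ext P (K.cycles 0) n) :=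
  AddCommGrpCat.ofHom ((homCls K hex P n).comp (cyc K P n))

theorem toCycles_clsCyc (i n : ℕ) (hK : ∀ n m : ℕ, Subsingleton (Ext P (K.X n) (m + 1))) :
    (homK K P).toCycles i n ≫ clsCyc K hex P n = 0 := by
  by_cases hi : i + 1 = n
  · subst hi
    ext g
    change homCls K hex P (i + 1) (cyc K P (i + 1) ((homK K P).toCycles i (i + 1) g)) = 0
    refine (LCZ.homCls_succ_eq_zero_iff K hex P hK i _).2 ⟨g, ?_⟩
    exact (ConcreteCategory.congr_hom ((homK K P).toCycles_i i (i + 1)) g).symm
  · rw [show (homK K P).toCycles i n = 0 by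
      rw [← cancel_mono ((homK K P).iCycles n), HomologicalComplex.toCycles_i, zero_comp]
      exact (homK K P).shape _ _ hi, zero_comp]

variable (hK : ∀ n m : ℕ, Subsingleton (Ext P (K.X n) (m + 1)))

/-- homology of `Hom(P, K)` maps to `Ext` -/
def cls (n : ℕ) : (homK K P).homology n ⟶ AddCommGrpCat.of (Ext P (K.cycles 0) n) :=
  ((homK K P).homologyIsCokernel ((ComplexShape.up ℕ).prev n) n rfl).desc
    (CokernelCofork.ofπ (clsCyc K hex P n) (toCycles_clsCyc K hex P _ n hK))

theorem π_cls (n : ℕ) : (homK K P).homologyπ n ≫ cls K hex P hK n = clsCyc K hex P n :=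
  ((homK K P).homologyIsCokernel ((ComplexShape.up ℕ).prev n) n rfl).fac _ WalkingParallelPair.one

theorem cls_π (n : ℕ) (z : (homK K P).cycles n) :
    cls K hex P hK n ((homK K P).homologyπ n z) = homCls K hex P n (cyc K P n z) :=
  ConcreteCategory.congr_hom (π_cls K hex P hK n) z

theorem cls_bijective (n : ℕ) : Function.Bijective (cls K hex P hK n) := by
  have hπ : Function.Surjective ((homK K P).homologyπ n) := (AddCommGrpCat.epi_iff_surjective _).mp inferInstance
  refine ⟨(injective_iff_map_eq_zero (cls K hex P hK n).hom).mpr fun y hy => ?_, fun x => ?_⟩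
  · obtain ⟨z, rfl⟩ := hπ y
    have hy' : homCls K hex P n (cyc K P n z) = 0 := (cls_π K hex P hK n z).symm.trans hy
    rcases n with _ | p
    · have hz : cyc K P 0 z = 0 := Subtype.ext ((LCZ.homCls_zero_eq_zero_iff K hex P _).1 hy')
      rw [show z = 0 from cyc_injective K P 0 (hz.trans (map_zero _).symm)]
      exact map_zero _
    · obtain ⟨g, hg⟩ := (LCZ.homCls_succ_eq_zero_iff K hex P hK p _).1 hy'
      have hz : (homK K P).toCycles p (p + 1) g = z := cyc_injective K P (p + 1) (Subtype.ext (by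
        show ((homK K P).iCycles (p + 1)) ((homK K P).toCycles p (p + 1) g) = _
        exact (ConcreteCategory.congr_hom ((homK K P).toCycles_i p (p + 1)) g).trans hg))
      rw [← hz]
      exact ConcreteCategory.congr_hom ((homK K P).toCycles_comp_homologyπ p (p + 1)) g
  · obtain ⟨f, rfl⟩ := LCZ.homCls_surjective K hex P hK n x
    obtain ⟨z, rfl⟩ := cyc_surjective K P n f
    exact ⟨(homK K P).homologyπ n z, cls_π K hex P hK n z⟩

end Classes

section Change

variable {L : A ⥤ B} [L.Additive] [PreservesFiniteLimits L] [PreservesFiniteColimits L]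
  {K : CochainComplex A ℕ} {K' : CochainComplex B ℕ}
  (φ : (L.mapHomologicalComplex (ComplexShape.up ℕ)).obj K ⟶ K')

/-- the comparison of cycles -/
def cmpCyc (k : ℕ) : L.obj (K.cycles k) ⟶ K'.cycles k :=
  K'.liftCycles (L.map (K.iCycles k) ≫ φ.f k) (k + 1) (by simp) (by
    rw [Category.assoc, φ.comm, ← Category.assoc]
    refine (congrArg (· ≫ φ.f (k + 1)) ?_).trans zero_comp
    exact (L.map_comp _ _).symm.trans ((congrArg L.map (K.iCycles_d k (k + 1))).trans (L.map_zero _ _)))

theorem cmpCyc_i (k : ℕ) : cmpCyc φ k ≫ K'.iCycles k = L.map (K.iCycles k) ≫ φ.f k := K'.liftCycles_i _ _ _ _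

variable (hex : ∀ n, K.ExactAt (n + 1)) (hex' : ∀ n, K'.ExactAt (n + 1))

theorem eCls_map : ∀ k : ℕ, ((eCls K hex k).mapExactFunctor L).comp (Ext.mk₀ (cmpCyc φ 0)) (add_zero k) =
    (Ext.mk₀ (cmpCyc φ k)).comp (eCls K' hex' k) (zero_add k)
  | 0 => by
    rw [eCls, eCls, Ext.mapExactFunctor_mk₀, Ext.mk₀_comp_mk₀, Ext.mk₀_comp_mk₀, L.map_id, Category.id_comp,
      Category.comp_id]
  | k + 1 => by
    let hS := seqCyc_shortExact K hex k
    let hS' := seqCyc_shortExact K' hex' k
    let m : (seqCyc K k).map L ⟶ seqCyc K' k :=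
      { τ₁ := cmpCyc φ k
        τ₂ := φ.f k
        τ₃ := cmpCyc φ (k + 1)
        comm₁₂ := cmpCyc_i φ k
        comm₂₃ := by
          show φ.f k ≫ K'.toCycles k (k + 1) = L.map (K.toCycles k (k + 1)) ≫ cmpCyc φ (k + 1)
          rw [← cancel_mono (K'.iCycles (k + 1)), Category.assoc, Category.assoc, HomologicalComplex.toCycles_i,
            cmpCyc_i, ← L.map_comp_assoc, HomologicalComplex.toCycles_i]
          exact φ.comm k (k + 1) }
    have hn := ShortComplex.ShortExact.extClass_naturality (hS.map_of_exact L) hS' m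
    have ih := eCls_map k
    rw [eCls, eCls, Ext.mapExactFunctor_comp, Ext.mapExactFunctor_extClass L hS,
      Ext.comp_assoc (hS.map_of_exact L).extClass _ _ (Nat.add_comm 1 k) (add_zero k) (show 1 + k + 0 = k + 1 by omega),
      ih, ← Ext.comp_assoc (hS.map_of_exact L).extClass (Ext.mk₀ (cmpCyc φ k)) _ (add_zero 1) (zero_add k)
        (show 1 + 0 + k = k + 1 by omega)]
    refine (congrArg (fun e => e.comp (eCls K' hex' k) (Nat.add_comm 1 k)) hn).trans ?_
    exact Ext.comp_assoc _ _ _ (zero_add 1) (Nat.add_comm 1 k) (show 0 + 1 + k = k + 1 by omega)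

variable {P : A} {P' : B} (a : P' ⟶ L.obj P)

/-- the transported cocycle -/
def mapCyc (n : ℕ) (f : homCyc K P n) : homCyc K' P' n :=
  ⟨a ≫ L.map f.1 ≫ φ.f n, by
    show (a ≫ L.map f.1 ≫ φ.f n) ≫ K'.d n (n + 1) = 0
    rw [Category.assoc, Category.assoc, φ.comm]
    refine (congrArg (a ≫ ·) ((Category.assoc _ _ _).symm.trans ((congrArg (· ≫ φ.f (n + 1)) ?_).trans zero_comp))).trans
      comp_zero
    exact (L.map_comp _ _).symm.trans
      ((congrArg L.map (show f.1 ≫ K.d n (n + 1) = 0 from f.2)).trans (L.map_zero _ _))⟩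

theorem homCls_map (n : ℕ) (f : homCyc K P n) :
    (EtMV.T L a (K.cycles 0) n (homCls K hex P n f)).comp (Ext.mk₀ (cmpCyc φ 0)) (add_zero n) =
      homCls K' hex' P' n (mapCyc φ a n f) := by
  have hl : a ≫ L.map (homLift K P n f) ≫ cmpCyc φ n = homLift K' P' n (mapCyc φ a n f) := by
    rw [← cancel_mono (K'.iCycles n), homLift_i, Category.assoc, Category.assoc, cmpCyc_i,
      ← L.map_comp_assoc, homLift_i]
    rfl
  change (EtMV.T L a (K.cycles 0) n ((Ext.mk₀ (homLift K P n f)).comp (eCls K hex n) (zero_add n))).comp _ _ =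
    (Ext.mk₀ (homLift K' P' n (mapCyc φ a n f))).comp (eCls K' hex' n) (zero_add n)
  rw [← hl, EtMV.T_precomp, EtMV.T_apply,
    Ext.comp_assoc _ _ _ (zero_add n) (add_zero n) (show 0 + n + 0 = n by omega), eCls_map φ hex hex' n,
    Ext.mk₀_comp_mk₀_assoc, Category.assoc]

/-- the map `Hom(P, K) → Hom(P', K')` -/
def homKMap : homK K P ⟶ homK K' P' where
  f n := AddCommGrpCat.ofHom (AddMonoidHom.mk' (fun f : P ⟶ K.X n => (a ≫ L.map f ≫ φ.f n : P' ⟶ K'.X n))
    fun x y => by rw [L.map_add, Preadditive.add_comp, Preadditive.comp_add])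
  comm' i j _ := by
    ext f
    show (a ≫ L.map f ≫ φ.f i) ≫ K'.d i j = a ≫ L.map (f ≫ K.d i j) ≫ φ.f j
    rw [L.map_comp, Category.assoc, Category.assoc, Category.assoc, φ.comm]
    rfl

/-- the map on `Ext` -/
def extMap (n : ℕ) : Ext P (K.cycles 0) n →+ Ext P' (K'.cycles 0) n :=
  AddMonoidHom.mk' (fun x => (EtMV.T L a (K.cycles 0) n x).comp (Ext.mk₀ (cmpCyc φ 0)) (add_zero n)) fun x y => by
    rw [map_add, Ext.add_comp]

variable (hK : ∀ n m : ℕ, Subsingleton (Ext P (K.X n) (m + 1)))
  (hK' : ∀ n m : ℕ, Subsingleton (Ext P' (K'.X n) (m + 1)))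

theorem homologyMap_cls (n : ℕ) :
    HomologicalComplex.homologyMap (homKMap φ a) n ≫ cls K' hex' P' hK' n =
      cls K hex P hK n ≫ AddCommGrpCat.ofHom (extMap φ a n) := by
  rw [← cancel_epi ((homK K P).homologyπ n), HomologicalComplex.homologyπ_naturality_assoc, π_cls,
    ← Category.assoc, π_cls]
  ext z
  show homCls K' hex' P' n (cyc K' P' n (HomologicalComplex.cyclesMap (homKMap φ a) n z)) =
    (EtMV.T L a (K.cycles 0) n (homCls K hex P n (cyc K P n z))).comp (Ext.mk₀ (cmpCyc φ 0)) (add_zero n)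
  rw [homCls_map φ hex hex' a n]
  refine congrArg (homCls K' hex' P' n) (Subtype.ext ?_)
  show ((homK K' P').iCycles n) (HomologicalComplex.cyclesMap (homKMap φ a) n z) = _
  exact ConcreteCategory.congr_hom (HomologicalComplex.cyclesMap_i (homKMap φ a) n) z

include hex hex' hK hK' in
theorem isIso_homologyMap_homKMap_iff (n : ℕ) :
    IsIso (HomologicalComplex.homologyMap (homKMap φ a) n) ↔ Function.Bijective (extMap φ a n) := by
  haveI : IsIso (cls K hex P hK n) := (ConcreteCategory.isIso_iff_bijective _).2 (cls_bijective K hex P hK n)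
  haveI : IsIso (cls K' hex' P' hK' n) := (ConcreteCategory.isIso_iff_bijective _).2 (cls_bijective K' hex' P' hK' n)
  rw [← isIso_comp_right_iff (HomologicalComplex.homologyMap (homKMap φ a) n) (cls K' hex' P' hK' n),
    homologyMap_cls φ hex hex' a hK hK' n, isIso_comp_left_iff]
  exact ConcreteCategory.isIso_iff_bijective _

end Change

end Groth.Agent.EtBCQ
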