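import Groth.Agent.EtStrictLoc.Theta
import Groth.Agent.EtLimit.Free
import Mathlib

/-! Stalks of direct images and sections over schemes mapping to the strict localisation. -/

set_option autoImplicit false
set_option backward.isDefEq.respectTransparency false
set_option backward.isDefEq.respectTransparency.types false
set_option maxHeartbeats 4000000
set_option linter.style.haveILetI false
set_option linter.overlappingInstances false
set_option linter.unusedSectionVars false

universe u

open CategoryTheory CategoryTheory.Limits AlgebraicGeometry Opposite IsLocalRing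

noncomputable section

namespace Groth.Agent.EtBCQ

open EtLimit (fstE hm hm_fst bc_hom_ext bc_map_fst left_snd r_map r_add r_comp')
open EtMV (r r_natural δtop)
open EtStrictLoc (fib liftPt liftPt_w liftPt_map Γtop)

variable {T S : Scheme.{u}} (g : T ⟶ S) (s : S) (R : Type u) [CommRing R] [IsLocalRing R]
  [Algebra (S.presheaf.stalk s) R] [IsSepClosed (ResidueField R)] [HenselianLocalRing R]
  {P P' : Scheme.{u}} (a : P ⟶ T) (b : P ⟶ Spec (CommRingCat.of R)) (hab : a ≫ g = b ≫ Hens2.specOf S s R)

/-- the map into a pointed neighbourhood -/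
def δP (U : S.Etale) (v : (fib S s R).obj U) :
    EtCoh.top P ⟶ (EtCoh.bc a).obj ((EtCoh.bc g).obj U) :=
  hm _ _ _ (pullback.lift (b ≫ liftPt s R U v) a (by rw [Category.assoc, liftPt_w]; exact hab.symm))
    (by
      show pullback.lift _ _ _ ≫ pullback.snd U.hom g = 𝟙 _ ≫ _
      rw [pullback.lift_snd, Category.id_comp])

theorem δP_fst (U : S.Etale) (v : (fib S s R).obj U) :
    (δP g s R a b hab U v).left ≫ fstE a ((EtCoh.bc g).obj U) ≫ fstE g U = b ≫ liftPt s R U v := by
  rw [← Category.assoc, δP, hm_fst]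
  exact pullback.lift_fst _ _ _

theorem δP_snd (U : S.Etale) (v : (fib S s R).obj U) :
    (δP g s R a b hab U v).left ≫ fstE a ((EtCoh.bc g).obj U) ≫ ((EtCoh.bc g).obj U).hom = a := by
  rw [← Category.assoc, δP, hm_fst]
  exact pullback.lift_snd _ _ _

theorem δP_map {U U' : S.Etale} (c : U ⟶ U') (v : (fib S s R).obj U) :
    δP g s R a b hab U v ≫ (EtCoh.bc a).map ((EtCoh.bc g).map c) =
      δP g s R a b hab U' ((fib S s R).map c v) := by
  have e : (δP g s R a b hab U v ≫ (EtCoh.bc a).map ((EtCoh.bc g).map c)).left ≫ fstE a ((EtCoh.bc g).obj U') =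
      (δP g s R a b hab U v).left ≫ fstE a ((EtCoh.bc g).obj U) ≫ ((EtCoh.bc g).map c).left := by
    refine (Category.assoc (δP g s R a b hab U v).left ((EtCoh.bc a).map ((EtCoh.bc g).map c)).left _).trans ?_
    rw [bc_map_fst]
  refine bc_hom_ext _ _ _ (pullback.hom_ext (f := U'.hom) (g := g) ?_ ?_)
  · refine ((congrArg (· ≫ fstE g U') e).trans ?_).trans
      ((Category.assoc _ _ _).trans (δP_fst g s R a b hab U' _)).symm
    simp only [Category.assoc]
    rw [bc_map_fst g c, reassoc_of% (δP_fst g s R a b hab U v), liftPt_map]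
  · refine ((congrArg (· ≫ ((EtCoh.bc g).obj U').hom) e).trans ?_).trans
      ((Category.assoc _ _ _).trans (δP_snd g s R a b hab U' _)).symm
    simp only [Category.assoc]
    rw [MorphismProperty.Over.w ((EtCoh.bc g).map c)]
    exact δP_snd g s R a b hab U v

/-- the component -/
def θPApp (G : EtCoh.Ab T) :
    (EtCoh.stalk (Hens2.geomPt S s R)).obj ((EtCoh.push g).obj G) ⟶ (Γtop P).obj ((EtCoh.pull a).obj G) :=
  (Scheme.pointSmallEtale (Hens2.geomPt S s R)).presheafFiberDesc
    (P := ((EtCoh.push g).obj G).obj)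
    (fun U v => AddCommGrpCat.ofHom (AddMonoidHom.mk' (r a (δP g s R a b hab U v) G) (r_add _ _ G)))
    (fun U U' c v => by
      ext t
      refine (r_map a (δP g s R a b hab U v) ((EtCoh.bc g).map c) G t).trans ?_
      rw [δP_map]
      rfl)

theorem θPApp_germ (G : EtCoh.Ab T) (U : S.Etale) (v : (fib S s R).obj U)
    (t : EtCoh.sect G ((EtCoh.bc g).obj U)) :
    θPApp g s R a b hab G
        ((Scheme.pointSmallEtale (Hens2.geomPt S s R)).toPresheafFiber U v ((EtCoh.push g).obj G).obj t) =
      r a (δP g s R a b hab U v) G t :=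
  ConcreteCategory.congr_hom ((Scheme.pointSmallEtale (Hens2.geomPt S s R)).toPresheafFiber_presheafFiberDesc
    (P := ((EtCoh.push g).obj G).obj)
    (fun U v => AddCommGrpCat.ofHom (AddMonoidHom.mk' (r a (δP g s R a b hab U v) G) (r_add _ _ G))) _ U v) t

/-- stalk of the direct image to sections -/
def θP : EtCoh.push g ⋙ EtCoh.stalk (Hens2.geomPt S s R) ⟶ EtCoh.pull a ⋙ Γtop P where
  app := θPApp g s R a b hab
  naturality F G φ := by
    refine (Scheme.pointSmallEtale (Hens2.geomPt S s R)).presheafFiber_hom_ext fun U v => ?_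
    ext t
    show θPApp g s R a b hab G
        ((Scheme.pointSmallEtale (Hens2.geomPt S s R)).presheafFiber.map ((EtCoh.push g).map φ).hom _) =
      ((EtCoh.pull a).map φ).hom.app _ (θPApp g s R a b hab F _)
    refine Eq.trans ?_ ((congrArg (fun z => ((EtCoh.pull a).map φ).hom.app _ z)
      (θPApp_germ g s R a b hab F U v t)).trans (r_natural _ _ φ t)).symm
    refine Eq.trans (congrArg (fun z => θPApp g s R a b hab G z) ?_) (θPApp_germ g s R a b hab G U v _)
    exact GrothendieckTopology.Point.toPresheafFiber_naturality_apply _ ((EtCoh.push g).map φ).hom U v t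

/-- restriction of global sections along a map over `T` -/
def secRes {P P' T : Scheme.{u}} (m : P' ⟶ P) (a : P ⟶ T) (a' : P' ⟶ T) (w : m ≫ a = a') (G : EtCoh.Ab T) :
    (Γtop P).obj ((EtCoh.pull a).obj G) ⟶ (Γtop P').obj ((EtCoh.pull a').obj G) :=
  AddCommGrpCat.ofHom (AddMonoidHom.mk' (r m (δtop m) ((EtCoh.pull a).obj G)) (r_add _ _ _)) ≫
    ((EtMV.ψ m a a' w).hom.app G).hom.app (op (EtCoh.top P'))

theorem δtop_fst {P P' : Scheme.{u}} (m : P' ⟶ P) : (δtop m).left ≫ fstE m (EtCoh.top P) = m := by
  have h1 : (δtop m).left ≫ pullback.snd (EtCoh.top P).hom m = 𝟙 P' := MorphismProperty.Over.w (δtop m)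
  have h2 := pullback.condition (f := (EtCoh.top P).hom) (g := m)
  have h3 : fstE m (EtCoh.top P) = pullback.snd (EtCoh.top P).hom m ≫ m := (Category.comp_id _).symm.trans h2
  rw [h3, ← Category.assoc]
  exact (congrArg (· ≫ m) h1).trans (Category.id_comp m)

variable (a' : P' ⟶ T) (b' : P' ⟶ Spec (CommRingCat.of R)) (hab' : a' ≫ g = b' ≫ Hens2.specOf S s R)

theorem θP_secRes (m : P' ⟶ P) (w : m ≫ a = a') (wb : m ≫ b = b') (G : EtCoh.Ab T) :
    (θP g s R a b hab).app G ≫ secRes m a a' w G = (θP g s R a' b' hab').app G := by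
  refine (Scheme.pointSmallEtale (Hens2.geomPt S s R)).presheafFiber_hom_ext fun U v => ?_
  ext t
  show ((EtMV.ψ m a a' w).hom.app G).hom.app (op (EtCoh.top P'))
      (r m (δtop m) _ (θPApp g s R a b hab G _)) = θPApp g s R a' b' hab' G _
  erw [θPApp_germ, θPApp_germ]
  refine r_comp' m a a' w (δP g s R a b hab U v) (δtop m) (δP g s R a' b' hab' U v) ?_ G t
  refine pullback.hom_ext (f := U.hom) (g := g) ?_ ?_
  · simp only [Category.assoc]
    rw [δP_fst, δP_fst, ← wb, ← Category.assoc, δtop_fst, Category.assoc]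
  · simp only [Category.assoc]
    refine Eq.trans ?_ (δP_snd g s R a' b' hab' U v).symm
    rw [show pullback.snd U.hom g = ((EtCoh.bc g).obj U).hom from rfl, δP_snd, ← Category.assoc, δtop_fst, w]

theorem isIso_secRes (m : P' ⟶ P) [IsIso m] (w : m ≫ a = a') (G : EtCoh.Ab T) :
    IsIso (secRes m a a' w G) := by
  haveI : IsIso (AddCommGrpCat.ofHom (AddMonoidHom.mk' (r m (δtop m) ((EtCoh.pull a).obj G))
      (r_add m (δtop m) ((EtCoh.pull a).obj G)))) := by
    rw [ConcreteCategory.isIso_iff_bijective]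
    haveI : Etale m := inferInstance
    haveI := EtMV.jcont_etale m
    have hd := EtMV.r_bijective_etale m ((EtCoh.pull a).obj G)
    have hm' : δtop m ≫ (EtCoh.bc m).map (MorphismProperty.Over.homMk (inv m) (IsIso.inv_hom_id m) :
        EtCoh.top P ⟶ Scheme.Etale.mk m) = EtMV.δd m := by
      refine bc_hom_ext _ _ _ ?_
      refine (Category.assoc _ _ _).trans ?_
      rw [bc_map_fst, ← Category.assoc, δtop_fst]
      exact (IsIso.hom_inv_id m).trans (pullback.lift_fst _ _ _).symm
    rw [← hm'] at hd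
    let e : EtCoh.top P ⟶ Scheme.Etale.mk m := MorphismProperty.Over.homMk (inv m) (IsIso.inv_hom_id m)
    haveI : IsIso e := ⟨MorphismProperty.Over.homMk m (Category.comp_id _),
      MorphismProperty.Over.Hom.ext (IsIso.inv_hom_id m), MorphismProperty.Over.Hom.ext (IsIso.hom_inv_id m)⟩
    have he : r m (δtop m ≫ (EtCoh.bc m).map e) ((EtCoh.pull a).obj G) =
        r m (δtop m) ((EtCoh.pull a).obj G) ∘ ((EtCoh.pull a).obj G).obj.map e.op :=
      funext fun x => (r_map m (δtop m) e _ x).symm
    rw [he] at hd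
    exact (Function.Bijective.of_comp_iff _ (ConcreteCategory.bijective_of_isIso _)).1 hd
  unfold secRes
  infer_instance

theorem θP_fst_snd : θP g s R (pullback.fst g (Hens2.specOf S s R)) (pullback.snd g (Hens2.specOf S s R))
    pullback.condition = EtStrictLoc.theta g s R := rfl

theorem isIso_θP [QuasiCompact g] [QuasiSeparated g] [IsLocalHom (algebraMap (S.presheaf.stalk s) R)]
    [_root_.Hensel.IsStrictHenselization (S.presheaf.stalk s) R]
    (H : IsPullback a b g (Hens2.specOf S s R)) (G : EtCoh.Ab T) : IsIso ((θP g s R a b H.w).app G) := by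
  rw [← θP_secRes g s R (pullback.fst g _) (pullback.snd g _) pullback.condition a b H.w H.isoPullback.hom
    H.isoPullback_hom_fst H.isoPullback_hom_snd G, θP_fst_snd]
  haveI := isIso_secRes (pullback.fst g (Hens2.specOf S s R)) a H.isoPullback.hom H.isoPullback_hom_fst G
  infer_instance

end Groth.Agent.EtBCQ
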