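import Groth.Agent.EtStrictLoc.Main
import Groth.Agent.EtBCQ.HomExt
import Groth.Agent.EtBCQ.Restrict
import Groth.Prelude.Def_RDer
import Mathlib

/-! Global sections, acyclicity and cycles. -/

set_option autoImplicit false
set_option backward.isDefEq.respectTransparency false
set_option backward.isDefEq.respectTransparency.types false
set_option maxHeartbeats 4000000
set_option linter.style.haveILetI false
set_option linter.overlappingInstances false
set_option linter.unusedSectionVars false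
set_option linter.auxLemma false

universe u

open CategoryTheory CategoryTheory.Limits CategoryTheory.Abelian AlgebraicGeometry Opposite IsLocalRing

noncomputable section

namespace Groth.Agent.EtBCQ

attribute [local instance 100000] EtCoh.H._proof_1 Groth.Agent.EtMV.hext
attribute [local instance 200000] Groth.Agent.EtMV.hextAb

open EtMV (r κ κ_comp δtop cc θ σ)
open EtStrictLoc (Γtop secIso)

theorem κ_eq {Y : Scheme.{u}} {G : EtCoh.Ab Y} (φ : EtCoh.const Y ℤ ⟶ G) : κ φ = σ ((θ Y).inv ≫ φ) := by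
  rw [EtMV.σ_comp, θ, Equiv.apply_symm_apply]
  rfl

theorem secIso_hom_apply {Y : Scheme.{u}} {G : EtCoh.Ab Y} (φ : EtCoh.const Y ℤ ⟶ G) :
    (secIso Y).hom.app G φ = κ φ := by
  rw [κ_eq]
  show σ ((θ Y).inv ≫ φ ≫ 𝟙 G) = _
  rw [Category.comp_id]

theorem κ_pull {Y X : Scheme.{u}} (m : Y ⟶ X) {G : EtCoh.Ab X} (φ : EtCoh.const X ℤ ⟶ G) :
    κ ((EtCore.pullConst m ℤ).inv ≫ (EtCoh.pull m).map φ) = r m (δtop m) G (κ φ) := by
  rw [κ_comp, EtMV.κ_pullConst m (δtop m), EtMV.r_natural]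
  rfl

/-- `Ext` out of isomorphic objects -/
theorem subsingleton_ext_of_iso {C : Type*} [Category* C] [Abelian C] [HasExt C] {P P' G G' : C} (p : P' ≅ P)
    (i : G ≅ G') (n : ℕ) [Subsingleton (Ext P G n)] : Subsingleton (Ext P' G' n) := by
  have h : ∀ x : Ext P' G' n, x = (Ext.mk₀ p.hom).comp (((Ext.mk₀ p.inv).comp x (zero_add n)).comp
      (Ext.mk₀ i.inv) (add_zero n) |>.comp (Ext.mk₀ i.hom) (add_zero n)) (zero_add n) := fun x => by
    rw [Ext.comp_assoc_of_second_deg_zero, Ext.mk₀_comp_mk₀, i.inv_hom_id, Ext.comp_mk₀_id,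
      Ext.mk₀_comp_mk₀_assoc, p.hom_inv_id, Ext.mk₀_id_comp]
  refine ⟨fun x y => ?_⟩
  rw [h x, h y, Subsingleton.elim ((Ext.mk₀ p.inv).comp x (zero_add n) |>.comp (Ext.mk₀ i.inv) (add_zero n))
    ((Ext.mk₀ p.inv).comp y (zero_add n) |>.comp (Ext.mk₀ i.inv) (add_zero n))]

variable {T S : Scheme.{u}} (g : T ⟶ S) (s : S) (R : Type u) [CommRing R] [IsLocalRing R]
  [Algebra (S.presheaf.stalk s) R] [IsSepClosed (ResidueField R)] [HenselianLocalRing R]
  [QuasiCompact g] [QuasiSeparated g] [IsLocalHom (algebraMap (S.presheaf.stalk s) R)]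
  [_root_.Hensel.IsStrictHenselization (S.presheaf.stalk s) R]

theorem subsingleton_ext_pull_injective {P : Scheme.{u}} (a : P ⟶ T) (b : P ⟶ Spec (CommRingCat.of R))
    (H : IsPullback a b g (Hens2.specOf S s R)) (J : EtCoh.Ab T) [Injective J] (n : ℕ) :
    Subsingleton (Ext (EtCoh.const P ℤ) ((EtCoh.pull a).obj J) (n + 1)) := by
  let xr := pullback g (Hens2.specOf S s R)
  let τ : P ⟶ xr := H.isoPullback.hom
  haveI : Etale τ := inferInstance
  haveI := EtStrictLoc.subsingleton_H_injective g s R J n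
  haveI h1 : Subsingleton (Ext (EtCoh.const xr ℤ) ((EtCoh.pull (pullback.fst g (Hens2.specOf S s R))).obj J) (n + 1)) :=
    (EtMV.toH xr _ (n + 1)).toEquiv.subsingleton
  let t : Scheme.Etale.mk τ ≅ EtCoh.top xr :=
    MorphismProperty.Over.isoMk (asIso τ) (Category.comp_id _)
  haveI h2 : Subsingleton (Ext ((EtMV.P xr).obj (Scheme.Etale.mk τ))
      ((EtCoh.pull (pullback.fst g (Hens2.specOf S s R))).obj J) (n + 1)) :=
    subsingleton_ext_of_iso ((EtMV.P xr).mapIso t ≪≫ (θ xr).symm) (Iso.refl _) _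
  haveI h3 := (EtMV.subsingleton_H_iff_of_etale τ ((EtCoh.pull (pullback.fst g (Hens2.specOf S s R))).obj J) (n + 1)).2 h2
  haveI h4 : Subsingleton (Ext (EtCoh.const P ℤ)
      ((EtCoh.pull τ).obj ((EtCoh.pull (pullback.fst g (Hens2.specOf S s R))).obj J)) (n + 1)) :=
    (EtMV.toH P _ (n + 1)).toEquiv.subsingleton
  exact @subsingleton_ext_of_iso _ _ _ _ _ _ _ _ (Iso.refl _)
    ((EtMV.ψ τ (pullback.fst g (Hens2.specOf S s R)) a H.isoPullback_hom_fst).app J) _ h4

section Cycles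

variable {A : Type*} [Category* A] [Abelian A] {Y : A} (K : CochainComplex A ℕ)
  (ι : (CochainComplex.single₀ A).obj Y ⟶ K) [QuasiIso ι]

/-- the resolved object as zero cycles -/
def jCyc : Y ⟶ K.cycles 0 := K.liftCycles (ι.f 0) 1 (by simp) (RDer.res_ι_d K ι)

theorem jCyc_i : jCyc K ι ≫ K.iCycles 0 = ι.f 0 := K.liftCycles_i _ _ _ _

instance isIso_jCyc : IsIso (jCyc K ι) := by
  let hl := RDer.resIsLimitKernelFork K ι
  let j : K.cycles 0 ⟶ Y := hl.lift (KernelFork.ofι (K.iCycles 0) (K.iCycles_d 0 1))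
  have hj : j ≫ ι.f 0 = K.iCycles 0 := hl.fac _ WalkingParallelPair.zero
  haveI := RDer.res_mono K ι
  refine ⟨j, ?_, ?_⟩
  · rw [← cancel_mono (ι.f 0), Category.assoc, hj, jCyc_i]
    exact (Category.id_comp (ι.f 0)).symm
  · rw [← cancel_mono (K.iCycles 0), Category.assoc, jCyc_i, hj]
    exact (Category.id_comp _).symm

end Cycles

end Groth.Agent.EtBCQ
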