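import Groth.Agent.EtBCQ.Square

/-! Composition of base change maps on complexes. -/

set_option autoImplicit false
set_option backward.isDefEq.respectTransparency false
set_option backward.isDefEq.respectTransparency.types false
set_option linter.unusedSectionVars false

universe v₁ v₂ v₃ v₄ v₅ v₆ u₁ u₂ u₃ u₄ u₅ u₆

open CategoryTheory CategoryTheory.Limits

noncomputable section

namespace Groth.Agent.EtBCQ

variable {A : Type u₁} [Category.{v₁} A] [Abelian A] {B : Type u₂} [Category.{v₂} B] [Abelian B]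
  {A₁ : Type u₃} [Category.{v₃} A₁] [Abelian A₁] {B₁ : Type u₄} [Category.{v₄} B₁] [Abelian B₁]
  {A₂ : Type u₅} [Category.{v₅} A₂] [Abelian A₂] {B₂ : Type u₆} [Category.{v₆} B₂] [Abelian B₂]
  {F : A ⥤ B} [F.Additive] {H : A₁ ⥤ B₁} [H.Additive] {J : A₂ ⥤ B₂} [J.Additive]
  {Pf : B ⥤ B₁} [Pf.Additive] {Pi : B₁ ⥤ B₂} [Pi.Additive] {Pe : A ⥤ A₁} [Pe.Additive] {Pk : A₁ ⥤ A₂} [Pk.Additive]
  {Po : B ⥤ B₂} [Po.Additive] {Po' : A ⥤ A₂} [Po'.Additive]

/-- An injective resolution transported along an isomorphism. -/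
def resOfIso {N N' : A} (u : N ≅ N') (R : InjectiveResolution N') : InjectiveResolution N where
  cocomplex := R.cocomplex
  injective := R.injective
  ι := (CochainComplex.single₀ A).map u.hom ≫ R.ι

theorem resOfIso_ι {N N' : A} (u : N ≅ N') (R : InjectiveResolution N') :
    (resOfIso u R).ι.f 0 = u.hom ≫ R.ι.f 0 := by
  simp [resOfIso]

/-- composite of the maps on resolutions -/
def sPaste (u' : Po' ≅ Pe ⋙ Pk) {R : CochainComplex A ℕ} {J₁ : CochainComplex A₁ ℕ} {J₂ : CochainComplex A₂ ℕ}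
    (s₁ : (Pe.mapHomologicalComplex (ComplexShape.up ℕ)).obj R ⟶ J₁)
    (s₂ : (Pk.mapHomologicalComplex (ComplexShape.up ℕ)).obj J₁ ⟶ J₂) :
    (Po'.mapHomologicalComplex (ComplexShape.up ℕ)).obj R ⟶ J₂ where
  f n := u'.hom.app (R.X n) ≫ Pk.map (s₁.f n) ≫ s₂.f n
  comm' i j _ := by
    have h₁ := congrArg Pk.map (s₁.comm i j)
    have h₂ := s₂.comm i j
    simp only [Functor.map_comp, Functor.mapHomologicalComplex_obj_d] at h₁ h₂ ⊢
    rw [Category.assoc, Category.assoc, h₂, reassoc_of% h₁]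
    exact (u'.hom.naturality_assoc (R.d i j) _).symm

variable (σ₁ : F ⋙ Pf ⟶ Pe ⋙ H) (σ₂ : H ⋙ Pi ⟶ Pk ⋙ J) (σo : F ⋙ Po ⟶ Po' ⋙ J)
  (u : Po ≅ Pf ⋙ Pi) (u' : Po' ≅ Pe ⋙ Pk)
  (hp : ∀ M, σo.app M = u.hom.app (F.obj M) ≫ Pi.map (σ₁.app M) ≫ σ₂.app (Pe.obj M) ≫ J.map (u'.inv.app M))

/-- the comparison isomorphism of complexes -/
def uCx (K : CochainComplex B ℕ) :
    (Po.mapHomologicalComplex (ComplexShape.up ℕ)).obj K ≅
      (Pi.mapHomologicalComplex (ComplexShape.up ℕ)).obj ((Pf.mapHomologicalComplex (ComplexShape.up ℕ)).obj K) :=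
  HomologicalComplex.Hom.isoOfComponents (fun n => u.app (K.X n)) fun i j _ => (u.hom.naturality (K.d i j)).symm

include hp in
theorem natMap_paste {R : CochainComplex A ℕ} {J₁ : CochainComplex A₁ ℕ} {J₂ : CochainComplex A₂ ℕ}
    (s₁ : (Pe.mapHomologicalComplex (ComplexShape.up ℕ)).obj R ⟶ J₁)
    (s₂ : (Pk.mapHomologicalComplex (ComplexShape.up ℕ)).obj J₁ ⟶ J₂) :
    natMap σo (sPaste u' s₁ s₂) = (uCx u ((F.mapHomologicalComplex (ComplexShape.up ℕ)).obj R)).hom ≫
      (Pi.mapHomologicalComplex (ComplexShape.up ℕ)).map (natMap σ₁ s₁) ≫ natMap σ₂ s₂ := by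
  ext n
  have hn := σ₂.naturality (s₁.f n)
  simp only [Functor.comp_map] at hn
  simp only [natMap, sPaste, uCx, HomologicalComplex.comp_f, Functor.mapHomologicalComplex_map_f,
    HomologicalComplex.Hom.isoOfComponents_hom_f, Iso.app_hom, Functor.map_comp, Category.assoc]
  rw [hp]
  simp only [Category.assoc]
  erw [reassoc_of% hn]
  rw [← Functor.map_comp_assoc, Iso.inv_hom_id_app]
  erw [J.map_id, Category.id_comp]
  rfl

include hp in
theorem isIso_paste_iff [Pi.PreservesHomology] {R : CochainComplex A ℕ} {J₁ : CochainComplex A₁ ℕ}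
    {J₂ : CochainComplex A₂ ℕ} (s₁ : (Pe.mapHomologicalComplex (ComplexShape.up ℕ)).obj R ⟶ J₁)
    (s₂ : (Pk.mapHomologicalComplex (ComplexShape.up ℕ)).obj J₁ ⟶ J₂) (q : ℕ) :
    IsIso (HomologicalComplex.homologyMap (natMap σo (sPaste u' s₁ s₂)) q) ↔
      IsIso (HomologicalComplex.homologyMap
          ((Pi.mapHomologicalComplex (ComplexShape.up ℕ)).map (natMap σ₁ s₁)) q ≫
        HomologicalComplex.homologyMap (natMap σ₂ s₂) q) := by
  rw [natMap_paste σ₁ σ₂ σo u u' hp, HomologicalComplex.homologyMap_comp, HomologicalComplex.homologyMap_comp,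
    isIso_comp_left_iff]

theorem isIso_homologyMap_map (P : B ⥤ B₁) [P.Additive] [P.PreservesHomology] {K L : CochainComplex B ℕ} (φ : K ⟶ L)
    (q : ℕ) [IsIso (HomologicalComplex.homologyMap φ q)] :
    IsIso (HomologicalComplex.homologyMap ((P.mapHomologicalComplex (ComplexShape.up ℕ)).map φ) q) := by
  haveI : QuasiIsoAt φ q := (quasiIsoAt_iff_isIso_homologyMap φ q).2 inferInstance
  exact (quasiIsoAt_iff_isIso_homologyMap _ q).1 inferInstance

theorem homologyMap_map_eq (P : B ⥤ B₁) [P.Additive] [P.PreservesHomology] {K L : CochainComplex B ℕ} (φ : K ⟶ L)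
    (q : ℕ) :
    HomologicalComplex.homologyMap ((P.mapHomologicalComplex (ComplexShape.up ℕ)).map φ) q =
      ((K.sc q).mapHomologyIso P).hom ≫ P.map (HomologicalComplex.homologyMap φ q) ≫
        ((L.sc q).mapHomologyIso P).inv := by
  rw [← Category.assoc, Iso.eq_comp_inv]
  exact ShortComplex.mapHomologyIso_hom_naturality
    ((HomologicalComplex.shortComplexFunctor B (ComplexShape.up ℕ) q).map φ) P

end Groth.Agent.EtBCQ
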