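import Groth.Prelude.Def_EtBase
import Groth.Agent.EtStalk.Sheaf
import Mathlib

/-! Geometric points differing by an extension of separably closed fields. -/

set_option autoImplicit false
set_option backward.isDefEq.respectTransparency false
set_option backward.isDefEq.respectTransparency.types false
set_option linter.style.haveILetI false

universe u

open CategoryTheory CategoryTheory.Limits AlgebraicGeometry Opposite

noncomputable section

namespace Groth.Agent.EtBCQ

variable {k Ω : Type u} [Field k] [IsSepClosed k] [Field Ω] [IsSepClosed Ω] (ext : k →+* Ω)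

theorem exists_factor {A : Type u} [CommRing A] [Algebra k A] [Algebra.FiniteType k A]
    [Algebra.FormallyUnramified k A] (σ : A →+* Ω) (hσ : σ.comp (algebraMap k A) = ext) :
    ∃ τ : A →ₐ[k] k, ext.comp τ.toRingHom = σ := by
  let q := RingHom.ker σ
  haveI : q.IsPrime := RingHom.ker_isPrime σ
  haveI : Module.Finite k A := Algebra.FormallyUnramified.finite_of_free k A
  haveI : Algebra.IsIntegral k (A ⧸ q) := inferInstance
  letI : Field (A ⧸ q) := (isField_of_isIntegral_of_isField' (R := k) (S := A ⧸ q) (Field.toIsField k)).toField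
  haveI : Algebra.FormallyUnramified k (A ⧸ q) :=
    Algebra.FormallyUnramified.of_surjective (Ideal.Quotient.mkₐ k q) Ideal.Quotient.mk_surjective
  haveI : Algebra.EssFiniteType k (A ⧸ q) := inferInstance
  haveI : Algebra.IsSeparable k (A ⧸ q) := Algebra.FormallyUnramified.isSeparable k (A ⧸ q)
  let e := AlgEquiv.ofBijective (Algebra.ofId k (A ⧸ q)) (IsSepClosed.algebraMap_bijective k (A ⧸ q))
  refine ⟨e.symm.toAlgHom.comp (Ideal.Quotient.mkₐ k q), RingHom.ext fun a => ?_⟩
  have h1 : algebraMap k (A ⧸ q) (e.symm (Ideal.Quotient.mk q a)) = Ideal.Quotient.mk q a :=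
    e.apply_symm_apply _
  rw [← Ideal.Quotient.mk_algebraMap, Ideal.Quotient.eq] at h1
  have h2 : σ (algebraMap k A (e.symm (Ideal.Quotient.mk q a)) - a) = 0 := h1
  rw [map_sub, sub_eq_zero, ← RingHom.comp_apply, hσ] at h2
  exact h2

/-- A point with values in the bigger field of an étale scheme descends. -/
theorem exists_desc {S : Scheme.{u}} (ξ : Spec (CommRingCat.of k) ⟶ S) (U : S.Etale)
    (v : Spec (CommRingCat.of Ω) ⟶ U.left) (hv : v ≫ U.hom = Spec.map (CommRingCat.ofHom ext) ≫ ξ) :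
    ∃ w : Spec (CommRingCat.of k) ⟶ U.left, w ≫ U.hom = ξ ∧ Spec.map (CommRingCat.ofHom ext) ≫ w = v := by
  haveI : Etale U.hom := U.prop
  let p := pullback.snd U.hom ξ
  let v' : Spec (CommRingCat.of Ω) ⟶ pullback U.hom ξ := pullback.lift v (Spec.map (CommRingCat.ofHom ext)) hv
  obtain ⟨W, hW, hxW, -⟩ := exists_isAffineOpen_mem_and_subset (X := pullback U.hom ξ)
    (x := v' (default : Spec (CommRingCat.of Ω))) (U := ⊤) trivial
  have hr : Set.range v' ⊆ Set.range hW.fromSpec := by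
    rintro _ ⟨z, rfl⟩
    rw [hW.range_fromSpec, Subsingleton.elim (α := Spec (CommRingCat.of Ω)) z default]
    exact hxW
  obtain ⟨φ, hφ⟩ := Spec.map_surjective (hW.fromSpec ≫ p)
  obtain ⟨σ, hσ⟩ := Spec.map_surjective (IsOpenImmersion.lift hW.fromSpec v' hr)
  have hE : Etale (Spec.map φ) := by rw [hφ]; infer_instance
  algebraize [φ.hom]
  have : Algebra.Etale k Γ(pullback U.hom ξ, W) :=
    (HasRingHomProperty.Spec_iff (P := @AlgebraicGeometry.Etale)).mp hE
  have hc : φ ≫ σ = CommRingCat.ofHom ext := by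
    apply Spec.map_injective
    rw [Spec.map_comp, hσ, hφ, ← Category.assoc, IsOpenImmersion.lift_fac, pullback.lift_snd]
  obtain ⟨τ, hτ⟩ := exists_factor ext σ.hom (congrArg CommRingCat.Hom.hom hc)
  let s := Spec.map (CommRingCat.ofHom τ.toRingHom) ≫ hW.fromSpec
  have hs : s ≫ p = 𝟙 _ := by
    refine (Category.assoc _ _ _).trans ((congrArg (Spec.map (CommRingCat.ofHom τ.toRingHom) ≫ ·) hφ.symm).trans ?_)
    rw [← Spec.map_comp, ← Spec.map_id]
    congr 1; ext r; exact τ.commutes r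
  have hs' : Spec.map (CommRingCat.ofHom ext) ≫ s = v' := by
    rw [← IsOpenImmersion.lift_fac hW.fromSpec v' hr, ← hσ, ← Category.assoc, ← Spec.map_comp]
    congr 2; ext a; exact RingHom.congr_fun hτ a
  refine ⟨s ≫ pullback.fst U.hom ξ, ?_, ?_⟩
  · rw [Category.assoc, pullback.condition, ← Category.assoc]
    exact (congrArg (· ≫ ξ) hs).trans (Category.id_comp _)
  · rw [← Category.assoc, hs']
    exact pullback.lift_fst _ _ _

omit [IsSepClosed k] [IsSepClosed Ω] in
/-- Such a descent is unique. -/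
theorem desc_ext {S W : Scheme.{u}} (q : W ⟶ S) [Etale q] {a₁ a₂ : Spec (CommRingCat.of k) ⟶ W}
    (h : a₁ ≫ q = a₂ ≫ q)
    (he : Spec.map (CommRingCat.ofHom ext) ≫ a₁ = Spec.map (CommRingCat.ofHom ext) ≫ a₂) : a₁ = a₂ := by
  let d : Spec (CommRingCat.of k) ⟶ pullback q q := pullback.lift a₁ a₂ h
  haveI : IsOpenImmersion (pullback.diagonal q) := inferInstance
  let ε := Spec.map (CommRingCat.ofHom ext)
  have hd : ε ≫ d = (ε ≫ a₁) ≫ pullback.diagonal q := by
    apply pullback.hom_ext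
    · simp only [Category.assoc, d, pullback.lift_fst, pullback.diagonal_fst, Category.comp_id]
    · simp only [Category.assoc, d, pullback.lift_snd, pullback.diagonal_snd, Category.comp_id]
      exact he.symm
  have hr : Set.range d ⊆ Set.range (pullback.diagonal q) := by
    rintro _ ⟨z, rfl⟩
    rw [Subsingleton.elim (α := Spec (CommRingCat.of k)) z (ε default)]
    exact ⟨(ε ≫ a₁) default, congr($hd.symm (default : Spec (CommRingCat.of Ω)))⟩
  have key := IsOpenImmersion.lift_fac (pullback.diagonal q) d hr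
  have h1 := congrArg (· ≫ pullback.fst q q) key
  have h2 := congrArg (· ≫ pullback.snd q q) key
  simp only [Category.assoc, pullback.diagonal_fst, pullback.diagonal_snd, Category.comp_id, d, pullback.lift_fst,
    pullback.lift_snd] at h1 h2
  exact h1.symm.trans h2

variable {S : Scheme.{u}} (ξ : Spec (CommRingCat.of k) ⟶ S) (ξ' : Spec (CommRingCat.of Ω) ⟶ S)
  (hξ : Spec.map (CommRingCat.ofHom ext) ≫ ξ = ξ')

/-- extension of a point -/
def upPt (U : S.Etale) (v : (Scheme.pointSmallEtale ξ).fiber.obj U) : (Scheme.pointSmallEtale ξ').fiber.obj U :=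
  (Over.homMk (Spec.map (CommRingCat.ofHom ext) ≫ (v : Over.mk ξ ⟶ (Scheme.Etale.forget S).obj U).left)
    (by
      refine (Category.assoc _ _ _).trans ?_
      refine (congrArg (Spec.map (CommRingCat.ofHom ext) ≫ ·)
        (Over.w (v : Over.mk ξ ⟶ (Scheme.Etale.forget S).obj U))).trans ?_
      exact hξ) : Over.mk ξ' ⟶ (Scheme.Etale.forget S).obj U)

include hξ in
theorem upPt_bijective (U : S.Etale) : Function.Bijective (upPt ext ξ ξ' hξ U) := by
  haveI : Etale U.hom := U.prop
  refine ⟨fun a b hab => Over.OverMorphism.ext ?_, fun v => ?_⟩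
  · exact desc_ext ext U.hom ((Over.w (a : Over.mk ξ ⟶ (Scheme.Etale.forget S).obj U)).trans
      (Over.w (b : Over.mk ξ ⟶ (Scheme.Etale.forget S).obj U)).symm)
      (congrArg (fun z => (z : Over.mk ξ' ⟶ (Scheme.Etale.forget S).obj U).left) hab)
  · obtain ⟨w, hw, hwv⟩ := exists_desc ext ξ U (v : Over.mk ξ' ⟶ (Scheme.Etale.forget S).obj U).left
      ((Over.w (v : Over.mk ξ' ⟶ (Scheme.Etale.forget S).obj U)).trans hξ.symm)
    exact ⟨(Over.homMk w hw : Over.mk ξ ⟶ (Scheme.Etale.forget S).obj U), Over.OverMorphism.ext hwv⟩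

/-- descent of a point -/
def downPt (U : S.Etale) (v : (Scheme.pointSmallEtale ξ').fiber.obj U) : (Scheme.pointSmallEtale ξ).fiber.obj U :=
  (Equiv.ofBijective _ (upPt_bijective ext ξ ξ' hξ U)).symm v

theorem upPt_downPt (U : S.Etale) (v : (Scheme.pointSmallEtale ξ').fiber.obj U) :
    upPt ext ξ ξ' hξ U (downPt ext ξ ξ' hξ U v) = v :=
  (Equiv.ofBijective _ (upPt_bijective ext ξ ξ' hξ U)).apply_symm_apply v

theorem downPt_upPt (U : S.Etale) (v : (Scheme.pointSmallEtale ξ).fiber.obj U) :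
    downPt ext ξ ξ' hξ U (upPt ext ξ ξ' hξ U v) = v :=
  (Equiv.ofBijective _ (upPt_bijective ext ξ ξ' hξ U)).symm_apply_apply v

theorem upPt_map {U U' : S.Etale} (g : U ⟶ U') (v : (Scheme.pointSmallEtale ξ).fiber.obj U) :
    (Scheme.pointSmallEtale ξ').fiber.map g (upPt ext ξ ξ' hξ U v) =
      upPt ext ξ ξ' hξ U' ((Scheme.pointSmallEtale ξ).fiber.map g v) :=
  Over.OverMorphism.ext (Category.assoc _ _ _)

theorem downPt_map {U U' : S.Etale} (g : U ⟶ U') (v : (Scheme.pointSmallEtale ξ').fiber.obj U) :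
    (Scheme.pointSmallEtale ξ).fiber.map g (downPt ext ξ ξ' hξ U v) =
      downPt ext ξ ξ' hξ U' ((Scheme.pointSmallEtale ξ').fiber.map g v) := by
  refine (upPt_bijective ext ξ ξ' hξ U').1 ?_
  rw [upPt_downPt, ← upPt_map, upPt_downPt]

/-- stalk at the bigger point to stalk at the smaller one -/
def stalkDown (A : EtCoh.Ab S) : (EtCoh.stalk ξ').obj A ⟶ (EtCoh.stalk ξ).obj A :=
  (Scheme.pointSmallEtale ξ').presheafFiberDesc (P := A.obj)
    (fun U v => (Scheme.pointSmallEtale ξ).toPresheafFiber U (downPt ext ξ ξ' hξ U v) A.obj) (fun U U' g v => by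
      rw [← downPt_map]
      exact (Scheme.pointSmallEtale ξ).toPresheafFiber_w g (downPt ext ξ ξ' hξ U v) A.obj)

theorem stalkDown_germ (A : EtCoh.Ab S) (U : S.Etale) (v : (Scheme.pointSmallEtale ξ').fiber.obj U)
    (t : EtCoh.sect A U) :
    stalkDown ext ξ ξ' hξ A ((Scheme.pointSmallEtale ξ').toPresheafFiber U v A.obj t) =
      (Scheme.pointSmallEtale ξ).toPresheafFiber U (downPt ext ξ ξ' hξ U v) A.obj t :=
  ConcreteCategory.congr_hom ((Scheme.pointSmallEtale ξ').toPresheafFiber_presheafFiberDesc (P := A.obj)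
    (fun U v => (Scheme.pointSmallEtale ξ).toPresheafFiber U (downPt ext ξ ξ' hξ U v) A.obj) _ U v) t

/-- stalk at the smaller point to stalk at the bigger one -/
def stalkUp (A : EtCoh.Ab S) : (EtCoh.stalk ξ).obj A ⟶ (EtCoh.stalk ξ').obj A :=
  (Scheme.pointSmallEtale ξ).presheafFiberDesc (P := A.obj)
    (fun U v => (Scheme.pointSmallEtale ξ').toPresheafFiber U (upPt ext ξ ξ' hξ U v) A.obj) (fun U U' g v => by
      rw [← upPt_map]
      exact (Scheme.pointSmallEtale ξ').toPresheafFiber_w g (upPt ext ξ ξ' hξ U v) A.obj)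

theorem stalkUp_germ (A : EtCoh.Ab S) (U : S.Etale) (v : (Scheme.pointSmallEtale ξ).fiber.obj U)
    (t : EtCoh.sect A U) :
    stalkUp ext ξ ξ' hξ A ((Scheme.pointSmallEtale ξ).toPresheafFiber U v A.obj t) =
      (Scheme.pointSmallEtale ξ').toPresheafFiber U (upPt ext ξ ξ' hξ U v) A.obj t :=
  ConcreteCategory.congr_hom ((Scheme.pointSmallEtale ξ).toPresheafFiber_presheafFiberDesc (P := A.obj)
    (fun U v => (Scheme.pointSmallEtale ξ').toPresheafFiber U (upPt ext ξ ξ' hξ U v) A.obj) _ U v) t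

theorem stalkUp_natural {A B : EtCoh.Ab S} (φ : A ⟶ B) :
    (EtCoh.stalk ξ).map φ ≫ stalkUp ext ξ ξ' hξ B = stalkUp ext ξ ξ' hξ A ≫ (EtCoh.stalk ξ').map φ := by
  refine (Scheme.pointSmallEtale ξ).presheafFiber_hom_ext fun U v => ?_
  ext t
  show stalkUp ext ξ ξ' hξ B ((Scheme.pointSmallEtale ξ).presheafFiber.map φ.hom _) =
    (Scheme.pointSmallEtale ξ').presheafFiber.map φ.hom (stalkUp ext ξ ξ' hξ A _)
  erw [GrothendieckTopology.Point.toPresheafFiber_naturality_apply, stalkUp_germ, stalkUp_germ,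
    GrothendieckTopology.Point.toPresheafFiber_naturality_apply]


instance isIso_stalkUp (A : EtCoh.Ab S) : IsIso (stalkUp ext ξ ξ' hξ A) := by
  refine ⟨stalkDown ext ξ ξ' hξ A, (Scheme.pointSmallEtale ξ).presheafFiber_hom_ext fun U v => ?_,
    (Scheme.pointSmallEtale ξ').presheafFiber_hom_ext fun U v => ?_⟩
  · ext t
    show stalkDown ext ξ ξ' hξ A (stalkUp ext ξ ξ' hξ A _) = _
    erw [stalkUp_germ, stalkDown_germ, downPt_upPt]
    rfl
  · ext t
    show stalkUp ext ξ ξ' hξ A (stalkDown ext ξ ξ' hξ A _) = _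
    erw [stalkDown_germ, stalkUp_germ, upPt_downPt]
    rfl

instance isIso_stalkDown (A : EtCoh.Ab S) : IsIso (stalkDown ext ξ ξ' hξ A) := by
  refine ⟨stalkUp ext ξ ξ' hξ A, (Scheme.pointSmallEtale ξ').presheafFiber_hom_ext fun U v => ?_,
    (Scheme.pointSmallEtale ξ).presheafFiber_hom_ext fun U v => ?_⟩
  · ext t
    show stalkUp ext ξ ξ' hξ A (stalkDown ext ξ ξ' hξ A _) = _
    erw [stalkDown_germ, stalkUp_germ, upPt_downPt]
    rfl
  · ext t
    show stalkDown ext ξ ξ' hξ A (stalkUp ext ξ ξ' hξ A _) = _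
    erw [stalkUp_germ, stalkDown_germ, downPt_upPt]
    rfl

end Groth.Agent.EtBCQ
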