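import Groth.Agent.EtBCQ.Etale
import Groth.Agent.EtBCQ.FieldPt
import Groth.Agent.EtBCQ.Restrict
import Groth.Agent.EtIntegral.BaseChange
import Mathlib

/-! The stalk of the degree zero base change map. -/

set_option autoImplicit false
set_option backward.isDefEq.respectTransparency false
set_option backward.isDefEq.respectTransparency.types false
set_option maxHeartbeats 4000000
set_option linter.style.haveILetI false
set_option linter.overlappingInstances false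
set_option linter.unusedSectionVars false

universe u

open CategoryTheory CategoryTheory.Limits AlgebraicGeometry Opposite IsLocalRing

noncomputable section

namespace Groth.Agent.EtBCQ

open EtLimit (fstE hm hm_fst bc_hom_ext bc_map_fst left_snd r_map r_add r_comp')
open EtMV (r r_natural)
open EtStrictLoc (fib liftPt liftPt_w liftPt_pt Γtop)
open EtIntegral (bcSwap bcSwap_fst baseChange0_unit)

variable {X S Y T : Scheme.{u}} (f : X ⟶ S) (g : T ⟶ S) (h : Y ⟶ X) (e : Y ⟶ T) (w : e ≫ g = h ≫ f)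
  (s : S) (RS : Type u) [CommRing RS] [IsLocalRing RS] [Algebra (S.presheaf.stalk s) RS]
  [IsSepClosed (ResidueField RS)] [HenselianLocalRing RS]
  (x : X) (RX : Type u) [CommRing RX] [IsLocalRing RX] [Algebra (X.presheaf.stalk x) RX]
  [IsSepClosed (ResidueField RX)] [HenselianLocalRing RX]
  (ψ : RS →+* RX) [IsLocalHom ψ]
  (hψ : Hens2.specOf X x RX ≫ f = Spec.map (CommRingCat.ofHom ψ) ≫ Hens2.specOf S s RS)

theorem sq_comp {C : Type*} [Category* C] {a b c a' b' c' : C} {p : a ⟶ a'} {u : a ⟶ b} {u' : a' ⟶ b'}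
    {p' : b ⟶ b'} {v : b ⟶ c} {v' : b' ⟶ c'} {p'' : c ⟶ c'} (h₁ : p ≫ u' = u ≫ p') (h₂ : p' ≫ v' = v ≫ p'') :
    p ≫ u' ≫ v' = (u ≫ v) ≫ p'' := by
  rw [reassoc_of% h₁, h₂, Category.assoc]

theorem chaseA {C : Type*} [Category* C] {a b c d m n p q k : C} {δ : a ⟶ b} {M : b ⟶ c} {fY : c ⟶ d} {fe : d ⟶ m}
    {fg : m ⟶ n} {fY' : b ⟶ p} {sw : p ⟶ d} {fh : p ⟶ q} {ff : q ⟶ n} {bX : a ⟶ k} {ℓ : k ⟶ q}
    {k' : C} {sψ : k ⟶ k'} {ℓ' : k' ⟶ n}
    (h₃ : M ≫ fY = fY' ≫ sw) (h₄ : sw ≫ fe ≫ fg = fh ≫ ff) (h₁ : δ ≫ fY' ≫ fh = bX ≫ ℓ)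
    (h₅ : ℓ ≫ ff = sψ ≫ ℓ') :
    ((δ ≫ M) ≫ fY ≫ 𝟙 d ≫ fe) ≫ fg = (bX ≫ sψ) ≫ ℓ' := by
  simp only [Category.assoc, Category.id_comp]
  rw [reassoc_of% h₃, h₄, reassoc_of% h₁, h₅]

theorem chaseB {C : Type*} [Category* C] {a b c d m n p q : C} {δ : a ⟶ b} {M : b ⟶ c} {fY : c ⟶ d} {fe : d ⟶ m}
    {sg : m ⟶ n} {fY' : b ⟶ p} {sw : p ⟶ d} {sh : p ⟶ q} {e : q ⟶ n} {pY : a ⟶ q}
    (h₃ : M ≫ fY = fY' ≫ sw) (h₆ : sw ≫ fe ≫ sg = sh ≫ e) (h₂ : δ ≫ fY' ≫ sh = pY) :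
    ((δ ≫ M) ≫ fY ≫ 𝟙 d ≫ fe) ≫ sg = pY ≫ e := by
  simp only [Category.assoc, Category.id_comp]
  rw [reassoc_of% h₃, h₆, reassoc_of% h₂]

/-- the extension of residue fields -/
abbrev extψ : ResidueField RS →+* ResidueField RX := ResidueField.map ψ

theorem pt_specψ : EtHens.pt RX ≫ Spec.map (CommRingCat.ofHom ψ) =
    Spec.map (CommRingCat.ofHom (extψ RS RX ψ)) ≫ EtHens.pt RS := by
  rw [← Spec.map_comp, ← Spec.map_comp]
  congr 1

include hψ in
theorem geomPt_comp : Spec.map (CommRingCat.ofHom (extψ RS RX ψ)) ≫ Hens2.geomPt S s RS =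
    Hens2.geomPt X x RX ≫ f := by
  exact (Category.assoc _ _ _).symm.trans ((congrArg (· ≫ Hens2.specOf S s RS) (pt_specψ RS RX ψ).symm).trans
    ((Category.assoc _ _ _).trans ((congrArg (EtHens.pt RX ≫ ·) hψ.symm).trans (Category.assoc _ _ _).symm)))

/-- the point of the base change over a point -/
def pushPt (U : S.Etale) (v : (fib S s RS).obj U) : (fib X x RX).obj ((EtCoh.bc f).obj U) :=
  EtPushStalk.up f (Hens2.geomPt X x RX)
    (upPt (extψ RS RX ψ) _ _ (geomPt_comp f s RS x RX ψ hψ) U v)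

theorem liftPt_pushPt (U : S.Etale) (v : (fib S s RS).obj U) :
    liftPt x RX ((EtCoh.bc f).obj U) (pushPt f s RS x RX ψ hψ U v) ≫ fstE f U =
      Spec.map (CommRingCat.ofHom ψ) ≫ liftPt s RS U v := by
  haveI : Etale U.hom := U.prop
  refine EtStrictLoc.ext_of_closed U.hom ?_ ?_
  · rw [Category.assoc, pullback.condition, ← Category.assoc, Category.assoc _ (liftPt s RS U v), liftPt_w, ← hψ]
    exact congrArg (· ≫ f) (liftPt_w x RX ((EtCoh.bc f).obj U) (pushPt f s RS x RX ψ hψ U v))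
  · rw [← Category.assoc, ← Category.assoc (Spec.map _)]
    refine (congrArg (· ≫ fstE f U) (liftPt_pt x RX ((EtCoh.bc f).obj U) (pushPt f s RS x RX ψ hψ U v))).trans ?_
    refine (pullback.lift_fst _ _ _).trans ?_
    refine Eq.trans ?_ ((congrArg (· ≫ liftPt s RS U v) (pt_specψ RS RX ψ)).symm)
    exact (congrArg (Spec.map (CommRingCat.ofHom (extψ RS RX ψ)) ≫ ·) (liftPt_pt s RS U v).symm).trans
      (Category.assoc _ _ _).symm

/-- stalk on the base to stalk of the inverse image -/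
def stalkUS (A : EtCoh.Ab S) :
    (EtCoh.stalk (Hens2.geomPt S s RS)).obj A ⟶ (EtCoh.stalk (Hens2.geomPt X x RX)).obj ((EtCoh.pull f).obj A) :=
  stalkUp (extψ RS RX ψ) _ _ (geomPt_comp f s RS x RX ψ hψ) A ≫
    (EtStalk.stalkPullIso f (Hens2.geomPt X x RX)).hom.app A

instance isIso_stalkUS (A : EtCoh.Ab S) : IsIso (stalkUS f s RS x RX ψ hψ A) := by
  haveI := isIso_stalkUp (extψ RS RX ψ) _ _ (geomPt_comp f s RS x RX ψ hψ) A
  unfold stalkUS
  infer_instance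

theorem stalkUS_germ (A : EtCoh.Ab S) (U : S.Etale) (v : (fib S s RS).obj U) (t : EtCoh.sect A U) :
    stalkUS f s RS x RX ψ hψ A ((Scheme.pointSmallEtale (Hens2.geomPt S s RS)).toPresheafFiber U v A.obj t) =
      (Scheme.pointSmallEtale (Hens2.geomPt X x RX)).toPresheafFiber ((EtCoh.bc f).obj U)
        (pushPt f s RS x RX ψ hψ U v) ((EtCoh.pull f).obj A).obj
        (((EtCoh.pullPushAdj f).unit.app A).hom.app (op U) t) := by
  refine (congrArg ((EtStalk.stalkPullIso f (Hens2.geomPt X x RX)).hom.app A)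
    (stalkUp_germ (extψ RS RX ψ) _ _ (geomPt_comp f s RS x RX ψ hψ) A U v t)).trans ?_
  exact EtIntegral.stalkPullIso_germ f (Hens2.geomPt X x RX) A U _ t

theorem stalkUS_natural {A B : EtCoh.Ab S} (φ : A ⟶ B) :
    (EtCoh.stalk (Hens2.geomPt S s RS)).map φ ≫ stalkUS f s RS x RX ψ hψ B =
      stalkUS f s RS x RX ψ hψ A ≫ (EtCoh.stalk (Hens2.geomPt X x RX)).map ((EtCoh.pull f).map φ) := by
  exact sq_comp (stalkUp_natural (extψ RS RX ψ) _ _ (geomPt_comp f s RS x RX ψ hψ) φ)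
    ((EtStalk.stalkPullIso f (Hens2.geomPt X x RX)).hom.naturality φ)

variable {PX : Scheme.{u}} (pY : PX ⟶ Y) (bX : PX ⟶ Spec (CommRingCat.of RX))
  (hX : pY ≫ h = bX ≫ Hens2.specOf X x RX) (hPS : (pY ≫ e) ≫ g = (bX ≫ Spec.map (CommRingCat.ofHom ψ)) ≫ Hens2.specOf S s RS)

theorem germ_σBC (G : EtCoh.Ab T) (U : S.Etale) (v : (fib X x RX).obj ((EtCoh.bc f).obj U))
    (t : EtCoh.sect ((EtCoh.push g).obj G) U) :
    (θP h x RX pY bX hX).app ((EtCoh.pull e).obj G)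
        ((EtCoh.stalk (Hens2.geomPt X x RX)).map ((σBC g f h e w).app G)
          ((Scheme.pointSmallEtale (Hens2.geomPt X x RX)).toPresheafFiber ((EtCoh.bc f).obj U) v
            ((EtCoh.pull f).obj ((EtCoh.push g).obj G)).obj
            (((EtCoh.pullPushAdj f).unit.app ((EtCoh.push g).obj G)).hom.app (op U) t))) =
      r pY (δP h x RX pY bX hX ((EtCoh.bc f).obj U) v ≫ (EtCoh.bc pY).map (bcSwap g f h e w U))
        ((EtCoh.pull e).obj G) (r e (𝟙 _) G t) := by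
  let ξ := Scheme.pointSmallEtale (Hens2.geomPt X x RX)
  refine (congrArg (fun z => (θP h x RX pY bX hX).app ((EtCoh.pull e).obj G) z)
    (GrothendieckTopology.Point.toPresheafFiber_naturality_apply ξ ((σBC g f h e w).app G).hom
      ((EtCoh.bc f).obj U) v _)).trans ?_
  refine (θPApp_germ h x RX pY bX hX ((EtCoh.pull e).obj G) ((EtCoh.bc f).obj U) v _).trans ?_
  refine (congrArg (r pY (δP h x RX pY bX hX ((EtCoh.bc f).obj U) v) ((EtCoh.pull e).obj G))
    (baseChange0_unit g f h e w G U t)).trans ?_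
  refine (r_map pY _ (bcSwap g f h e w U) ((EtCoh.pull e).obj G) _).trans ?_
  refine congrArg (r pY _ ((EtCoh.pull e).obj G)) ?_
  rw [r, op_id, CategoryTheory.Functor.map_id]
  rfl

theorem δP_swap (U : S.Etale) (v : (fib S s RS).obj U) :
    (δP h x RX pY bX hX ((EtCoh.bc f).obj U) (pushPt f s RS x RX ψ hψ U v) ≫
        (EtCoh.bc pY).map (bcSwap g f h e w U)).left ≫ fstE pY _ ≫
      (𝟙 ((EtCoh.bc e).obj ((EtCoh.bc g).obj U)) : (EtCoh.bc e).obj ((EtCoh.bc g).obj U) ⟶ _).left ≫ fstE e ((EtCoh.bc g).obj U) =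
      (δP g s RS (pY ≫ e) (bX ≫ Spec.map (CommRingCat.ofHom ψ)) hPS U v).left ≫
        fstE (pY ≫ e) ((EtCoh.bc g).obj U) := by
  have h1 := δP_fst h x RX pY bX hX ((EtCoh.bc f).obj U) (pushPt f s RS x RX ψ hψ U v)
  have h2 := δP_snd h x RX pY bX hX ((EtCoh.bc f).obj U) (pushPt f s RS x RX ψ hψ U v)
  have h3 := bc_map_fst pY (bcSwap g f h e w U)
  have h4 := bcSwap_fst g f h e w U
  have h5 := liftPt_pushPt f s RS x RX ψ hψ U v
  have h6 : (bcSwap g f h e w U).left ≫ fstE e ((EtCoh.bc g).obj U) ≫ pullback.snd U.hom g =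
      ((EtCoh.bc h).obj ((EtCoh.bc f).obj U)).hom ≫ e :=
    ((congrArg ((bcSwap g f h e w U).left ≫ ·)
      (pullback.condition (f := ((EtCoh.bc g).obj U).hom) (g := e))).trans (Category.assoc _ _ _).symm).trans
      (congrArg (· ≫ e) (MorphismProperty.Over.w (bcSwap g f h e w U)))
  have r1 := δP_fst g s RS (pY ≫ e) (bX ≫ Spec.map (CommRingCat.ofHom ψ)) hPS U v
  have r2 := δP_snd g s RS (pY ≫ e) (bX ≫ Spec.map (CommRingCat.ofHom ψ)) hPS U v
  refine pullback.hom_ext (f := U.hom) (g := g) ?_ ?_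
  · exact (chaseA h3 h4 h1 h5).trans ((Category.assoc _ _ _).trans r1).symm
  · exact (chaseB h3 h6 h2).trans ((Category.assoc _ _ _).trans r2).symm

theorem stalk_σBC (G : EtCoh.Ab T) :
    stalkUS f s RS x RX ψ hψ ((EtCoh.push g).obj G) ≫
        (EtCoh.stalk (Hens2.geomPt X x RX)).map ((σBC g f h e w).app G) ≫
        (θP h x RX pY bX hX).app ((EtCoh.pull e).obj G) ≫
        ((EtMV.ψ pY e (pY ≫ e) rfl).hom.app G).hom.app (op (EtCoh.top PX)) =
      (θP g s RS (pY ≫ e) (bX ≫ Spec.map (CommRingCat.ofHom ψ)) hPS).app G := by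
  refine (Scheme.pointSmallEtale (Hens2.geomPt S s RS)).presheafFiber_hom_ext fun U v => ?_
  ext t
  let k := ((EtMV.ψ pY e (pY ≫ e) rfl).hom.app G).hom.app (op (EtCoh.top PX))
  let m := (EtCoh.stalk (Hens2.geomPt X x RX)).map ((σBC g f h e w).app G)
  show k ((θP h x RX pY bX hX).app ((EtCoh.pull e).obj G) (m (stalkUS f s RS x RX ψ hψ ((EtCoh.push g).obj G) _))) =
    θPApp g s RS _ _ hPS G _
  refine Eq.trans (congrArg (fun z => k ((θP h x RX pY bX hX).app ((EtCoh.pull e).obj G) (m z)))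
    (stalkUS_germ f s RS x RX ψ hψ ((EtCoh.push g).obj G) U v t)) ?_
  refine Eq.trans (congrArg (fun z => k z) (germ_σBC f g h e w x RX pY bX hX G U _ t)) ?_
  refine Eq.trans ?_ (θPApp_germ g s RS (pY ≫ e) _ hPS G U v t).symm
  exact r_comp' pY e (pY ≫ e) rfl (𝟙 ((EtCoh.bc e).obj ((EtCoh.bc g).obj U))) _
    (δP g s RS (pY ≫ e) (bX ≫ Spec.map (CommRingCat.ofHom ψ)) hPS U v)
    (δP_swap f g h e w s RS x RX ψ hψ pY bX hX hPS U v) G t

end Groth.Agent.EtBCQ
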