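import Groth.Agent.EtBCQ.Etale
import Groth.Agent.EtBCQ.StalkBC
import Groth.Agent.EtBCQ.Acyclic
import Groth.Agent.EtBCQ.HomExt
import Groth.Agent.EtBCQ.PasteHom
import Mathlib

/-! The stalk of the base change map is the restriction map of cohomology. -/

set_option autoImplicit false
set_option backward.isDefEq.respectTransparency false
set_option backward.isDefEq.respectTransparency.types false
set_option maxHeartbeats 4000000
set_option linter.style.haveILetI false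
set_option linter.overlappingInstances false
set_option linter.unusedSectionVars false
set_option linter.auxLemma false

universe u

open CategoryTheory CategoryTheory.Limits CategoryTheory.Abelian AlgebraicGeometry Opposite IsLocalRing

noncomputable section

namespace Groth.Agent.EtBCQ

attribute [local instance 100000] EtCoh.H._proof_1 Groth.Agent.EtMV.hext
attribute [local instance 200000] Groth.Agent.EtMV.hextAb

open EtMV (r κ δtop)
open EtStrictLoc (Γtop secIso)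

/-- stalk of the direct image as maps out of the constant sheaf -/
def stalkHom {T S : Scheme.{u}} (g : T ⟶ S) (s : S) (R : Type u) [CommRing R] [IsLocalRing R]
    [Algebra (S.presheaf.stalk s) R] [IsSepClosed (ResidueField R)] [HenselianLocalRing R]
    [QuasiCompact g] [QuasiSeparated g] [IsLocalHom (algebraMap (S.presheaf.stalk s) R)]
    [_root_.Hensel.IsStrictHenselization (S.presheaf.stalk s) R]
    {P : Scheme.{u}} (a : P ⟶ T) (b : P ⟶ Spec (CommRingCat.of R)) (H : IsPullback a b g (Hens2.specOf S s R))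
    (G : EtCoh.Ab T) :
    (EtCoh.stalk (Hens2.geomPt S s R)).obj ((EtCoh.push g).obj G) ≅
      (preadditiveCoyoneda.obj (op (EtCoh.const P ℤ))).obj ((EtCoh.pull a).obj G) :=
  haveI := isIso_θP g s R a b H G
  asIso ((θP g s R a b H.w).app G) ≪≫ ((secIso P).app ((EtCoh.pull a).obj G)).symm

theorem secInv_homK {PX PS : Scheme.{u}} (m : PX ⟶ PS) {G₁ : EtCoh.Ab PS} {G₂ : EtCoh.Ab PX}
    (φ : (EtCoh.pull m).obj G₁ ⟶ G₂) (x : EtCoh.sect G₁ (EtCoh.top PS)) :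
    (EtCore.pullConst m ℤ).inv ≫ (EtCoh.pull m).map ((secIso PS).inv.app G₁ x) ≫ φ =
      (secIso PX).inv.app G₂ (φ.hom.app (op (EtCoh.top PX)) (r m (δtop m) G₁ x)) := by
  have h1 : ∀ {P : Scheme.{u}} {G : EtCoh.Ab P} (y : EtCoh.sect G (EtCoh.top P)),
      κ ((secIso P).inv.app G y) = y := fun y => by
    rw [← secIso_hom_apply]
    exact ConcreteCategory.congr_hom ((secIso _).inv_hom_id_app _) y
  refine (EtMV.κ_bijective _).1 ?_
  rw [h1, ← Category.assoc, EtMV.κ_comp, κ_pull, h1]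

theorem natMap_f₃ {A A' B B' : Type*} [Category* A] [Abelian A] [Category* A'] [Abelian A']
    [Category* B] [Abelian B] [Category* B'] [Abelian B'] {F : A ⥤ B} [F.Additive] {F' : A' ⥤ B'} [F'.Additive]
    {P : B ⥤ B'} [P.Additive] {P' : A ⥤ A'} [P'.Additive] {M : A ⥤ B'} (σ₁ : F ⋙ P ⟶ M) (σ₂ : M ⟶ P' ⋙ F')
    {R : CochainComplex A ℕ} {J : CochainComplex A' ℕ}
    (t : (P'.mapHomologicalComplex (ComplexShape.up ℕ)).obj R ⟶ J) (n : ℕ) :
    (natMap (σ₁ ≫ σ₂) t).f n = σ₁.app (R.X n) ≫ σ₂.app (R.X n) ≫ F'.map (t.f n) := by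
  simp [natMap]

theorem comp_app_map {A C : Type*} [Category* A] [Category* C] {F G H : A ⥤ C} (α : F ⟶ G) (β : G ⟶ H) (x : A) {z : C}
    (φ : H.obj x ⟶ z) : (α ≫ β).app x ≫ φ = α.app x ≫ β.app x ≫ φ := by
  rw [NatTrans.comp_app, Category.assoc]

theorem secInv3 {PX PS : Scheme.{u}} (m : PX ⟶ PS) {G₁ : EtCoh.Ab PS} {A B C : EtCoh.Ab PX}
    (φ₁ : (EtCoh.pull m).obj G₁ ⟶ A) (φ₂ : A ⟶ B) (φ₃ : B ⟶ C) (φ : (EtCoh.pull m).obj G₁ ⟶ C)
    (hφ : φ = φ₁ ≫ φ₂ ≫ φ₃) (x : EtCoh.sect G₁ (EtCoh.top PS)) :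
    (EtCore.pullConst m ℤ).inv ≫ (EtCoh.pull m).map ((secIso PS).inv.app G₁ x) ≫ φ =
      (secIso PX).inv.app C (φ₃.hom.app (op (EtCoh.top PX)) (φ₂.hom.app (op (EtCoh.top PX))
        (φ₁.hom.app (op (EtCoh.top PX)) (r m (δtop m) G₁ x)))) := by
  subst hφ
  rw [secInv_homK]
  rfl

theorem secInv_homKMap {PX PS : Scheme.{u}} (m : PX ⟶ PS) {K : CochainComplex (EtCoh.Ab PS) ℕ}
    {K' : CochainComplex (EtCoh.Ab PX) ℕ} (φ : ((EtCoh.pull m).mapHomologicalComplex (ComplexShape.up ℕ)).obj K ⟶ K')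
    (n : ℕ) {A B : EtCoh.Ab PX} (φ₁ : (EtCoh.pull m).obj (K.X n) ⟶ A) (φ₂ : A ⟶ B) (φ₃ : B ⟶ K'.X n)
    (hφ : φ.f n = φ₁ ≫ φ₂ ≫ φ₃) :
    (secIso PS).inv.app (K.X n) ≫ (homKMap φ (EtCore.pullConst m ℤ).inv).f n =
      (AddCommGrpCat.ofHom (AddMonoidHom.mk' (r m (δtop m) (K.X n)) (EtLimit.r_add _ _ _)) ≫
          φ₁.hom.app (op (EtCoh.top PX))) ≫
        φ₂.hom.app (op (EtCoh.top PX)) ≫ φ₃.hom.app (op (EtCoh.top PX)) ≫ (secIso PX).inv.app (K'.X n) := by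
  ext y
  exact secInv3 m φ₁ φ₂ φ₃ (φ.f n) hφ y

theorem bijective_comp_mk₀ {A : Type*} [Category.{u + 1} A] [Abelian A] [HasExt.{u + 1} A] (P : A) {Y Z : A}
    (j : Y ≅ Z) (n : ℕ) : Function.Bijective (fun x : Ext P Y n => x.comp (Ext.mk₀ j.hom) (add_zero n)) := by
  refine Function.bijective_iff_has_inverse.2 ⟨fun y => y.comp (Ext.mk₀ j.inv) (add_zero n), fun x => ?_, fun y => ?_⟩
  · simp
  · simp

theorem arrow_iso_iff {C : Type*} [Category* C] {A A' B B' : C} (f : A ⟶ B) (f' : A' ⟶ B') (i : A ≅ A') (j : B ≅ B')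
    (h : f ≫ j.hom = i.hom ≫ f') : IsIso f ↔ IsIso f' := by
  rw [← isIso_comp_right_iff f j.hom, h, isIso_comp_left_iff]

theorem extMap_jCyc {A B : Type*} [Category.{u + 1} A] [Abelian A] [HasExt.{u + 1} A] [Category.{u + 1} B] [Abelian B]
    [HasExt.{u + 1} B] {L : A ⥤ B} [L.Additive] [PreservesFiniteLimits L] [PreservesFiniteColimits L]
    {K : CochainComplex A ℕ} {K' : CochainComplex B ℕ}
    (φ : (L.mapHomologicalComplex (ComplexShape.up ℕ)).obj K ⟶ K') {P : A} {P' : B} (a : P' ⟶ L.obj P) {Y : A}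
    {Y' M : B} (ι : (CochainComplex.single₀ A).obj Y ⟶ K) [QuasiIso ι] (ι' : (CochainComplex.single₀ B).obj Y' ⟶ K')
    [QuasiIso ι'] (u₁ : L.obj Y ⟶ M) (u₂ : M ≅ Y') (h : L.map (ι.f 0) ≫ φ.f 0 = u₁ ≫ u₂.hom ≫ ι'.f 0)
    {n : ℕ} (G : Ext P Y n →+ Ext P' M n) (hG : ∀ x, G x = (EtMV.T L a Y n x).comp (Ext.mk₀ u₁) (add_zero n)) :
    Function.Bijective (extMap φ a n) ↔ Function.Bijective G := by
  let j := asIso (jCyc K ι)
  let j' := u₂ ≪≫ asIso (jCyc K' ι')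
  have hc : L.map j.hom ≫ cmpCyc φ 0 = u₁ ≫ j'.hom := by
    rw [← cancel_mono (K'.iCycles 0), Category.assoc, Category.assoc, cmpCyc_i, ← L.map_comp_assoc]
    simp only [j, j', Iso.trans_hom, asIso_hom, Category.assoc, jCyc_i, h]
  have hsq : extMap φ a n ∘ (fun x : Ext P Y n => x.comp (Ext.mk₀ j.hom) (add_zero n)) =
      (fun y : Ext P' M n => y.comp (Ext.mk₀ j'.hom) (add_zero n)) ∘ G := by
    funext x
    show (EtMV.T L a (K.cycles 0) n (x.comp (Ext.mk₀ j.hom) (add_zero n))).comp (Ext.mk₀ (cmpCyc φ 0)) (add_zero n) =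
      (G x).comp (Ext.mk₀ j'.hom) (add_zero n)
    rw [EtMV.T_comp_mk₀, hG, Ext.comp_assoc_of_second_deg_zero, Ext.comp_assoc_of_second_deg_zero,
      Ext.mk₀_comp_mk₀, Ext.mk₀_comp_mk₀, hc]
  have b₁ : Function.Bijective (fun x : Ext P Y n => x.comp (Ext.mk₀ j.hom) (add_zero n)) :=
    bijective_comp_mk₀ P j n
  have b₂ : Function.Bijective (fun y : Ext P' M n => y.comp (Ext.mk₀ j'.hom) (add_zero n)) :=
    bijective_comp_mk₀ P' j' n
  rw [← Function.Bijective.of_comp_iff _ b₁, hsq, Function.Bijective.of_comp_iff' b₂]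

theorem src_natural {C : Type*} [Category* C] {A A' B B' Q Q' : C} {us : A ⟶ B} [IsIso us] {us' : A' ⟶ B'} [IsIso us']
    {p : A ⟶ A'} {p' : B ⟶ B'} {j : A ≅ Q} {j' : A' ≅ Q'} {r : Q ⟶ Q'}
    (h₁ : p ≫ us' = us ≫ p') (h₂ : j.hom ≫ r = p ≫ j'.hom) :
    ((asIso us).symm ≪≫ j).hom ≫ r = p' ≫ ((asIso us').symm ≪≫ j').hom := by
  have h₃ : inv us ≫ p = p' ≫ inv us' := by rw [IsIso.inv_comp_eq, ← Category.assoc, IsIso.eq_comp_inv, h₁]
  simp only [Iso.trans_hom, Iso.symm_hom, asIso_inv, Category.assoc, h₂, reassoc_of% h₃]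

theorem src_comm {C : Type*} [Category* C] {A B B' Q Q' : C} {us : A ⟶ B} [IsIso us] {p : B ⟶ B'} {j : A ≅ Q}
    {j' : B' ⟶ Q'} {r : Q ⟶ Q'} (h : us ≫ p ≫ j' = j.hom ≫ r) :
    p ≫ j' = ((asIso us).symm ≪≫ j).hom ≫ r := by
  simp only [Iso.trans_hom, Iso.symm_hom, asIso_inv, Category.assoc]
  rw [← h, IsIso.inv_hom_id_assoc]

theorem zero_comm {C : Type*} [Category* C] {a a' b b' c c' d : C} {p : a ⟶ a'} {α : a' ⟶ b'} {β : b' ⟶ c'}
    {γ : c' ⟶ d} {α₀ : a ⟶ b} {β₀ : b ⟶ c} {q : b ⟶ b'} {r : c ⟶ c'} {γ₀ : c ⟶ d}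
    (h₁ : p ≫ α = α₀ ≫ q) (h₂ : q ≫ β = β₀ ≫ r) (h₃ : r ≫ γ = γ₀) :
    p ≫ α ≫ β ≫ γ = α₀ ≫ β₀ ≫ γ₀ := by
  rw [reassoc_of% h₁, reassoc_of% h₂, h₃]

theorem natMap_zero {A A' B B' : Type*} [Category* A] [Abelian A] [Category* A'] [Abelian A']
    [Category* B] [Abelian B] [Category* B'] [Abelian B'] {F : A ⥤ B} [F.Additive] {F' : A' ⥤ B'} [F'.Additive]
    {P : B ⥤ B'} [P.Additive] {P' : A ⥤ A'} [P'.Additive] {M : A ⥤ B'} (σ₁ : F ⋙ P ⟶ M) (σ₂ : M ⟶ P' ⋙ F')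
    {R : CochainComplex A ℕ} {J : CochainComplex A' ℕ}
    (t : (P'.mapHomologicalComplex (ComplexShape.up ℕ)).obj R ⟶ J) {N : A}
    (ι : (CochainComplex.single₀ A).obj N ⟶ R) (ι' : (CochainComplex.single₀ A').obj (P'.obj N) ⟶ J)
    (ht : P'.map (ι.f 0) ≫ t.f 0 = ι'.f 0) :
    P.map ((RDer.mapAug F ι).f 0) ≫ (natMap (σ₁ ≫ σ₂) t).f 0 =
      σ₁.app N ≫ σ₂.app N ≫ (RDer.mapAug F' ι').f 0 := by
  rw [natMap_f₃, mapAug_f_zero, mapAug_f_zero]
  exact zero_comm (σ₁.naturality (ι.f 0)) (σ₂.naturality (ι.f 0))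
    ((F'.map_comp _ _).symm.trans (congrArg F'.map ht))

theorem assemble {C : Type*} [Category* C] {A B B₁ B₂ P P₁ P₂ K L Q : C} {us : A ⟶ B} {m₁₂ : B ⟶ B₂} {m₁ : B ⟶ B₁}
    {m₂ : B₁ ⟶ B₂} {θ₁ : B₁ ⟶ P₁} {θ₂ : B₂ ⟶ P₂} {k : P₁ ⟶ K} {θS : A ⟶ P} {sS : P ⟶ L} {hk : L ⟶ Q}
    {res : P ⟶ K} {ki : K ⟶ P₁} {F₂ : P₁ ⟶ P₂} {sX : P₂ ⟶ Q}
    (h₀ : m₁₂ = m₁ ≫ m₂) (key : us ≫ m₁ ≫ θ₁ ≫ k = θS ≫ res) (hn : m₂ ≫ θ₂ = θ₁ ≫ F₂)
    (hs : sS ≫ hk = res ≫ ki ≫ F₂ ≫ sX) (hkk : k ≫ ki = 𝟙 P₁) :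
    us ≫ m₁₂ ≫ (θ₂ ≫ sX) = (θS ≫ sS) ≫ hk := by
  rw [Category.assoc θS, hs, ← reassoc_of% key, reassoc_of% hkk, h₀, Category.assoc, reassoc_of% hn]

section Iff

variable {X S Y T : Scheme.{u}} (f : X ⟶ S) (g : T ⟶ S) [QuasiCompact g] [QuasiSeparated g] (h : Y ⟶ X)
  [QuasiCompact h] [QuasiSeparated h] (e : Y ⟶ T) (w : e ≫ g = h ≫ f) [PreservesFiniteLimits (EtCoh.pull e)]
  (F : EtCoh.Ab T) (q : ℕ)
  (s : S) (RS : Type u) [CommRing RS] [IsLocalRing RS] [Algebra (S.presheaf.stalk s) RS]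
  [IsSepClosed (ResidueField RS)] [HenselianLocalRing RS] [IsLocalHom (algebraMap (S.presheaf.stalk s) RS)]
  [_root_.Hensel.IsStrictHenselization (S.presheaf.stalk s) RS]
  (x : X) (RX : Type u) [CommRing RX] [IsLocalRing RX] [Algebra (X.presheaf.stalk x) RX]
  [IsSepClosed (ResidueField RX)] [HenselianLocalRing RX] [IsLocalHom (algebraMap (X.presheaf.stalk x) RX)]
  [_root_.Hensel.IsStrictHenselization (X.presheaf.stalk x) RX]
  (ρ : RS →+* RX) [IsLocalHom ρ]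
  (hρ : Hens2.specOf X x RX ≫ f = Spec.map (CommRingCat.ofHom ρ) ≫ Hens2.specOf S s RS)
  {PS PX : Scheme.{u}} (aS : PS ⟶ T) (bS : PS ⟶ Spec (CommRingCat.of RS))
  (HS : IsPullback aS bS g (Hens2.specOf S s RS))
  (pY : PX ⟶ Y) (bX : PX ⟶ Spec (CommRingCat.of RX)) (HX : IsPullback pY bX h (Hens2.specOf X x RX))
  (m : PX ⟶ PS) (wm : m ≫ aS = pY ≫ e) (wb : m ≫ bS = bX ≫ Spec.map (CommRingCat.ofHom ρ))

include wm wb in
theorem hPS_of (hHS : aS ≫ g = bS ≫ Hens2.specOf S s RS) :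
    (pY ≫ e) ≫ g = (bX ≫ Spec.map (CommRingCat.ofHom ρ)) ≫ Hens2.specOf S s RS := by
  rw [← wm, ← wb, Category.assoc, Category.assoc, hHS]

/-- the map of resolutions on the strict localisations -/
def locMap {R : CochainComplex (EtCoh.Ab T) ℕ} {J : CochainComplex (EtCoh.Ab Y) ℕ}
    (t : ((EtCoh.pull e).mapHomologicalComplex (ComplexShape.up ℕ)).obj R ⟶ J) :
    ((EtCoh.pull m).mapHomologicalComplex (ComplexShape.up ℕ)).obj
        (((EtCoh.pull aS).mapHomologicalComplex (ComplexShape.up ℕ)).obj R) ⟶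
      ((EtCoh.pull pY).mapHomologicalComplex (ComplexShape.up ℕ)).obj J :=
  natMap (F := EtCoh.pull aS) (P := EtCoh.pull m) (P' := EtCoh.pull e) (F' := EtCoh.pull pY)
    ((EtMV.ψ m aS (pY ≫ e) wm).hom ≫ (EtMV.ψ pY e (pY ≫ e) rfl).inv) t

theorem natMap_pull_f {R : CochainComplex (EtCoh.Ab T) ℕ} {J : CochainComplex (EtCoh.Ab Y) ℕ}
    (σ : EtCoh.pull aS ⋙ EtCoh.pull m ⟶ EtCoh.pull e ⋙ EtCoh.pull pY)
    (t : ((EtCoh.pull e).mapHomologicalComplex (ComplexShape.up ℕ)).obj R ⟶ J) (n : ℕ) :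
    (natMap (F := EtCoh.pull aS) (P := EtCoh.pull m) (P' := EtCoh.pull e) (F' := EtCoh.pull pY) σ t).f n =
      σ.app (R.X n) ≫ (EtCoh.pull pY).map (t.f n) :=
  rfl

theorem locMap_f {R : CochainComplex (EtCoh.Ab T) ℕ} {J : CochainComplex (EtCoh.Ab Y) ℕ}
    (t : ((EtCoh.pull e).mapHomologicalComplex (ComplexShape.up ℕ)).obj R ⟶ J) (n : ℕ) :
    (locMap e aS pY m wm t).f n = (EtMV.ψ m aS (pY ≫ e) wm).hom.app (R.X n) ≫
      (EtMV.ψ pY e (pY ≫ e) rfl).inv.app (R.X n) ≫ (EtCoh.pull pY).map (t.f n) :=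
  (natMap_pull_f e aS pY m _ t n).trans (comp_app_map _ _ (R.X n) _)

theorem secInv_locMap {R : CochainComplex (EtCoh.Ab T) ℕ} {J : CochainComplex (EtCoh.Ab Y) ℕ}
    (t : ((EtCoh.pull e).mapHomologicalComplex (ComplexShape.up ℕ)).obj R ⟶ J) (n : ℕ) :
    (secIso PS).inv.app ((EtCoh.pull aS).obj (R.X n)) ≫
        (homKMap (locMap e aS pY m wm t) (EtCore.pullConst m ℤ).inv).f n =
      secRes m aS (pY ≫ e) wm (R.X n) ≫
        ((EtMV.ψ pY e (pY ≫ e) rfl).inv.app (R.X n)).hom.app (op (EtCoh.top PX)) ≫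
        ((EtCoh.pull pY).map (t.f n)).hom.app (op (EtCoh.top PX)) ≫
        (secIso PX).inv.app ((EtCoh.pull pY).obj (J.X n)) :=
  secInv_homKMap m (locMap e aS pY m wm t) n _ _ _ (locMap_f e aS pY m wm t n)

/-- the two sides of the comparison as isomorphisms -/
def stalkSrc (G : EtCoh.Ab T) :
    (EtCoh.stalk (Hens2.geomPt X x RX)).obj ((EtCoh.pull f).obj ((EtCoh.push g).obj G)) ≅
      (preadditiveCoyoneda.obj (op (EtCoh.const PS ℤ))).obj ((EtCoh.pull aS).obj G) :=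
  (asIso (stalkUS f s RS x RX ρ hρ ((EtCoh.push g).obj G))).symm ≪≫ stalkHom g s RS aS bS HS G

theorem stalkHom_natural {G G' : EtCoh.Ab T} (φ : G ⟶ G') :
    (stalkHom g s RS aS bS HS G).hom ≫
        (preadditiveCoyoneda.obj (op (EtCoh.const PS ℤ))).map ((EtCoh.pull aS).map φ) =
      (EtCoh.stalk (Hens2.geomPt S s RS)).map ((EtCoh.push g).map φ) ≫ (stalkHom g s RS aS bS HS G').hom :=
  (sq_comp ((θP g s RS aS bS HS.w).naturality φ) ((secIso PS).inv.naturality ((EtCoh.pull aS).map φ))).symm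

theorem stalkSrc_natural {G G' : EtCoh.Ab T} (φ : G ⟶ G') :
    (stalkSrc f g s RS x RX ρ hρ aS bS HS G).hom ≫
        (preadditiveCoyoneda.obj (op (EtCoh.const PS ℤ))).map ((EtCoh.pull aS).map φ) =
      (EtCoh.stalk (Hens2.geomPt X x RX)).map ((EtCoh.pull f).map ((EtCoh.push g).map φ)) ≫
        (stalkSrc f g s RS x RX ρ hρ aS bS HS G').hom :=
  src_natural (stalkUS_natural f s RS x RX ρ hρ ((EtCoh.push g).map φ)) (stalkHom_natural g s RS aS bS HS φ)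

theorem locMap_zero {R : CochainComplex (EtCoh.Ab T) ℕ} {J : CochainComplex (EtCoh.Ab Y) ℕ}
    (t : ((EtCoh.pull e).mapHomologicalComplex (ComplexShape.up ℕ)).obj R ⟶ J) {M : EtCoh.Ab T}
    (ι : (CochainComplex.single₀ (EtCoh.Ab T)).obj M ⟶ R)
    (ι' : (CochainComplex.single₀ (EtCoh.Ab Y)).obj ((EtCoh.pull e).obj M) ⟶ J)
    (ht : (EtCoh.pull e).map (ι.f 0) ≫ t.f 0 = ι'.f 0) :
    (EtCoh.pull m).map ((RDer.mapAug (EtCoh.pull aS) ι).f 0) ≫ (locMap e aS pY m wm t).f 0 =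
      (EtMV.ψ m aS (pY ≫ e) wm).hom.app M ≫ ((EtMV.ψ pY e (pY ≫ e) rfl).symm.app M).hom ≫
        (RDer.mapAug (EtCoh.pull pY) ι').f 0 :=
  natMap_zero (F := EtCoh.pull aS) (P := EtCoh.pull m) (P' := EtCoh.pull e) (F' := EtCoh.pull pY)
    (EtMV.ψ m aS (pY ≫ e) wm).hom (EtMV.ψ pY e (pY ≫ e) rfl).inv t ι ι' ht

include hρ HS HX wm wb in
theorem stalk_natMap {R : CochainComplex (EtCoh.Ab T) ℕ} {J : CochainComplex (EtCoh.Ab Y) ℕ}
    (t : ((EtCoh.pull e).mapHomologicalComplex (ComplexShape.up ℕ)).obj R ⟶ J) (n : ℕ) :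
    stalkUS f s RS x RX ρ hρ ((EtCoh.push g).obj (R.X n)) ≫
        (EtCoh.stalk (Hens2.geomPt X x RX)).map ((σBC g f h e w).app (R.X n) ≫ (EtCoh.push h).map (t.f n)) ≫
        (stalkHom h x RX pY bX HX (J.X n)).hom =
      (stalkHom g s RS aS bS HS (R.X n)).hom ≫
        (homKMap (locMap e aS pY m wm t) (EtCore.pullConst m ℤ).inv).f n := by
  have key := stalk_σBC f g h e w s RS x RX ρ hρ pY bX HX.w (hPS_of g e s RS RX ρ aS bS pY bX m wm wb HS.w) (R.X n)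
  rw [← θP_secRes g s RS aS bS HS.w (pY ≫ e) _ _ m wm wb] at key
  exact assemble ((EtCoh.stalk (Hens2.geomPt X x RX)).map_comp _ _) key
    ((θP h x RX pY bX HX.w).naturality (t.f n)) (secInv_locMap e aS pY m wm t n)
    (congr_app (congrArg (fun k => k.hom) ((EtMV.ψ pY e (pY ≫ e) rfl).hom_inv_id_app (R.X n)))
      (op (EtCoh.top PX)))

include hρ HS HX wm wb in
theorem isIso_stalk_bcQ_iff [PreservesFiniteLimits (EtCoh.pull m)] :
    IsIso ((EtCoh.stalk (Hens2.geomPt X x RX)).map (EtBC.bcQ g f h e w q F)) ↔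
      Function.Bijective (EtCore.HpullVia m aS (pY ≫ e) wm F q) := by
  let R := injectiveResolution F
  let J := injectiveResolution ((EtCoh.pull e).obj F)
  let t := sRes e R J
  let st := EtCoh.stalk (Hens2.geomPt X x RX)
  haveI : PreservesFiniteLimits st := inferInstance
  haveI : st.Additive := Functor.additive_of_preserves_binary_products _
  haveI : st.PreservesHomology := Functor.preservesHomologyOfExact _
  rw [bcQ_eq g f h e w F q J t (sRes_zero e R J), Functor.map_comp, Functor.map_comp, Functor.map_comp,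
    isIso_comp_left_iff, isIso_comp_left_iff, isIso_comp_right_iff]
  have hh := homologyMap_map_eq st (natMap (σBC g f h e w) t) q
  refine Iff.trans ?_ ((isIso_homologyMap_homKMap_iff (locMap e aS pY m wm t) ?_ ?_
    (EtCore.pullConst m ℤ).inv ?_ ?_ q).trans ?_)
  · rw [← isIso_comp_right_iff (st.map (HomologicalComplex.homologyMap (natMap (σBC g f h e w) t) q))
      (((((EtCoh.push h).mapHomologicalComplex (ComplexShape.up ℕ)).obj J.cocomplex).sc q).mapHomologyIso st).inv,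
      ← isIso_comp_left_iff ((((((EtCoh.pull f).mapHomologicalComplex (ComplexShape.up ℕ)).obj
        (((EtCoh.push g).mapHomologicalComplex (ComplexShape.up ℕ)).obj R.cocomplex))).sc q).mapHomologyIso st).hom,
      ← hh]
    let τS : (st.mapHomologicalComplex (ComplexShape.up ℕ)).obj
        (((EtCoh.pull f).mapHomologicalComplex (ComplexShape.up ℕ)).obj
          (((EtCoh.push g).mapHomologicalComplex (ComplexShape.up ℕ)).obj R.cocomplex)) ≅
        homK (((EtCoh.pull aS).mapHomologicalComplex (ComplexShape.up ℕ)).obj R.cocomplex) (EtCoh.const PS ℤ) :=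
      HomologicalComplex.Hom.isoOfComponents
        (fun n => stalkSrc f g s RS x RX ρ hρ aS bS HS (R.cocomplex.X n))
        (fun i j _ => stalkSrc_natural f g s RS x RX ρ hρ aS bS HS (R.cocomplex.d i j))
    let τX : (st.mapHomologicalComplex (ComplexShape.up ℕ)).obj
        (((EtCoh.push h).mapHomologicalComplex (ComplexShape.up ℕ)).obj J.cocomplex) ≅
        homK (((EtCoh.pull pY).mapHomologicalComplex (ComplexShape.up ℕ)).obj J.cocomplex) (EtCoh.const PX ℤ) :=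
      HomologicalComplex.Hom.isoOfComponents (fun n => stalkHom h x RX pY bX HX (J.cocomplex.X n))
        (fun i j _ => stalkHom_natural h x RX pY bX HX (J.cocomplex.d i j))
    have hsq : (st.mapHomologicalComplex (ComplexShape.up ℕ)).map (natMap (σBC g f h e w) t) ≫ τX.hom =
        τS.hom ≫ homKMap (locMap e aS pY m wm t) (EtCore.pullConst m ℤ).inv :=
      HomologicalComplex.hom_ext _ _ fun n => src_comm (stalk_natMap f g h e w s RS x RX ρ hρ aS bS HS pY bX HX m wm wb t n)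
    exact arrow_iso_iff _ _ ((HomologicalComplex.homologyFunctor _ _ q).mapIso τS)
      ((HomologicalComplex.homologyFunctor _ _ q).mapIso τX)
      (((HomologicalComplex.homologyMap_comp _ _ q).symm.trans (congrArg (HomologicalComplex.homologyMap · q) hsq)).trans
        (HomologicalComplex.homologyMap_comp _ _ q))
  · intro n
    exact RDer.res_exactAt_succ _ (RDer.mapAug (EtCoh.pull aS) R.ι) n
  · intro n
    exact RDer.res_exactAt_succ _ (RDer.mapAug (EtCoh.pull pY) J.ι) n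
  · intro n k
    exact subsingleton_ext_pull_injective g s RS aS bS HS (R.cocomplex.X n) k
  · intro n k
    exact subsingleton_ext_pull_injective h x RX pY bX HX (J.cocomplex.X n) k
  · refine extMap_jCyc (locMap e aS pY m wm t) _ (RDer.mapAug (EtCoh.pull aS) R.ι) (RDer.mapAug (EtCoh.pull pY) J.ι)
      ((EtMV.ψ m aS (pY ≫ e) wm).hom.app F) ((EtMV.ψ pY e (pY ≫ e) rfl).symm.app F) ?_ _ fun y => ?_
    · exact locMap_zero e aS pY m wm t R.ι J.ι (sRes_zero e R J)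
    · exact EtMV.HpullVia_apply m aS (pY ≫ e) wm F q y

end Iff

end Groth.Agent.EtBCQ
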