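import Groth.Agent.EtBCQ.StrictSys
import Groth.Agent.EtBCQ.StalkIff
import Groth.Agent.WeakEt.StrictHens
import Groth.Agent.WeakEt.Module
import Groth.Agent.EtCohDesc.Retract
import Mathlib

/-! Restriction maps in degree zero; flatness between strict localisations. -/

set_option autoImplicit false
set_option backward.isDefEq.respectTransparency false
set_option backward.isDefEq.respectTransparency.types false
set_option maxHeartbeats 1000000
set_option linter.style.haveILetI false
set_option linter.overlappingInstances false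
set_option linter.unusedSectionVars false
set_option linter.auxLemma false

universe u

open CategoryTheory CategoryTheory.Limits CategoryTheory.Abelian AlgebraicGeometry Opposite IsLocalRing
open scoped TensorProduct

noncomputable section

namespace Groth.Agent.EtBCQ

attribute [local instance 100000] EtCoh.H._proof_1 Groth.Agent.EtMV.hext
attribute [local instance 200000] Groth.Agent.EtMV.hextAb

open EtStrictLoc (secIso)

section Flat

theorem flat_of_strict {R A B M : Type u} [CommRing R] [IsLocalRing R] [CommRing A] [IsLocalRing A] [Algebra R A]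
    [IsLocalHom (algebraMap R A)] [_root_.Hensel.IsStrictHenselization R A] [CommRing M] [CommRing B]
    (φ : R →+* B) (hφ : φ.Flat) (j : B →+* M) (hj : j.Flat) (ψ : A →+* M)
    (h : ψ.comp (algebraMap R A) = j.comp φ) : ψ.Flat := by
  haveI := WeakEt.weaklyEtale_strictHenselization R A
  letI := ψ.toAlgebra
  letI := (ψ.comp (algebraMap R A)).toAlgebra
  haveI : IsScalarTower R A M := IsScalarTower.of_algebraMap_eq fun _ => rfl
  haveI : Module.Flat R M := by
    have h2 : (ψ.comp (algebraMap R A)).Flat := by rw [h]; exact RingHom.Flat.comp hφ hj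
    exact h2
  exact WeakEt.flat_of_flat_lmul (Algebra.WeaklyEtale.flat_lmul' R A) M

end Flat

section Zero

theorem bijective_comp_of_top {X : Scheme.{u}} {G G' : EtCoh.Ab X} (a : G ⟶ G')
    (h : Function.Bijective (a.hom.app (op (EtCoh.top X)))) :
    Function.Bijective fun φ : EtCoh.const X ℤ ⟶ G => φ ≫ a := by
  have hnat : ∀ φ : EtCoh.const X ℤ ⟶ G,
      (secIso X).hom.app G' (φ ≫ a) = a.hom.app (op (EtCoh.top X)) ((secIso X).hom.app G φ) :=
    fun φ => ConcreteCategory.congr_hom ((secIso X).hom.naturality a) φ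
  have hb : ∀ K, Function.Bijective ((secIso X).hom.app K) := fun K =>
    ConcreteCategory.bijective_of_isIso ((secIso X).hom.app K)
  refine ⟨fun φ φ' hφ => (hb G).1 (h.1 ?_), fun χ => ?_⟩
  · exact (hnat φ).symm.trans ((congrArg ((secIso X).hom.app G') hφ).trans (hnat φ'))
  · obtain ⟨s, hs⟩ := h.2 ((secIso X).hom.app G' χ)
    obtain ⟨φ, rfl⟩ := (hb G).2 s
    exact ⟨φ, (hb G').1 ((hnat φ).trans hs)⟩

theorem bijective_pullHom {P' P : Scheme.{u}} (m : P' ⟶ P) (G : EtCoh.Ab P)
    (h : Function.Bijective (((EtCoh.pullPushAdj m).unit.app G).hom.app (op (EtCoh.top P)))) :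
    Function.Bijective fun φ : EtCoh.const P ℤ ⟶ G => (EtCore.pullConst m ℤ).inv ≫ (EtCoh.pull m).map φ := by
  have h1 : ∀ φ : EtCoh.const P ℤ ⟶ G, (EtCoh.pull m).map φ =
      ((EtCoh.pullPushAdj m).homEquiv _ _).symm (φ ≫ (EtCoh.pullPushAdj m).unit.app G) := fun φ => by
    refine ((Equiv.symm_apply_eq _).2 ?_).symm
    rw [Adjunction.homEquiv_unit]
    exact (EtCoh.pullPushAdj m).unit.naturality φ
  have h2 := ((((EtCoh.pullPushAdj m).homEquiv (EtCoh.const P ℤ) ((EtCoh.pull m).obj G)).symm.bijective).comp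
    (bijective_comp_of_top _ h))
  have h3 : Function.Bijective fun χ : (EtCoh.pull m).obj (EtCoh.const P ℤ) ⟶ (EtCoh.pull m).obj G =>
      (EtCore.pullConst m ℤ).inv ≫ χ := by
    convert (Iso.homCongr (EtCore.pullConst m ℤ) (Iso.refl ((EtCoh.pull m).obj G))).bijective using 1
    funext χ
    simp [Iso.homCongr]
  convert h3.comp h2 using 1
  funext φ
  rw [h1]
  rfl

theorem bijective_T_zero {P' P : Scheme.{u}} (m : P' ⟶ P) [PreservesFiniteLimits (EtCoh.pull m)] (G : EtCoh.Ab P)
    (h : Function.Bijective (((EtCoh.pullPushAdj m).unit.app G).hom.app (op (EtCoh.top P)))) :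
    Function.Bijective (EtMV.T (EtCoh.pull m) (EtCore.pullConst m ℤ).inv G 0) := by
  refine ⟨fun a b hab => ?_, fun y => ?_⟩
  · obtain ⟨φ, rfl⟩ := (Ext.mk₀_bijective _ _).2 a
    obtain ⟨φ', rfl⟩ := (Ext.mk₀_bijective _ _).2 b
    rw [EtMV.T_mk₀, EtMV.T_mk₀] at hab
    exact congrArg _ ((bijective_pullHom m G h).1 ((Ext.mk₀_bijective _ _).1 hab))
  · obtain ⟨χ, rfl⟩ := (Ext.mk₀_bijective _ _).2 y
    obtain ⟨φ, rfl⟩ := (bijective_pullHom m G h).2 χ
    exact ⟨Ext.mk₀ φ, EtMV.T_mk₀ _ _ φ⟩

theorem bijective_HpullVia_zero {P' P Z : Scheme.{u}} (m : P' ⟶ P) (a : P ⟶ Z) (a' : P' ⟶ Z) (w : m ≫ a = a')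
    [PreservesFiniteLimits (EtCoh.pull m)] (F : EtCoh.Ab Z)
    (h : Function.Bijective
      (((EtCoh.pullPushAdj m).unit.app ((EtCoh.pull a).obj F)).hom.app (op (EtCoh.top P)))) :
    Function.Bijective (EtCore.HpullVia m a a' w F 0) := by
  convert (bijective_comp_mk₀ _ ((EtMV.ψ m a a' w).app F) 0).comp (bijective_T_zero m _ h) using 1
  funext y
  exact EtMV.HpullVia_apply m a a' w F 0 y

theorem isIso_baseChange0_of_bcQ {X S X' S' : Scheme.{u}} (f : X ⟶ S) (g : S' ⟶ S) (f' : X' ⟶ S') (g' : X' ⟶ X)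
    (w : g' ≫ f = f' ≫ g) [PreservesFiniteLimits (EtCoh.pull g')] (F : EtCoh.Ab X)
    [IsIso (EtBC.bcQ f g f' g' w 0 F)] : IsIso (EtCoh.baseChange0 f g f' g' w F) := by
  have h := EtBC.bcQ_zero_compat f g f' g' w F
  haveI : IsIso ((EtCoh.push f').toRightDerivedZero.app ((EtCoh.pull g').obj F)) := inferInstance
  haveI : IsIso ((EtCoh.push f).toRightDerivedZero.app F) := inferInstance
  have h' : EtCoh.baseChange0 f g f' g' w F = ((EtCoh.pull g).map ((EtCoh.push f).toRightDerivedZero.app F) ≫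
      EtBC.bcQ f g f' g' w 0 F) ≫ inv ((EtCoh.push f').toRightDerivedZero.app ((EtCoh.pull g').obj F)) := by
    rw [IsIso.eq_comp_inv]; exact h.symm
  rw [h']
  infer_instance

end Zero

end Groth.Agent.EtBCQ
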