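import Groth.Agent.EtBCQ.Etale
import Groth.Agent.EtMV.Etale
import Groth.Agent.EtIntegral.BaseChange
import Groth.Agent.EtLimit.BaseChange
import Mathlib.CategoryTheory.Abelian.RightDerived

/-! Base change along etale morphisms, and conservativity of etale coverings. -/

set_option autoImplicit false
set_option backward.isDefEq.respectTransparency false
set_option backward.isDefEq.respectTransparency.types false
set_option linter.style.haveILetI false
set_option maxHeartbeats 4000000

universe u

open CategoryTheory CategoryTheory.Limits AlgebraicGeometry Opposite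

noncomputable section

namespace Groth.Agent.EtBCQ

open EtLimit (fstE hm hm_fst bc_hom_ext bc_map_fst left_snd)
open EtMV (r r_natural)

variable {U X : Scheme.{u}} (v : U ⟶ X) [Etale v]

/-- the diagonal of an object over an étale `X`-scheme -/
def δW (W : U.Etale) : W ⟶ (EtCoh.bc v).obj ((EtShriek.compEtale v).obj W) :=
  hm v _ W (𝟙 W.left) (Category.id_comp _)

theorem δW_fst (W : U.Etale) : (δW v W).left ≫ fstE v _ = 𝟙 W.left := hm_fst _ _ _ _ _

theorem ptA {C : Type*} [Category* C] {a b c d m n : C} {A : a ⟶ b} {B : b ⟶ c} {ft : c ⟶ m} {fg : m ⟶ n}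
    {p : b ⟶ d} {q : d ⟶ n} {p' : a ⟶ n} {dl : n ⟶ d}
    (h₁ : B ≫ ft ≫ fg = p ≫ q) (h₂ : A ≫ p = p' ≫ dl) (h₄ : dl ≫ q = 𝟙 n) :
    ((A ≫ B) ≫ ft) ≫ fg = p' := by
  rw [Category.assoc, Category.assoc, h₁, reassoc_of% h₂, h₄, Category.comp_id]

theorem ptB {C : Type*} [Category* C] {a b c m n : C} {A : a ⟶ b} {B : b ⟶ c} {ft : c ⟶ m} {fg : m ⟶ n}
    {p : b ⟶ a} {th : a ⟶ m} {p' : a ⟶ n} (h₃ : B ≫ ft = p ≫ th) (h₅ : A ≫ p = 𝟙 a) (h₆ : th ≫ fg = p') :
    ((A ≫ B) ≫ ft) ≫ fg = p' := by
  rw [Category.assoc, Category.assoc, reassoc_of% h₃, reassoc_of% h₅, h₆]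

theorem r_δW_bijective (W : U.Etale) (G : EtCoh.Ab X) : Function.Bijective (r v (δW v W) G) := by
  haveI := EtMV.jcont_etale v
  let A := EtPushStalk.restrPushAdj v
  let B := EtCoh.pullPushAdj v
  let i := EtPushStalk.restrPullIso v
  let o := (EtShriek.compEtale v).obj W
  have hu : B.unit.app G = A.unit.app G ≫ (EtCoh.push v).map (i.hom.app G) :=
    (Adjunction.unit_leftAdjointUniq_hom_app A B G).symm
  have hA : (A.unit.app G).hom.app (op o) =
      G.obj.map ((EtPushStalk.compBcAdj v).counit.app o).op := by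
    have := congr_app (Adjunction.map_restrictFullyFaithful_unit_app
      ((EtPushStalk.compBcAdj v).op.whiskerLeft AddCommGrpCat.{u + 1})
      (fullyFaithfulSheafToPresheaf X.smallEtaleTopology AddCommGrpCat.{u + 1})
      (fullyFaithfulSheafToPresheaf _ _)
      (L := EtShriek.restrAlong v) (R := EtCoh.push v) (Iso.refl _) (Iso.refl _) G) (op o)
    simp at this
    exact this
  let g := (EtShriek.compEtale v).map (δW v W) ≫ (EtPushStalk.compBcAdj v).counit.app o
  have hgl : g.left = 𝟙 _ := by
    refine Eq.trans ?_ (δW_fst v W)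
    show (δW v W).left ≫ _ = _
    simp [EtPushStalk.compBcAdj, MorphismProperty.Over.mapPullbackAdj, o]
    rfl
  haveI hg : IsIso g := by
    refine ⟨𝟙 _, ?_, ?_⟩ <;> refine MorphismProperty.Over.Hom.ext ?_
    · show g.left ≫ 𝟙 _ = 𝟙 _
      rw [hgl]; exact Category.comp_id _
    · show 𝟙 _ ≫ g.left = 𝟙 _
      rw [hgl]; exact Category.comp_id _
  have hr : r v (δW v W) G = (i.hom.app G).hom.app (op W) ∘ G.obj.map g.op := by
    funext s
    rw [r, show (EtCoh.pullPushAdj v).unit.app G = _ from hu]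
    show ((EtCoh.pull v).obj G).obj.map (δW v W).op
      ((i.hom.app G).hom.app (op ((EtCoh.bc v).obj o)) ((A.unit.app G).hom.app (op o) s)) = _
    refine (NatTrans.naturality_apply (i.hom.app G).hom (δW v W).op _).symm.trans (congrArg _ ?_)
    rw [hA]
    show G.obj.map ((EtShriek.compEtale v).map (δW v W)).op
      (G.obj.map ((EtPushStalk.compBcAdj v).counit.app o).op s) = G.obj.map g.op s
    erw [← ConcreteCategory.comp_apply, ← G.obj.map_comp]
    rfl
  rw [hr]
  exact (ConcreteCategory.bijective_of_isIso ((i.hom.app G).hom.app _)).comp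
    (ConcreteCategory.bijective_of_isIso (G.obj.map g.op))

/-- a covering family of étale schemes is conservative -/
theorem isIso_of_covers {ι : Type u} (W : ι → X.Etale) (hW : EtCoh.Covers W) {F G : EtCoh.Ab X} (a : F ⟶ G)
    (h : ∀ i, IsIso ((EtCoh.pull (W i).hom).map a)) : IsIso a := by
  let P : ∀ (Ω : Type u) [Field Ω] [IsSepClosed Ω], (Spec (CommRingCat.of Ω) ⟶ X) → Prop :=
    fun Ω _ _ ξ => ∃ (i : ι) (ξ' : Spec (CommRingCat.of Ω) ⟶ (W i).left), ξ' ≫ (W i).hom = ξ
  have hP : Groth.Agent.EtStalk.Covers P := fun x => by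
    obtain ⟨i, y, hy⟩ := hW x
    let ξ' : Spec (CommRingCat.of (AlgebraicClosure ((W i).left.residueField y))) ⟶ (W i).left :=
      Spec.map (CommRingCat.ofHom (algebraMap ((W i).left.residueField y) _)) ≫ (W i).left.fromSpecResidueField y
    refine ⟨AlgebraicClosure ((W i).left.residueField y), inferInstance, inferInstance, ξ' ≫ (W i).hom,
      ⟨i, ξ', rfl⟩, ?_⟩
    rw [← hy, Scheme.Hom.comp_apply]
    exact congrArg _ ((W i).left.fromSpecResidueField_apply y _)
  have hb : ∀ (Ω : Type u) [Field Ω] [IsSepClosed Ω] (ξ : Spec (CommRingCat.of Ω) ⟶ X), P Ω ξ →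
      Function.Bijective ((EtCoh.stalk ξ).map a) := by
    rintro Ω _ _ ξ ⟨i, ξ', rfl⟩
    haveI := h i
    haveI : IsIso ((EtCoh.pull (W i).hom ⋙ EtCoh.stalk ξ').map a) :=
      inferInstanceAs (IsIso ((EtCoh.stalk ξ').map ((EtCoh.pull (W i).hom).map a)))
    exact (ConcreteCategory.isIso_iff_bijective _).mp
      ((NatIso.isIso_map_iff (EtStalk.stalkPullIso (W i).hom ξ') a).2 inferInstance)
  have : Presheaf.IsLocallyInjective X.smallEtaleTopology a.hom :=
    Groth.Agent.EtStalk.isLocallyInjective_of_covers _ hP fun Ω _ _ ξ hξ => (hb Ω ξ hξ).1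
  have : Sheaf.IsLocallySurjective a :=
    Groth.Agent.EtStalk.isLocallySurjective_of_covers _ hP fun Ω _ _ ξ hξ => (hb Ω ξ hξ).2
  have : Mono a := Sheaf.mono_of_isLocallyInjective a
  have : Epi a := inferInstance
  exact isIso_of_mono_of_epi a

variable {T T' : Scheme.{u}} (g : T ⟶ X) (g' : T' ⟶ U) (t : T' ⟶ T) [Etale t] (H : IsPullback t g' g v)

/-- the comparison `W ×_V T' → W ×_S T` -/
def θ (W : U.Etale) :
    (EtShriek.compEtale t).obj ((EtCoh.bc g').obj W) ⟶ (EtCoh.bc g).obj ((EtShriek.compEtale v).obj W) :=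
  MorphismProperty.Over.homMk ((IsPullback.of_hasPullback W.hom g').paste_vert H.flip).isoPullback.hom
    ((IsPullback.of_hasPullback W.hom g').paste_vert H.flip).isoPullback_hom_snd

instance (W : U.Etale) : IsIso (θ v g g' t H W) := by
  let e := (IsPullback.of_hasPullback W.hom g').paste_vert H.flip
  exact ⟨MorphismProperty.Over.homMk e.isoPullback.inv e.isoPullback_inv_snd,
    MorphismProperty.Over.Hom.ext e.isoPullback.hom_inv_id, MorphismProperty.Over.Hom.ext e.isoPullback.inv_hom_id⟩

theorem θ_fst (W : U.Etale) : (θ v g g' t H W).left ≫ fstE g _ = fstE g' W :=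
  ((IsPullback.of_hasPullback W.hom g').paste_vert H.flip).isoPullback_hom_fst

include H in
theorem isIso_σBC_etale (M : EtCoh.Ab T) : IsIso ((σBC g v g' t H.w).app M) := by
  haveI : ∀ W : U.Etaleᵒᵖ, IsIso (((σBC g v g' t H.w).app M).hom.app W) := by
    intro W
    induction W using Opposite.rec with | op W => ?_
    rw [ConcreteCategory.isIso_iff_bijective]
    let o := (EtShriek.compEtale v).obj W
    let W' := (EtCoh.bc g').obj W
    let ζ : W' ⟶ (EtCoh.bc t).obj ((EtCoh.bc g).obj o) := δW t W' ≫ (EtCoh.bc t).map (θ v g g' t H W)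
    have hswap : (EtCoh.bc g').map (δW v W) ≫ EtIntegral.bcSwap g v g' t H.w o = ζ := by
      refine bc_hom_ext t _ _ (pullback.hom_ext (f := o.hom) (g := g) ?_ ?_)
      · have h₁ := EtIntegral.bcSwap_fst g v g' t H.w o
        have h₂ := bc_map_fst g' (δW v W)
        have h₃ := bc_map_fst t (θ v g g' t H W)
        have h₄ := δW_fst v W
        have h₅ := δW_fst t W'
        have h₆ := θ_fst v g g' t H W
        exact (ptA h₁ h₂ h₄).trans (ptB h₃ h₅ h₆).symm
      · have hs : ∀ c : W' ⟶ (EtCoh.bc t).obj ((EtCoh.bc g).obj o),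
            (c.left ≫ fstE t _) ≫ pullback.snd o.hom g = W'.hom ≫ t := fun c => by
          rw [← left_snd t c, Category.assoc, Category.assoc]
          exact congrArg (c.left ≫ ·) pullback.condition
        exact (hs _).trans (hs _).symm
    have key : ((σBC g v g' t H.w).app M).hom.app (op W) ∘ r v (δW v W) ((EtCoh.push g).obj M) =
        r t (δW t W') M ∘ M.obj.map (θ v g g' t H W).op := by
      funext s
      refine (NatTrans.naturality_apply ((σBC g v g' t H.w).app M).hom (δW v W).op _).trans ?_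
      refine Eq.trans (congrArg _ (EtIntegral.baseChange0_unit g v g' t H.w M o s)) ?_
      change ((EtCoh.pull t).obj M).obj.map ((EtCoh.bc g').map (δW v W)).op
        (((EtCoh.pull t).obj M).obj.map (EtIntegral.bcSwap g v g' t H.w o).op _) = _
      rw [← ConcreteCategory.comp_apply, ← Functor.map_comp, ← op_comp, hswap]
      simp only [ζ, op_comp, Functor.map_comp, ConcreteCategory.comp_apply, Function.comp_apply]
      refine congrArg _ ?_
      exact (NatTrans.naturality_apply ((EtCoh.pullPushAdj t).unit.app M).hom (θ v g g' t H W).op s).symm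
    refine (Function.Bijective.of_comp_iff _ (r_δW_bijective v W ((EtCoh.push g).obj M))).1 ?_
    rw [key]
    exact (r_δW_bijective t W' M).comp (ConcreteCategory.bijective_of_isIso (M.obj.map (θ v g g' t H W).op))
  haveI : IsIso ((σBC g v g' t H.w).app M).hom := NatIso.isIso_of_isIso_app _
  exact ⟨⟨inv ((σBC g v g' t H.w).app M).hom⟩, ObjectProperty.hom_ext _ (IsIso.hom_inv_id _),
    ObjectProperty.hom_ext _ (IsIso.inv_hom_id _)⟩

include H in
theorem isIso_bcQ_etale [PreservesFiniteLimits (EtCoh.pull t)] (M : EtCoh.Ab T) (q : ℕ) :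
    IsIso (EtBC.bcQ g v g' t H.w q M) := by
  haveI := EtMV.pull_etale_preservesInjective t
  let R := injectiveResolution M
  let J : InjectiveResolution ((EtCoh.pull t).obj M) :=
    { cocomplex := ((EtCoh.pull t).mapHomologicalComplex (ComplexShape.up ℕ)).obj R.cocomplex
      injective := fun n => Functor.injective_obj (EtCoh.pull t) (R.cocomplex.X n)
      ι := RDer.mapAug (EtCoh.pull t) R.ι }
  refine (isIso_bcQ_iff g v g' t H.w M q J (𝟙 _) ?_).2 ?_
  · exact (Category.comp_id _).trans (mapAug_f_zero R.ι).symm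
  · haveI : IsIso (natMap (σBC g v g' t H.w) (𝟙 J.cocomplex)) := by
      haveI : ∀ n, IsIso ((natMap (σBC g v g' t H.w) (𝟙 J.cocomplex)).f n) := fun n => by
        haveI := isIso_σBC_etale v g g' t H (R.cocomplex.X n)
        simp only [natMap, HomologicalComplex.id_f, CategoryTheory.Functor.map_id, Category.comp_id]
        exact inferInstanceAs (IsIso ((σBC g v g' t H.w).app (R.cocomplex.X n) ≫ 𝟙 _))
      exact HomologicalComplex.Hom.isIso_of_components _
    infer_instance

end Groth.Agent.EtBCQ
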