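import Groth.Agent.EtBCQ.Vcomp
import Groth.Agent.EtBCQ.EtaleBC
import Mathlib.CategoryTheory.Abelian.RightDerived

/-! The base change map is étale local. -/

set_option autoImplicit false
set_option backward.isDefEq.respectTransparency false
set_option backward.isDefEq.respectTransparency.types false
set_option linter.style.haveILetI false
set_option maxHeartbeats 4000000

universe u

open CategoryTheory CategoryTheory.Limits AlgebraicGeometry

noncomputable section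

namespace Groth.Agent.EtBCQ

variable {X S Y T W Z : Scheme.{u}}

theorem isIso_bcQ_congr (g : T ⟶ S) (f f' : X ⟶ S) (h : Y ⟶ X) (e e' : Y ⟶ T) (hf : f = f') (he : e = e')
    (w : e ≫ g = h ≫ f) (w' : e' ≫ g = h ≫ f') [PreservesFiniteLimits (EtCoh.pull e)]
    [PreservesFiniteLimits (EtCoh.pull e')] (F : EtCoh.Ab T) (q : ℕ) (hi : IsIso (EtBC.bcQ g f h e w q F)) :
    IsIso (EtBC.bcQ g f' h e' w' q F) := by
  subst hf he
  exact hi

variable (f : X ⟶ S) (g : T ⟶ S) (h : Y ⟶ X) (e : Y ⟶ T) (c : IsPullback e h g f) (F : EtCoh.Ab T) (q : ℕ)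

/-- One step: the outer map is an isomorphism and the upper square is étale. -/
theorem isIso_pull_of_outer [PreservesFiniteLimits (EtCoh.pull e)] {U : Scheme.{u}} (v : U ⟶ X) [Etale v]
    {YU : Scheme.{u}} (j : YU ⟶ U) (k : YU ⟶ Y) [Etale k] (c' : IsPullback k j h v)
    (wo : (k ≫ e) ≫ g = j ≫ v ≫ f) [PreservesFiniteLimits (EtCoh.pull k)]
    [PreservesFiniteLimits (EtCoh.pull (k ≫ e))] (ho : IsIso (EtBC.bcQ g (v ≫ f) j (k ≫ e) wo q F)) :
    IsIso ((EtCoh.pull v).map (EtBC.bcQ g f h e c.w q F)) := by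
  obtain ⟨R, b, hb, hab⟩ := exists_vcomp f g h e c.w v j k c'.w wo F q
  haveI := hb.1 (isIso_bcQ_etale v h j k c' ((EtCoh.pull e).obj F) q)
  haveI := hab.1 ho
  exact IsIso.of_isIso_comp_right _ b

theorem isIso_bcQ_of_etale_local [PreservesFiniteLimits (EtCoh.pull e)]
    {ι : Type u} (U : ι → X.Etale) (hU : EtCoh.Covers U) (V : ι → S.Etale) (a : ∀ i, (U i).left ⟶ (V i).left)
    (ha : ∀ i, a i ≫ (V i).hom = (U i).hom ≫ f) (Ti Yi : ι → Scheme.{u}) (gi : ∀ i, Ti i ⟶ (V i).left)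
    (ti : ∀ i, Ti i ⟶ T) (cT : ∀ i, IsPullback (ti i) (gi i) g (V i).hom) (hi : ∀ i, Yi i ⟶ (U i).left)
    (ei : ∀ i, Yi i ⟶ Ti i) (cY : ∀ i, IsPullback (ei i) (hi i) (gi i) (a i))
    [∀ i, PreservesFiniteLimits (EtCoh.pull (ei i))]
    (hloc : ∀ i, IsIso (EtBC.bcQ (gi i) (a i) (hi i) (ei i) (cY i).w q ((EtCoh.pull (ti i)).obj F))) :
    IsIso (EtBC.bcQ g f h e c.w q F) := by
  refine isIso_of_covers U hU _ fun i => ?_
  haveI : Etale (U i).hom := (U i).prop
  haveI : Etale (V i).hom := (V i).prop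
  have hT : IsPullback (ei i ≫ ti i) (hi i) g (a i ≫ (V i).hom) := (cY i).paste_horiz (cT i)
  rw [ha i] at hT
  let k : Yi i ⟶ Y := c.lift (ei i ≫ ti i) (hi i ≫ (U i).hom) (by rw [hT.w, Category.assoc])
  have hk : k ≫ e = ei i ≫ ti i := c.lift_fst _ _ _
  have c' : IsPullback k (hi i) h (U i).hom :=
    IsPullback.of_right (hk.symm ▸ hT : IsPullback (k ≫ e) (hi i) g ((U i).hom ≫ f)) (c.lift_snd _ _ _) c
  haveI : Etale k := MorphismProperty.of_isPullback (P := @Etale) c'.flip ‹Etale (U i).hom›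
  haveI : Etale (ti i) := MorphismProperty.of_isPullback (P := @Etale) (cT i).flip ‹Etale (V i).hom›
  haveI : PreservesFiniteLimits (EtCoh.pull k) := EtCohDesc.pull_preservesFiniteLimits _
  haveI : PreservesFiniteLimits (EtCoh.pull (k ≫ e)) := EtCohDesc.pull_preservesFiniteLimits _
  haveI : PreservesFiniteLimits (EtCoh.pull (ei i ≫ ti i)) := EtCohDesc.pull_preservesFiniteLimits _
  haveI : PreservesFiniteLimits (EtCoh.pull (ti i)) := EtCohDesc.pull_preservesFiniteLimits _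
  have wo : (k ≫ e) ≫ g = hi i ≫ (U i).hom ≫ f := by rw [hk]; exact hT.w
  have wo' : (ei i ≫ ti i) ≫ g = hi i ≫ a i ≫ (V i).hom := by rw [ha i]; exact hT.w
  have ho := isIso_bcQ_congr g (a i ≫ (V i).hom) ((U i).hom ≫ f) (hi i) (ei i ≫ ti i) (k ≫ e) (ha i) hk.symm wo' wo F q
    (isIso_bcQ_vcomp (V i).hom g (gi i) (ti i) (cT i).w (a i) (hi i) (ei i) (cY i).w wo' F q
      (isIso_bcQ_etale (V i).hom g (gi i) (ti i) (cT i) F q) (hloc i))
  exact isIso_pull_of_outer f g h e c F q (U i).hom (hi i) k c' wo ho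

end Groth.Agent.EtBCQ
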