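import Groth.Agent.EtBCQ.Crit
import Groth.Agent.Hensel.DirectLimit
import Mathlib

/-! Strict localisations of the points of a limit of schemes. -/

set_option autoImplicit false
set_option backward.isDefEq.respectTransparency false
set_option backward.isDefEq.respectTransparency.types false
set_option linter.style.haveILetI false

universe u

open CategoryTheory CategoryTheory.Limits AlgebraicGeometry Opposite IsLocalRing

noncomputable section

namespace Groth.Agent.EtBCQ

/-- a strict localisation of a scheme at a given point -/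
structure SH (Z : Scheme.{u}) (z : Z) where
  /-- the ring -/
  R : Type u
  [cr : CommRing R]
  [lr : IsLocalRing R]
  [alg : Algebra (Z.presheaf.stalk z) R]
  [lh : IsLocalHom (algebraMap (Z.presheaf.stalk z) R)]
  [sh : _root_.Hensel.IsStrictHenselization (Z.presheaf.stalk z) R]

attribute [instance] SH.cr SH.lr SH.alg SH.lh SH.sh

theorem exists_mkSH (Z : Scheme.{u}) (z : Z) : Nonempty (SH Z z) := by
  obtain ⟨S, _, _, _, _, _⟩ := exists_sh (Z.presheaf.stalk z)
  exact ⟨{ R := S }⟩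

/-- a chosen strict localisation -/
def mkSH (Z : Scheme.{u}) (z : Z) : SH Z z := (exists_mkSH Z z).some

variable {Z : Scheme.{u}} {z : Z}

instance (P : SH Z z) : HenselianLocalRing P.R := P.sh.henselian
instance (P : SH Z z) : IsSepClosed (ResidueField P.R) := P.sh.isSepClosure.1

/-- its morphism to the scheme -/
abbrev SH.spec (P : SH Z z) : Spec (CommRingCat.of P.R) ⟶ Z := Hens2.specOf Z z P.R

theorem Spec_closedPoint' {A B : Type u} [CommRing A] [IsLocalRing A] [CommRing B] [IsLocalRing B] (g : A →+* B)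
    [IsLocalHom g] : Spec.map (CommRingCat.ofHom g) (closedPoint B) = closedPoint A :=
  IsLocalRing.comap_closedPoint g

theorem SH.spec_closed (P : SH Z z) : P.spec (closedPoint P.R) = z := by
  rw [SH.spec, Hens2.specOf, Scheme.Hom.comp_apply]
  exact (congrArg (Z.fromSpecStalk z) (Spec_closedPoint' (algebraMap (Z.presheaf.stalk z) P.R))).trans
    Scheme.fromSpecStalk_closedPoint

theorem eq_of_spec {A : Type u} [CommRing A] (a b : Z.presheaf.stalk z →+* A)
    (h : Spec.map (CommRingCat.ofHom a) ≫ Z.fromSpecStalk z = Spec.map (CommRingCat.ofHom b) ≫ Z.fromSpecStalk z) :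
    a = b :=
  congrArg CommRingCat.Hom.hom (Spec.map_injective ((cancel_mono (Z.fromSpecStalk z)).1 h))

theorem spec_comp_spec {A : Type u} [CommRing A] (P : SH Z z) (ψ : P.R →+* A) :
    Spec.map (CommRingCat.ofHom ψ) ≫ P.spec =
      Spec.map (CommRingCat.ofHom (ψ.comp (algebraMap (Z.presheaf.stalk z) P.R))) ≫ Z.fromSpecStalk z := by
  rw [SH.spec, Hens2.specOf, ← Category.assoc, ← Spec.map_comp]
  rfl

theorem exists_local_ring_map {A : Type u} [CommRing A] [IsLocalRing A] (v : Spec (CommRingCat.of A) ⟶ Z)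
    (hv : v (closedPoint A) = z) :
    ∃ φ : Z.presheaf.stalk z →+* A, IsLocalHom φ ∧ Spec.map (CommRingCat.ofHom φ) ≫ Z.fromSpecStalk z = v := by
  subst hv
  exact ⟨(Scheme.stalkClosedPointTo v).hom, inferInstance, Scheme.Spec_stalkClosedPointTo_fromSpecStalk v⟩

/-- existence of maps of strict localisations -/
theorem exists_strict_hom (P : SH Z z) {B : Type u} [CommRing B] [HenselianLocalRing B]
    [IsSepClosed (ResidueField B)] (v : Spec (CommRingCat.of B) ⟶ Z) (hv : v (closedPoint B) = z) :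
    ∃ ψ : P.R →+* B, IsLocalHom ψ ∧ Spec.map (CommRingCat.ofHom ψ) ≫ P.spec = v := by
  obtain ⟨φ, hφ, rfl⟩ := exists_local_ring_map v hv
  obtain ⟨ψ, hψ, hψ'⟩ := exists_hom_strict (A := Z.presheaf.stalk z) (B := B) (RA := P.R) (RB := B) φ
  exact ⟨ψ, hψ, by rw [spec_comp_spec, hψ', Algebra.algebraMap_self, RingHom.id_comp]⟩

theorem mem_range_of_separable {k K L Ω : Type u} [Field k] [Field K] [Field L] [Field Ω] [IsSepClosed L]
    (i : k →+* K) (j : k →+* L) (a : K →+* Ω) (b : L →+* Ω) (h : a.comp i = b.comp j)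
    (hsep : ∀ x : K, ∃ p : Polynomial k, p.Separable ∧ p.eval₂ i x = 0) (x : K) : a x ∈ b.range := by
  obtain ⟨p, hp, hx⟩ := hsep x
  refine (IsSepClosed.splits_of_separable (p.map j) hp.map).mem_range_of_isRoot
    (Polynomial.map_ne_zero hp.ne_zero) ?_
  rw [Polynomial.IsRoot, Polynomial.map_map, ← h, Polynomial.eval_map, ← Polynomial.hom_eval₂, hx, map_zero]

theorem exists_field_factor {K L Ω : Type u} [Field K] [Field L] [Field Ω] (a : K →+* Ω) (b : L →+* Ω)
    (h : ∀ x, a x ∈ b.range) : ∃ τ : K →+* L, b.comp τ = a :=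
  ⟨((RingEquiv.ofBijective b.rangeRestrict ⟨fun x y hxy => b.injective (congrArg Subtype.val hxy),
      b.rangeRestrict_surjective⟩).symm.toRingHom).comp (a.codRestrict b.range h), RingHom.ext fun x =>
    congrArg Subtype.val ((RingEquiv.ofBijective b.rangeRestrict ⟨fun x y hxy => b.injective (congrArg Subtype.val hxy),
      b.rangeRestrict_surjective⟩).apply_symm_apply (a.codRestrict b.range h x))⟩

/-- maps of strict localisations are unique under a common strictly henselian extension -/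
theorem existsUnique_strict (P : SH Z z) {B C : Type u} [CommRing B] [HenselianLocalRing B]
    [IsSepClosed (ResidueField B)] [CommRing C] [HenselianLocalRing C]
    (v : Spec (CommRingCat.of B) ⟶ Z) (gA : P.R →+* C) [IsLocalHom gA] (gB : B →+* C) [IsLocalHom gB]
    (w : Spec.map (CommRingCat.ofHom gB) ≫ v = Spec.map (CommRingCat.ofHom gA) ≫ P.spec) :
    ∃! ψ : P.R →+* B, Spec.map (CommRingCat.ofHom ψ) ≫ P.spec = v ∧ gB.comp ψ = gA := by
  have hv : v (closedPoint B) = z := by
    have h1 := congrArg (fun f : Spec (CommRingCat.of C) ⟶ Z => f (closedPoint C)) w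
    simp only [Scheme.Hom.comp_apply] at h1
    exact (congrArg v (Spec_closedPoint' gB)).symm.trans
      (h1.trans ((congrArg P.spec (Spec_closedPoint' gA)).trans P.spec_closed))
  obtain ⟨φ, hφ, rfl⟩ := exists_local_ring_map v hv
  rw [spec_comp_spec, ← Category.assoc, ← Spec.map_comp] at w
  have hA : gA.comp (algebraMap (Z.presheaf.stalk z) P.R) = gB.comp φ := (eq_of_spec (gB.comp φ) _ w).symm
  let i := ResidueField.map (algebraMap (Z.presheaf.stalk z) P.R)
  let j := ResidueField.map φ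
  let a := ResidueField.map gA
  let b := ResidueField.map gB
  have hab : a.comp i = b.comp j := by
    refine Ideal.Quotient.ringHom_ext (RingHom.ext fun x => ?_)
    show residue C (gA (algebraMap _ P.R x)) = residue C (gB (φ x))
    exact congrArg (residue C) (RingHom.congr_fun hA x)
  obtain ⟨τ, hτ⟩ := exists_field_factor a b (mem_range_of_separable i j a b hab fun x => by
    haveI : Algebra.IsSeparable (ResidueField (Z.presheaf.stalk z)) (ResidueField P.R) := P.sh.isSepClosure.2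
    exact ⟨minpoly (ResidueField (Z.presheaf.stalk z)) x, Algebra.IsSeparable.isSeparable _ x, minpoly.aeval _ x⟩)
  have hτi : τ.comp i = j := RingHom.ext fun x => b.injective
    ((RingHom.congr_fun hτ (i x)).trans (RingHom.congr_fun hab x))
  obtain ⟨ψ, ⟨hψ, hψτ⟩, huniq⟩ := P.sh.universal B φ τ hτi
  refine ⟨ψ, ⟨by rw [spec_comp_spec, hψ], ?_⟩, fun ψ' ⟨h1, h2⟩ => huniq ψ' ⟨?_, fun x => b.injective ?_⟩⟩
  · haveI : IsLocalHom (gA.comp (algebraMap (Z.presheaf.stalk z) P.R)) := RingHom.isLocalHom_comp _ _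
    obtain ⟨g, -, hg⟩ := P.sh.universal C (gA.comp (algebraMap (Z.presheaf.stalk z) P.R)) a
      (Ideal.Quotient.ringHom_ext (RingHom.ext fun _ => rfl))
    refine (hg (gB.comp ψ) ⟨by rw [RingHom.comp_assoc, hψ, hA], fun x => ?_⟩).trans (hg gA ⟨rfl, fun x => rfl⟩).symm
    show residue C (gB (ψ x)) = _
    rw [← ResidueField.map_residue gB, hψτ]
    exact RingHom.congr_fun hτ (residue P.R x)
  · rw [spec_comp_spec] at h1
    exact eq_of_spec _ _ h1
  · refine Eq.trans ?_ (RingHom.congr_fun hτ (residue P.R x)).symm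
    show b (residue B (ψ' x)) = residue C (gA x)
    rw [← h2]
    rfl

variable {X S : Scheme.{u}} (f : X ⟶ S) {x : X}

theorem comp_alg_of_spec (QS : SH S (f.base x)) (QX : SH X x) (ψ : QS.R →+* QX.R)
    (h : Spec.map (CommRingCat.ofHom ψ) ≫ QS.spec = QX.spec ≫ f) :
    ψ.comp (algebraMap (S.presheaf.stalk (f.base x)) QS.R) =
      (algebraMap (X.presheaf.stalk x) QX.R).comp (f.stalkMap x).hom := by
  refine eq_of_spec _ _ ?_
  rw [← spec_comp_spec, h, SH.spec, Hens2.specOf, Category.assoc, ← Scheme.SpecMap_stalkMap_fromSpecStalk,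
    ← Category.assoc, ← Spec.map_comp]
  rfl

/-- a cocone isomorphic to the direct limit is a colimit -/
theorem nonempty_isColimit_of_directLimit {ι : Type u} [Preorder ι] [Nonempty ι] [IsDirected ι (· ≤ ·)]
    (F : ι ⥤ CommRingCat.{u}) (cc : Cocone F)
    (χ : cc.pt →+* Ring.DirectLimit (fun i => (F.obj i : Type u)) (fun i j h => (F.map (homOfLE h)).hom))
    (hχ : ∀ i x, χ ((cc.ι.app i).hom x) =
      Ring.DirectLimit.of (fun i => (F.obj i : Type u)) (fun i j h => (F.map (homOfLE h)).hom) i x)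
    (hinj : Function.Injective χ) : Nonempty (IsColimit cc) := by
  let G := fun i => (F.obj i : Type u)
  let f := fun i j (h : i ≤ j) => (F.map (homOfLE h)).hom
  have hc : ∀ (s : Cocone F) i j (h : i ≤ j) (x : G i), (s.ι.app j).hom (f i j h x) = (s.ι.app i).hom x :=
    fun s i j h x => ConcreteCategory.congr_hom (s.w (homOfLE h)) x
  let L := fun s : Cocone F => Ring.DirectLimit.lift G (fun i j h => f i j h) s.pt (fun i => (s.ι.app i).hom) (hc s)
  have hL : ∀ (s : Cocone F) i (x : G i), L s (χ ((cc.ι.app i).hom x)) = (s.ι.app i).hom x := fun s i x => by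
    rw [hχ]; exact Ring.DirectLimit.lift_of (G := G) (f := fun i j h => f i j h) s.pt (fun i => (s.ι.app i).hom) (hc s) i x
  refine ⟨{
    desc := fun s => CommRingCat.ofHom ((L s).comp χ)
    fac := fun s i => CommRingCat.hom_ext (RingHom.ext (hL s i))
    uniq := fun s m hm => CommRingCat.hom_ext (RingHom.ext fun x => ?_) }⟩
  obtain ⟨i, b, hb⟩ := Ring.DirectLimit.exists_of (χ x)
  have hx : (cc.ι.app i).hom b = x := hinj ((hχ i b).trans hb)
  subst hx
  exact (ConcreteCategory.congr_hom (hm i) b).trans (hL s i b).symm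

section System

variable {ι : Type u} [Preorder ι] {D : ιᵒᵖ ⥤ Scheme.{u}} {c : Cone D} {z : c.pt} (P : SH c.pt z)
  (zi : ∀ i : ι, D.obj (op i)) (hzi : ∀ i, c.π.app (op i) z = zi i)

/-- data of compatible strict localisations along a limit -/
structure SHSys where
  /-- local maps to the strict localisation of the limit -/
  g : ∀ i, (mkSH (D.obj (op i)) (zi i)).R →+* P.R
  hg : ∀ i, IsLocalHom (g i)
  g_spec : ∀ i, Spec.map (CommRingCat.ofHom (g i)) ≫ (mkSH (D.obj (op i)) (zi i)).spec = P.spec ≫ c.π.app (op i)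
  /-- transition maps -/
  T : ∀ i j, i ≤ j → (mkSH (D.obj (op i)) (zi i)).R →+* (mkSH (D.obj (op j)) (zi j)).R
  T_spec : ∀ i j (h : i ≤ j), Spec.map (CommRingCat.ofHom (T i j h)) ≫ (mkSH (D.obj (op i)) (zi i)).spec =
    (mkSH (D.obj (op j)) (zi j)).spec ≫ D.map (homOfLE h).op
  g_T : ∀ i j (h : i ≤ j), (g j).comp (T i j h) = g i

include hzi in
theorem exists_SHSys : Nonempty (SHSys P zi) := by
  have h1 : ∀ i, ∃ ψ : (mkSH (D.obj (op i)) (zi i)).R →+* P.R, IsLocalHom ψ ∧
      Spec.map (CommRingCat.ofHom ψ) ≫ (mkSH (D.obj (op i)) (zi i)).spec = P.spec ≫ c.π.app (op i) := fun i =>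
    exists_strict_hom (mkSH (D.obj (op i)) (zi i)) (P.spec ≫ c.π.app (op i)) (by
      rw [Scheme.Hom.comp_apply]
      exact (congrArg (c.π.app (op i)) P.spec_closed).trans (hzi i))
  choose g hg g_spec using h1
  have h2 : ∀ i j (h : i ≤ j), ∃ T : (mkSH (D.obj (op i)) (zi i)).R →+* (mkSH (D.obj (op j)) (zi j)).R,
      Spec.map (CommRingCat.ofHom T) ≫ (mkSH (D.obj (op i)) (zi i)).spec =
        (mkSH (D.obj (op j)) (zi j)).spec ≫ D.map (homOfLE h).op ∧ (g j).comp T = g i := fun i j h => by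
    haveI := hg i
    haveI := hg j
    exact (existsUnique_strict (mkSH (D.obj (op i)) (zi i)) ((mkSH (D.obj (op j)) (zi j)).spec ≫ D.map (homOfLE h).op)
      (g i) (g j) (by rw [← Category.assoc, g_spec, g_spec, Category.assoc, c.w])).exists
  choose T T_spec g_T using h2
  exact ⟨⟨g, hg, g_spec, T, T_spec, g_T⟩⟩

variable {P zi} (Φs : SHSys P zi)

instance (i : ι) : IsLocalHom (Φs.g i) := Φs.hg i

instance isLocalHom_T (i j : ι) (h : i ≤ j) : IsLocalHom (Φs.T i j h) :=
  ⟨fun a ha => IsUnit.of_map (Φs.g i) a (by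
    rw [← Φs.g_T i j h]
    exact ha.map (Φs.g j))⟩

theorem SHSys.T_ext {i j : ι} (h : i ≤ j) (T' : (mkSH (D.obj (op i)) (zi i)).R →+* (mkSH (D.obj (op j)) (zi j)).R)
    (h1 : Spec.map (CommRingCat.ofHom T') ≫ (mkSH (D.obj (op i)) (zi i)).spec =
      (mkSH (D.obj (op j)) (zi j)).spec ≫ D.map (homOfLE h).op)
    (h2 : (Φs.g j).comp T' = Φs.g i) : T' = Φs.T i j h :=
  (existsUnique_strict (mkSH (D.obj (op i)) (zi i)) ((mkSH (D.obj (op j)) (zi j)).spec ≫ D.map (homOfLE h).op)
    (Φs.g i) (Φs.g j) (by rw [← Category.assoc, Φs.g_spec, Φs.g_spec, Category.assoc, c.w])).unique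
    ⟨h1, h2⟩ ⟨Φs.T_spec i j h, Φs.g_T i j h⟩

theorem SHSys.T_self (i : ι) : Φs.T i i le_rfl = RingHom.id _ :=
  (Φs.T_ext le_rfl (RingHom.id _) (by
    rw [show (homOfLE (le_refl i)).op = 𝟙 (op i) from rfl, D.map_id, Category.comp_id,
      show CommRingCat.ofHom (RingHom.id _) = 𝟙 _ from rfl, Spec.map_id, Category.id_comp])
    (RingHom.comp_id _)).symm

theorem SHSys.T_trans (i j k : ι) (hij : i ≤ j) (hjk : j ≤ k) :
    (Φs.T j k hjk).comp (Φs.T i j hij) = Φs.T i k (hij.trans hjk) :=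
  Φs.T_ext (hij.trans hjk) _ (by
    rw [show (homOfLE (hij.trans hjk)).op = (homOfLE hjk).op ≫ (homOfLE hij).op from rfl, D.map_comp,
      CommRingCat.ofHom_comp, Spec.map_comp, Category.assoc, Φs.T_spec, ← Category.assoc, Φs.T_spec, Category.assoc])
    (by rw [← RingHom.comp_assoc, Φs.g_T, Φs.g_T])

/-- the functor of strict localisations -/
def SHSys.rings : ι ⥤ CommRingCat.{u} where
  obj i := CommRingCat.of (mkSH (D.obj (op i)) (zi i)).R
  map {i j} m := CommRingCat.ofHom (Φs.T i j (leOfHom m))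
  map_id i := CommRingCat.hom_ext (Φs.T_self i)
  map_comp {i j k} m n := CommRingCat.hom_ext (Φs.T_trans i j k (leOfHom m) (leOfHom n)).symm

/-- the cocone to the strict localisation of the limit -/
def SHSys.cocone : Cocone Φs.rings where
  pt := CommRingCat.of P.R
  ι :=
    { app := fun i => CommRingCat.ofHom (Φs.g i)
      naturality := fun i j m => CommRingCat.hom_ext (Φs.g_T i j (leOfHom m)) }

variable [Nonempty ι] [IsDirected ι (· ≤ ·)] (hc : IsLimit c)

include hc in
theorem SHSys.bijective : ∃ χ : P.R →+* Ring.DirectLimit (fun i => (mkSH (D.obj (op i)) (zi i)).R)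
      (fun i j h => Φs.T i j h),
    ∀ i, χ.comp (Φs.g i) = Ring.DirectLimit.of _ (fun i j h => Φs.T i j h) i ∧
      Function.Bijective χ := by
  classical
  let G := fun i => (mkSH (D.obj (op i)) (zi i)).R
  let f := fun i j (h : i ≤ j) => Φs.T i j h
  haveI hds : DirectedSystem G (fun i j h => f i j h) :=
    { map_self := fun i x => RingHom.congr_fun (Φs.T_self i) x
      map_map := fun _ _ _ hij hjk x => RingHom.congr_fun (Φs.T_trans _ _ _ hij hjk) x }
  obtain ⟨hh, hsc⟩ := Hensel.strictlyHenselian_directLimit G f (fun i j h => isLocalHom_T Φs i j h)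
  letI := hh
  haveI := hsc
  let L := Ring.DirectLimit G (fun i j h => f i j h)
  let of := Ring.DirectLimit.of G (fun i j h => f i j h)
  let ψ : L →+* P.R := Ring.DirectLimit.lift G (fun i j h => f i j h) P.R (fun i => Φs.g i)
    (fun i j h x => RingHom.congr_fun (Φs.g_T i j h) x)
  have hψof : ∀ i, ψ.comp (of i) = Φs.g i := fun i => RingHom.ext fun x =>
    Ring.DirectLimit.lift_of (G := G) (f := fun i j h => f i j h) P.R (fun i => Φs.g i) (fun i j h x => RingHom.congr_fun (Φs.g_T i j h) x) i x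
  haveI hofl : ∀ i, IsLocalHom (of i) := fun i => ⟨fun a ha => IsUnit.of_map (Φs.g i) a (by
    rw [← hψof i]; exact ha.map ψ)⟩
  haveI hψl : IsLocalHom ψ := ⟨fun a ha => by
    obtain ⟨i, b, rfl⟩ := Ring.DirectLimit.exists_of a
    exact (IsUnit.of_map (Φs.g i) b (RingHom.congr_fun (hψof i) b ▸ ha)).map _⟩
  let cc : Cone D :=
    { pt := Spec (CommRingCat.of L)
      π :=
        { app := fun a => Spec.map (CommRingCat.ofHom (of a.unop)) ≫ (mkSH (D.obj (op a.unop)) (zi a.unop)).spec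
          naturality := fun a b m => by
            have hT : (of a.unop).comp (Φs.T b.unop a.unop (leOfHom m.unop)) = of b.unop :=
              RingHom.ext fun x => Ring.DirectLimit.of_f (G := G) (f := fun i j h => f i j h) (leOfHom m.unop) x
            refine (Category.id_comp _).trans ?_
            rw [← hT, CommRingCat.ofHom_comp, Spec.map_comp, Category.assoc, Category.assoc, Φs.T_spec]
            rfl } }
  let u : Spec (CommRingCat.of L) ⟶ c.pt := hc.lift cc
  have hu : ∀ i, u ≫ c.π.app (op i) = Spec.map (CommRingCat.ofHom (of i)) ≫ (mkSH (D.obj (op i)) (zi i)).spec :=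
    fun i => hc.fac cc (op i)
  have hψu : Spec.map (CommRingCat.ofHom ψ) ≫ u = P.spec := hc.hom_ext fun a => by
    rw [Category.assoc, show u ≫ c.π.app a = _ from hc.fac cc a]
    show Spec.map _ ≫ Spec.map _ ≫ _ = _
    rw [← Category.assoc, ← Spec.map_comp, ← CommRingCat.ofHom_comp, hψof]
    exact Φs.g_spec a.unop
  obtain ⟨χ, ⟨hχu, hψχ⟩, -⟩ := existsUnique_strict P (B := L) (C := P.R) u (RingHom.id P.R) ψ (by
    rw [hψu, show CommRingCat.ofHom (RingHom.id P.R) = 𝟙 _ from rfl, Spec.map_id, Category.id_comp])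
  have hχg : ∀ i, χ.comp (Φs.g i) = of i := fun i => by
    refine (existsUnique_strict (mkSH (D.obj (op i)) (zi i)) (B := L) (C := P.R) (u ≫ c.π.app (op i)) (Φs.g i) ψ (by
      rw [hu, ← Category.assoc, ← Spec.map_comp, ← CommRingCat.ofHom_comp, hψof])).unique
      ⟨?_, by rw [← RingHom.comp_assoc, hψχ, RingHom.id_comp]⟩ ⟨(hu i).symm, hψof i⟩
    rw [CommRingCat.ofHom_comp, Spec.map_comp, Category.assoc, Φs.g_spec, ← Category.assoc, hχu]
  refine ⟨χ, fun i => ⟨hχg i, ?_, fun y => ?_⟩⟩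
  · intro x y hxy
    exact (RingHom.congr_fun hψχ x).symm.trans ((congrArg ψ hxy).trans (RingHom.congr_fun hψχ y))
  · obtain ⟨j, b, rfl⟩ := Ring.DirectLimit.exists_of y
    exact ⟨Φs.g j b, RingHom.congr_fun (hχg j) b⟩

include hc in
/-- the strict localisation of the limit is the colimit of the strict localisations -/
theorem SHSys.nonempty_isColimit : Nonempty (IsColimit Φs.cocone) := by
  obtain ⟨χ, hχ⟩ := Φs.bijective hc
  exact nonempty_isColimit_of_directLimit Φs.rings Φs.cocone χ (fun i x => RingHom.congr_fun (hχ i).1 x)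
    (hχ (Classical.arbitrary ι)).2.1

/-- the spectra of the strict localisations -/
abbrev SHSys.specs : ιᵒᵖ ⥤ Scheme.{u} := Φs.rings.op ⋙ Scheme.Spec

/-- the maps to the stages -/
def SHSys.toD : Φs.specs ⟶ D where
  app a := (mkSH (D.obj (op a.unop)) (zi a.unop)).spec
  naturality a b m := Φs.T_spec b.unop a.unop (leOfHom m.unop)

/-- the cone of spectra -/
abbrev SHSys.specCone : Cone Φs.specs := Scheme.Spec.mapCone Φs.cocone.op

include hc in
theorem SHSys.nonempty_isLimit : Nonempty (IsLimit Φs.specCone) := by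
  haveI : PreservesLimitsOfSize.{u, u} Scheme.Spec.{u} := ΓSpec.adjunction.rightAdjoint_preservesLimits
  obtain ⟨h⟩ := Φs.nonempty_isColimit hc
  exact ⟨isLimitOfPreserves Scheme.Spec h.op⟩

omit [Nonempty ι] [IsDirected ι (· ≤ ·)] in
theorem SHSys.specCone_toD (a : ιᵒᵖ) : Φs.specCone.π.app a ≫ Φs.toD.app a = P.spec ≫ c.π.app a :=
  Φs.g_spec a.unop

end System

section Morphism

variable {ι : Type u} [Preorder ι] {DX DS : ιᵒᵖ ⥤ Scheme.{u}} {fN : DX ⟶ DS} {cX : Cone DX} {cS : Cone DS}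
  {f₀ : cX.pt ⟶ cS.pt} (hf : ∀ a, f₀ ≫ cS.π.app a = cX.π.app a ≫ fN.app a) {x : cX.pt} {s : cS.pt}
  {PX : SH cX.pt x} {PS : SH cS.pt s} {xi : ∀ i : ι, DX.obj (op i)} {si : ∀ i : ι, DS.obj (op i)}
  (ΦX : SHSys PX xi) (ΦS : SHSys PS si) (ψ : PS.R →+* PX.R) [IsLocalHom ψ]
  (hψ : Spec.map (CommRingCat.ofHom ψ) ≫ PS.spec = PX.spec ≫ f₀)

include hf hψ in
theorem exists_stage_homs : ∃ ψi : ∀ i, (mkSH (DS.obj (op i)) (si i)).R →+* (mkSH (DX.obj (op i)) (xi i)).R,
    (∀ i, IsLocalHom (ψi i)) ∧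
    (∀ i, Spec.map (CommRingCat.ofHom (ψi i)) ≫ (mkSH (DS.obj (op i)) (si i)).spec =
      (mkSH (DX.obj (op i)) (xi i)).spec ≫ fN.app (op i)) ∧
    (∀ i, (ΦX.g i).comp (ψi i) = ψ.comp (ΦS.g i)) ∧
    (∀ i j (h : i ≤ j), (ψi j).comp (ΦS.T i j h) = (ΦX.T i j h).comp (ψi i)) := by
  have hex : ∀ i, ∃! φ : (mkSH (DS.obj (op i)) (si i)).R →+* (mkSH (DX.obj (op i)) (xi i)).R,
      Spec.map (CommRingCat.ofHom φ) ≫ (mkSH (DS.obj (op i)) (si i)).spec =
        (mkSH (DX.obj (op i)) (xi i)).spec ≫ fN.app (op i) ∧ (ΦX.g i).comp φ = ψ.comp (ΦS.g i) := fun i => by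
    haveI : IsLocalHom (ψ.comp (ΦS.g i)) := RingHom.isLocalHom_comp _ _
    refine existsUnique_strict (mkSH (DS.obj (op i)) (si i)) ((mkSH (DX.obj (op i)) (xi i)).spec ≫ fN.app (op i))
      (ψ.comp (ΦS.g i)) (ΦX.g i) ?_
    rw [← Category.assoc, ΦX.g_spec, Category.assoc, ← hf, ← Category.assoc, ← hψ, Category.assoc, ← ΦS.g_spec,
      CommRingCat.ofHom_comp, Spec.map_comp, Category.assoc]
  choose ψi hψi hu using fun i => (hex i)
  refine ⟨ψi, fun i => ⟨fun a ha => IsUnit.of_map (ψ.comp (ΦS.g i)) a ?_⟩, fun i => (hψi i).1, fun i => (hψi i).2,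
    fun i j h => ?_⟩
  · haveI : IsLocalHom (ψ.comp (ΦS.g i)) := RingHom.isLocalHom_comp _ _
    rw [← (hψi i).2]
    exact ha.map (ΦX.g i)
  · haveI : IsLocalHom (ψ.comp (ΦS.g i)) := RingHom.isLocalHom_comp _ _
    refine (existsUnique_strict (mkSH (DS.obj (op i)) (si i))
      ((mkSH (DX.obj (op j)) (xi j)).spec ≫ DX.map (homOfLE h).op ≫ fN.app (op i))
      (ψ.comp (ΦS.g i)) (ΦX.g j) ?_).unique ⟨?_, ?_⟩ ⟨?_, ?_⟩
    · rw [← Category.assoc, ΦX.g_spec, Category.assoc, ← Category.assoc (cX.π.app _), cX.w, ← hf, ← Category.assoc,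
        ← hψ, Category.assoc, ← ΦS.g_spec, CommRingCat.ofHom_comp, Spec.map_comp, Category.assoc]
    · rw [CommRingCat.ofHom_comp, Spec.map_comp, Category.assoc, ΦS.T_spec, ← Category.assoc, (hψi j).1,
        Category.assoc, ← fN.naturality]
    · rw [← RingHom.comp_assoc, (hψi j).2, RingHom.comp_assoc, ΦS.g_T]
    · rw [CommRingCat.ofHom_comp, Spec.map_comp, Category.assoc, (hψi i).1, ← Category.assoc, ΦX.T_spec,
        Category.assoc]
    · rw [← RingHom.comp_assoc, ΦX.g_T, (hψi i).2]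

end Morphism

end Groth.Agent.EtBCQ
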