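import Groth.Agent.EtBCQ.StalkIff
import Groth.Agent.Hensel.HenselizationProps
import Groth.Agent.EtCohDesc.Retract
import Mathlib

/-! Criterion for the base change map on strict localisations. -/

set_option autoImplicit false
set_option backward.isDefEq.respectTransparency false
set_option backward.isDefEq.respectTransparency.types false
set_option maxHeartbeats 4000000
set_option linter.style.haveILetI false
set_option linter.overlappingInstances false
set_option linter.unusedSectionVars false

universe u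

open CategoryTheory CategoryTheory.Limits AlgebraicGeometry Opposite IsLocalRing

noncomputable section

namespace Groth.Agent.EtBCQ

theorem bijective_HpullVia_congr {W Y' Z : Scheme.{u}} (m : W ⟶ Y') (t : Y' ⟶ Z) {a a' : W ⟶ Z} (ha : a = a')
    (w : m ≫ t = a) (w' : m ≫ t = a') [PreservesFiniteLimits (EtCoh.pull m)] (F : EtCoh.Ab Z) (q : ℕ) :
    Function.Bijective (EtCore.HpullVia m t a w F q) ↔ Function.Bijective (EtCore.HpullVia m t a' w' F q) := by
  subst ha
  rfl

theorem exists_hom_strict {A B RA RB : Type u} [CommRing A] [IsLocalRing A] [CommRing B] [IsLocalRing B] (φ : A →+* B)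
    [IsLocalHom φ] [CommRing RA] [IsLocalRing RA] [Algebra A RA] [IsLocalHom (algebraMap A RA)]
    [hA : _root_.Hensel.IsStrictHenselization A RA] [CommRing RB] [IsLocalRing RB] [Algebra B RB]
    [IsLocalHom (algebraMap B RB)] [HenselianLocalRing RB] [IsSepClosed (ResidueField RB)] :
    ∃ ψ : RA →+* RB, IsLocalHom ψ ∧ ψ.comp (algebraMap A RA) = (algebraMap B RB).comp φ := by
  let κ : ResidueField A →+* ResidueField RB := ResidueField.map ((algebraMap B RB).comp φ)
  letI := κ.toAlgebra
  haveI : Algebra.IsSeparable (ResidueField A) (ResidueField RA) := hA.isSepClosure.2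
  let τ : ResidueField RA →ₐ[ResidueField A] ResidueField RB := IsSepClosed.lift
  obtain ⟨ψ, ⟨hψ, hψτ⟩, -⟩ := hA.universal RB ((algebraMap B RB).comp φ) τ.toRingHom
    (RingHom.ext fun a => τ.commutes a)
  refine ⟨ψ, ⟨fun a ha => ?_⟩, hψ⟩
  by_contra hns
  refine (residue_ne_zero_iff_isUnit _).2 ha ?_
  show residue RB (ψ a) = 0
  rw [hψτ, (residue_eq_zero_iff a).2 hns, map_zero]

theorem exists_sh (R : Type u) [CommRing R] [IsLocalRing R] :
    ∃ (S : Type u) (_ : CommRing S) (_ : IsLocalRing S) (_ : Algebra R S) (_ : IsLocalHom (algebraMap R S)),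
      _root_.Hensel.IsStrictHenselization R S := by
  obtain ⟨h, hH⟩ := Groth.Agent.Hensel.exists_strictHenselization R
  exact ⟨_, _, inferInstance, _, h, hH⟩

theorem geomPt_apply {X : Scheme.{u}} (x : X) (RX : Type u) [CommRing RX] [IsLocalRing RX]
    [Algebra (X.presheaf.stalk x) RX] [IsLocalHom (algebraMap (X.presheaf.stalk x) RX)] :
    (Hens2.geomPt X x RX) (default : Spec (CommRingCat.of (ResidueField RX))) = x := by
  have h1 : (Spec.map (CommRingCat.ofHom (residue RX))) (default : Spec (CommRingCat.of (ResidueField RX))) =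
      closedPoint RX := by
    refine PrimeSpectrum.ext ?_
    show Ideal.comap (residue RX) _ = maximalIdeal RX
    rw [show ((default : Spec (CommRingCat.of (ResidueField RX))) : PrimeSpectrum (ResidueField RX)).asIdeal = ⊥ from
      (Ideal.eq_bot_or_top _).resolve_right (PrimeSpectrum.isPrime _).ne_top, ← RingHom.ker_eq_comap_bot, ker_residue]
  rw [Hens2.geomPt, Hens2.specOf, Scheme.Hom.comp_apply, Scheme.Hom.comp_apply, h1]
  refine (congrArg (X.fromSpecStalk x) ?_).trans Scheme.fromSpecStalk_closedPoint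
  exact IsLocalRing.comap_closedPoint (algebraMap (X.presheaf.stalk x) RX)

variable {X S Y T : Scheme.{u}} (f : X ⟶ S)

theorem specOf_comp (x : X) (RS : Type u) [CommRing RS] [Algebra (S.presheaf.stalk (f.base x)) RS]
    (RX : Type u) [CommRing RX] [Algebra (X.presheaf.stalk x) RX] (ψ : RS →+* RX)
    (hψ : ψ.comp (algebraMap (S.presheaf.stalk (f.base x)) RS) =
      (algebraMap (X.presheaf.stalk x) RX).comp (f.stalkMap x).hom) :
    Hens2.specOf X x RX ≫ f = Spec.map (CommRingCat.ofHom ψ) ≫ Hens2.specOf S (f.base x) RS := by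
  rw [Hens2.specOf, Hens2.specOf, Category.assoc, ← Scheme.SpecMap_stalkMap_fromSpecStalk, ← Category.assoc,
    ← Category.assoc, ← Spec.map_comp, ← Spec.map_comp]
  refine congrArg (· ≫ S.fromSpecStalk (f.base x)) (congrArg Spec.map ?_)
  exact CommRingCat.hom_ext hψ.symm

variable (g : T ⟶ S) [QuasiCompact g] [QuasiSeparated g] (h : Y ⟶ X) (e : Y ⟶ T) (c : IsPullback e h g f)
  [PreservesFiniteLimits (EtCoh.pull e)] (F : EtCoh.Ab T) (q : ℕ)

include c in
theorem stalk_iff_restr (x : X) (RS : Type u) [CommRing RS] [IsLocalRing RS] [Algebra (S.presheaf.stalk (f.base x)) RS]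
    [IsLocalHom (algebraMap (S.presheaf.stalk (f.base x)) RS)]
    [_root_.Hensel.IsStrictHenselization (S.presheaf.stalk (f.base x)) RS]
    [HenselianLocalRing RS] [IsSepClosed (ResidueField RS)]
    (RX : Type u) [CommRing RX] [IsLocalRing RX] [Algebra (X.presheaf.stalk x) RX]
    [IsLocalHom (algebraMap (X.presheaf.stalk x) RX)] [_root_.Hensel.IsStrictHenselization (X.presheaf.stalk x) RX]
    [HenselianLocalRing RX] [IsSepClosed (ResidueField RX)]
    (ψ : RS →+* RX) [IsLocalHom ψ]
    (hψ : ψ.comp (algebraMap (S.presheaf.stalk (f.base x)) RS) =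
      (algebraMap (X.presheaf.stalk x) RX).comp (f.stalkMap x).hom)
    (PS PX : Scheme.{u}) (aS : PS ⟶ T) (bS : PS ⟶ Spec (CommRingCat.of RS))
    (HS : IsPullback aS bS g (Hens2.specOf S (f.base x) RS)) (aX : PX ⟶ T) (bX : PX ⟶ Spec (CommRingCat.of RX))
    (HX' : IsPullback aX bX g (Hens2.specOf X x RX ≫ f)) (m : PX ⟶ PS) (w : m ≫ aS = aX)
    (wb : m ≫ bS = bX ≫ Spec.map (CommRingCat.ofHom ψ)) [PreservesFiniteLimits (EtCoh.pull m)] :
    IsIso ((EtCoh.stalk (Hens2.geomPt X x RX)).map (EtBC.bcQ g f h e c.w q F)) ↔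
      Function.Bijective (EtCore.HpullVia m aS aX w F q) := by
  haveI : QuasiCompact h := MorphismProperty.of_isPullback (P := @QuasiCompact) c ‹_›
  haveI : QuasiSeparated h := MorphismProperty.of_isPullback (P := @QuasiSeparated) c ‹_›
  let pY : PX ⟶ Y := c.lift aX (bX ≫ Hens2.specOf X x RX) (HX'.w.trans (Category.assoc _ _ _).symm)
  have hpe : pY ≫ e = aX := c.lift_fst _ _ _
  refine Iff.trans ?_ (bijective_HpullVia_congr m aS hpe (w.trans hpe.symm) w F q)
  exact isIso_stalk_bcQ_iff f g h e c.w F q (f.base x) RS x RX ψ (specOf_comp f x RS RX ψ hψ) aS bS HS pY bX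
    (IsPullback.of_right (hpe.symm ▸ HX') (c.lift_snd _ _ _) c) m (w.trans hpe.symm) wb

/-- the criterion -/
theorem isIso_bcQ_iff_restr :
    (∀ (x : X) (RS : Type u) [CommRing RS] [IsLocalRing RS] [Algebra (S.presheaf.stalk (f.base x)) RS]
      [IsLocalHom (algebraMap (S.presheaf.stalk (f.base x)) RS)]
      [_root_.Hensel.IsStrictHenselization (S.presheaf.stalk (f.base x)) RS]
      (RX : Type u) [CommRing RX] [IsLocalRing RX] [Algebra (X.presheaf.stalk x) RX]
      [IsLocalHom (algebraMap (X.presheaf.stalk x) RX)] [_root_.Hensel.IsStrictHenselization (X.presheaf.stalk x) RX]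
      (ψ : RS →+* RX) [IsLocalHom ψ],
      ψ.comp (algebraMap (S.presheaf.stalk (f.base x)) RS) = (algebraMap (X.presheaf.stalk x) RX).comp (f.stalkMap x).hom →
      ∀ (PS PX : Scheme.{u}) (aS : PS ⟶ T) (bS : PS ⟶ Spec (CommRingCat.of RS))
        (_ : IsPullback aS bS g (Hens2.specOf S (f.base x) RS)) (aX : PX ⟶ T) (bX : PX ⟶ Spec (CommRingCat.of RX))
        (_ : IsPullback aX bX g (Hens2.specOf X x RX ≫ f)) (m : PX ⟶ PS) (w : m ≫ aS = aX),
        m ≫ bS = bX ≫ Spec.map (CommRingCat.ofHom ψ) → ∀ [PreservesFiniteLimits (EtCoh.pull m)],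
          Function.Bijective (EtCore.HpullVia m aS aX w F q)) ↔
    IsIso (EtBC.bcQ g f h e c.w q F) := by
  constructor
  · intro H
    let a := EtBC.bcQ g f h e c.w q F
    have hP : Groth.Agent.EtStalk.Covers (X := X) fun Ω _ _ ξ => Function.Bijective ((EtCoh.stalk ξ).map a) := by
      intro x
      obtain ⟨RS, _, _, _, _, hS⟩ := Groth.Agent.EtBCQ.exists_sh (S.presheaf.stalk (f.base x))
      obtain ⟨RX, _, _, _, _, hX⟩ := Groth.Agent.EtBCQ.exists_sh (X.presheaf.stalk x)
      haveI := hS.henselian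
      haveI := hX.henselian
      haveI : IsSepClosed (ResidueField RS) := hS.isSepClosure.1
      haveI : IsSepClosed (ResidueField RX) := hX.isSepClosure.1
      obtain ⟨ψ, _, hψ⟩ := exists_hom_strict (f.stalkMap x).hom (RA := RS) (RB := RX)
      let HS := IsPullback.of_hasPullback g (Hens2.specOf S (f.base x) RS)
      let HX := IsPullback.of_hasPullback g (Hens2.specOf X x RX ≫ f)
      let m := HS.lift (pullback.fst g (Hens2.specOf X x RX ≫ f))
        (pullback.snd g (Hens2.specOf X x RX ≫ f) ≫ Spec.map (CommRingCat.ofHom ψ))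
        (by rw [pullback.condition, specOf_comp f x RS RX ψ hψ, Category.assoc])
      haveI : PreservesFiniteLimits (EtCoh.pull m) := EtCohDesc.pull_preservesFiniteLimits m
      refine ⟨ResidueField RX, inferInstance, inferInstance, Hens2.geomPt X x RX, ?_, ?_⟩
      · exact (ConcreteCategory.isIso_iff_bijective _).1 ((stalk_iff_restr f g h e c F q x RS RX ψ hψ _ _ _ _ HS _ _ HX m
          (HS.lift_fst _ _ _) (HS.lift_snd _ _ _)).2
          (H x RS RX ψ hψ _ _ _ _ HS _ _ HX m (HS.lift_fst _ _ _) (HS.lift_snd _ _ _)))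
      · exact geomPt_apply x RX
    have : Presheaf.IsLocallyInjective X.smallEtaleTopology a.hom :=
      Groth.Agent.EtStalk.isLocallyInjective_of_covers _ hP fun Ω _ _ ξ hξ => hξ.1
    have : Sheaf.IsLocallySurjective a :=
      Groth.Agent.EtStalk.isLocallySurjective_of_covers _ hP fun Ω _ _ ξ hξ => hξ.2
    have : Mono a := Sheaf.mono_of_isLocallyInjective a
    have : Epi a := inferInstance
    exact isIso_of_mono_of_epi a
  · intro hi x RS _ _ _ _ hS RX _ _ _ _ hX ψ _ hψ PS PX aS bS HS aX bX HX m w wb _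
    haveI := hS.henselian
    haveI := hX.henselian
    haveI : IsSepClosed (ResidueField RS) := hS.isSepClosure.1
    haveI : IsSepClosed (ResidueField RX) := hX.isSepClosure.1
    haveI := hi
    exact (stalk_iff_restr f g h e c F q x RS RX ψ hψ PS PX aS bS HS aX bX HX m w wb).1 inferInstance

end Groth.Agent.EtBCQ
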