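import Groth.Agent.EtBCQ.StalkNat
import Groth.Agent.EtColimH.PTorsion
import Groth.Agent.EtColimH.Torsion
import Mathlib

/-! Long exact sequences on strict localisations against the base change maps. -/

set_option autoImplicit false
set_option backward.isDefEq.respectTransparency false
set_option backward.isDefEq.respectTransparency.types false
set_option maxHeartbeats 4000000
set_option linter.style.haveILetI false
set_option linter.overlappingInstances false
set_option linter.unusedSectionVars false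
set_option linter.auxLemma false

universe v u u' u₂

open CategoryTheory CategoryTheory.Limits CategoryTheory.Abelian AlgebraicGeometry Opposite IsLocalRing

noncomputable section

namespace Groth.Agent.EtBCQ

section Gen

variable {A : Type u} [Category.{v} A] [Abelian A]
  {C : Type u'} [Category.{v} C] [Abelian C] [HasExt.{v} C]
  {C₁ : Type u'} [Category.{v} C₁] [Abelian C₁] [HasExt.{v} C₁]
  (L : A ⥤ C) [L.Additive] [PreservesFiniteLimits L] [PreservesFiniteColimits L]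
  (L₁ : A ⥤ C₁) [L₁.Additive] [PreservesFiniteLimits L₁] [PreservesFiniteColimits L₁]
  (G : C ⥤ C₁) [G.Additive] [PreservesFiniteLimits G] [PreservesFiniteColimits G]
  {P : C} {P₁ : C₁} (c : P₁ ⟶ G.obj P) (ν : L ⋙ G ⟶ L₁)

/-- the restriction in degree `q` -/
def rMap (M : A) (q : ℕ) : Ext P (L.obj M) q →+ Ext P₁ (L₁.obj M) q :=
  ((Ext.mk₀ (ν.app M)).postcomp P₁ (add_zero q)).comp (EtMV.T G c (L.obj M) q)

theorem rMap_apply (M : A) (q : ℕ) (x : Ext P (L.obj M) q) :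
    rMap L L₁ G c ν M q x = (EtMV.T G c (L.obj M) q x).comp (Ext.mk₀ (ν.app M)) (add_zero q) := rfl

theorem rMap_mk₀ {M N : A} (u : M ⟶ N) (q : ℕ) (x : Ext P (L.obj M) q) :
    rMap L L₁ G c ν N q (x.comp (Ext.mk₀ (L.map u)) (add_zero q)) =
      (rMap L L₁ G c ν M q x).comp (Ext.mk₀ (L₁.map u)) (add_zero q) := by
  rw [rMap_apply, rMap_apply, EtMV.T_comp_mk₀]
  simp only [Ext.comp_assoc_of_second_deg_zero, Ext.mk₀_comp_mk₀]
  exact congrArg (fun z => Ext.comp _ (Ext.mk₀ z) _) (ν.naturality u)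

theorem rMap_extClass {S : ShortComplex A} (hS : S.ShortExact) {q q' : ℕ} (hq : q + 1 = q')
    (x : Ext P (L.obj S.X₃) q) :
    rMap L L₁ G c ν S.X₁ q' (x.comp (hS.map_of_exact L).extClass hq) =
      (rMap L L₁ G c ν S.X₃ q x).comp (hS.map_of_exact L₁).extClass hq := by
  have hn := ShortComplex.ShortExact.extClass_naturality ((hS.map_of_exact L).map_of_exact G) (hS.map_of_exact L₁)
    ({ τ₁ := ν.app S.X₁, τ₂ := ν.app S.X₂, τ₃ := ν.app S.X₃
       comm₁₂ := (ν.naturality S.f).symm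
       comm₂₃ := (ν.naturality S.g).symm } : (S.map L).map G ⟶ S.map L₁)
  rw [rMap_apply, rMap_apply, EtMV.T_apply, EtMV.T_apply, Ext.mapExactFunctor_comp, Ext.mapExactFunctor_extClass]
  rw [Ext.comp_assoc _ _ _ (zero_add q') (add_zero q') (show 0 + q' + 0 = q' by omega),
    Ext.comp_assoc (x.mapExactFunctor G) _ _ hq (add_zero 1) (show q + 1 + 0 = q' by omega)]
  refine (congrArg (fun z => (Ext.mk₀ c).comp ((x.mapExactFunctor G).comp z hq) (zero_add q')) hn).trans ?_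
  symm
  rw [Ext.comp_assoc_of_second_deg_zero]
  refine (Ext.comp_assoc (Ext.mk₀ c) _ _ (zero_add q) hq (show 0 + q + 1 = q' by omega)).trans ?_
  refine congrArg (fun z => (Ext.mk₀ c).comp z (zero_add q')) ?_
  rfl

theorem injective_succ {S : ShortComplex A} (hS : S.ShortExact) (q : ℕ)
    (hvan : Subsingleton (Ext P (L.obj S.X₂) (q + 1)))
    (h₂ : Function.Surjective (rMap L L₁ G c ν S.X₂ q)) (h₃ : Function.Injective (rMap L L₁ G c ν S.X₃ q)) :
    Function.Injective (rMap L L₁ G c ν S.X₁ (q + 1)) := by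
  refine (injective_iff_map_eq_zero _).2 fun x hx => ?_
  have h0 : x.comp (Ext.mk₀ (S.map L).f) (add_zero _) = 0 := @Subsingleton.elim _ hvan _ _
  obtain ⟨η, hη⟩ := Ext.covariant_sequence_exact₁ _ (hS.map_of_exact L) x h0 rfl
  subst hη
  rw [rMap_extClass L L₁ G c ν hS] at hx
  obtain ⟨γ', hγ'⟩ := Ext.covariant_sequence_exact₃ _ (hS.map_of_exact L₁) _ rfl hx
  obtain ⟨γ, rfl⟩ := h₂ γ'
  have h : γ.comp (Ext.mk₀ (S.map L).g) (add_zero q) = η := h₃ ((rMap_mk₀ L L₁ G c ν S.g q γ).trans hγ')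
  rw [← h, Ext.comp_assoc _ _ _ (add_zero q) (zero_add 1) (show q + 0 + 1 = q + 1 by omega),
    ShortComplex.ShortExact.comp_extClass, Ext.comp_zero]

theorem comes_succ {S : ShortComplex A} (hS : S.ShortExact) (q : ℕ)
    (h₃ : Function.Surjective (rMap L L₁ G c ν S.X₃ q))
    (h₃' : Function.Injective (rMap L L₁ G c ν S.X₃ (q + 1)))
    (ξ : Ext P₁ (L₁.obj S.X₁) (q + 1)) (α : Ext P (L.obj S.X₂) (q + 1))
    (hξ : rMap L L₁ G c ν S.X₂ (q + 1) α = ξ.comp (Ext.mk₀ (L₁.map S.f)) (add_zero _)) :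
    ∃ β, rMap L L₁ G c ν S.X₁ (q + 1) β = ξ := by
  have h1 : α.comp (Ext.mk₀ (S.map L).g) (add_zero _) = 0 := by
    refine h₃' (((rMap_mk₀ L L₁ G c ν S.g _ α).trans ?_).trans (map_zero _).symm)
    rw [hξ, Ext.comp_assoc_of_second_deg_zero, Ext.mk₀_comp_mk₀, ← Functor.map_comp, S.zero, Functor.map_zero,
      Ext.mk₀_zero, Ext.comp_zero]
  obtain ⟨β, hβ⟩ := Ext.covariant_sequence_exact₂ _ (hS.map_of_exact L) α h1
  let ξ' := ξ + -(rMap L L₁ G c ν S.X₁ (q + 1) β)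
  have h2 : ξ'.comp (Ext.mk₀ (S.map L₁).f) (add_zero _) = 0 := by
    show (ξ + -_).comp (Ext.mk₀ (L₁.map S.f)) (add_zero _) = 0
    rw [Ext.add_comp, Ext.neg_comp, ← sub_eq_add_neg, sub_eq_zero, ← hξ, ← rMap_mk₀]
    exact congrArg _ hβ.symm
  obtain ⟨γ', hγ'⟩ := Ext.covariant_sequence_exact₁ _ (hS.map_of_exact L₁) _ h2 rfl
  obtain ⟨γ, rfl⟩ := h₃ γ'
  refine ⟨β + γ.comp (hS.map_of_exact L).extClass rfl, ?_⟩
  rw [map_add, rMap_extClass L L₁ G c ν hS, hγ']
  exact add_add_neg_cancel_left_aux _ _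
where
  add_add_neg_cancel_left_aux {M : Type v} [AddCommGroup M] (a b : M) : a + (b + -a) = b := by abel

section Comp

variable {B : Type u₂} [Category.{v} B] [Abelian B] (E : A ⥤ B) [E.Additive] [PreservesFiniteLimits E]
  [PreservesFiniteColimits E] (F₁ : B ⥤ C₁) [F₁.Additive] [PreservesFiniteLimits F₁] [PreservesFiniteColimits F₁]
  (ν' : L ⋙ G ⟶ E ⋙ F₁)

theorem rMap_mk₀_comp {M N : A} (u : M ⟶ N) (q : ℕ) (x : Ext P (L.obj M) q) :
    rMap L (E ⋙ F₁) G c ν' N q (x.comp (Ext.mk₀ (L.map u)) (add_zero q)) =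
      Ext.comp (rMap L (E ⋙ F₁) G c ν' M q x) (Ext.mk₀ (F₁.map (E.map u))) (add_zero q) :=
  rMap_mk₀ L (E ⋙ F₁) G c ν' u q x

theorem comes_succ_comp {S : ShortComplex A} (hS : S.ShortExact) (q : ℕ)
    (h₃ : Function.Surjective (rMap L (E ⋙ F₁) G c ν' S.X₃ q))
    (h₃' : Function.Injective (rMap L (E ⋙ F₁) G c ν' S.X₃ (q + 1)))
    (ξ : Ext P₁ (F₁.obj (E.obj S.X₁)) (q + 1)) (α : Ext P (L.obj S.X₂) (q + 1))
    (hξ : rMap L (E ⋙ F₁) G c ν' S.X₂ (q + 1) α = ξ.comp (Ext.mk₀ (F₁.map (E.map S.f))) (add_zero _)) :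
    ∃ β, rMap L (E ⋙ F₁) G c ν' S.X₁ (q + 1) β = ξ :=
  comes_succ L (E ⋙ F₁) G c ν' hS q h₃ h₃' ξ α hξ

end Comp

end Gen

section Stalks

variable {X : Scheme.{u}}

theorem eq_of_covers {M N : EtCoh.Ab X} (a b : M ⟶ N)
    (h : Groth.Agent.EtStalk.Covers (X := X) fun Ω _ _ ξ => (EtCoh.stalk ξ).map a = (EtCoh.stalk ξ).map b) :
    a = b := by
  have hz : Groth.Agent.EtStalk.Covers (X := X) fun Ω _ _ ξ => Function.Surjective ((EtCoh.stalk ξ).map (equalizer.ι a b)) := by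
    intro x
    obtain ⟨Ω, i₁, i₂, ξ, hξ, hx⟩ := h x
    refine ⟨Ω, i₁, i₂, ξ, ?_, hx⟩
    haveI : PreservesFiniteLimits (EtCoh.stalk ξ) := inferInstance
    haveI : IsIso (equalizer.ι ((EtCoh.stalk ξ).map a) ((EtCoh.stalk ξ).map b)) := equalizer.ι_of_eq hξ
    haveI : IsIso ((EtCoh.stalk ξ).map (equalizer.ι a b)) := by
      rw [← equalizerComparison_comp_π]
      infer_instance
    exact ((ConcreteCategory.isIso_iff_bijective _).1 inferInstance).2
  haveI : Sheaf.IsLocallySurjective (equalizer.ι a b) :=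
    Groth.Agent.EtStalk.isLocallySurjective_of_covers _ hz fun Ω _ _ ξ hξ => hξ
  exact (cancel_epi (equalizer.ι a b)).1 (equalizer.condition a b)

theorem lift_of_squares {A₁ B₁ A₁' B₁' A₂ B₂ A₂' B₂' : Type v}
    (bF : A₁ → B₁) (sF : A₁ → A₁') (tF : B₁ → B₁') (rF : A₁' → B₁')
    (bG : A₂ → B₂) (sG : A₂ → A₂') (tG : B₂ → B₂') (rG : A₂' → B₂') (p : B₁ → B₂) (p' : B₁' → B₂')
    (hs : Function.Surjective sF) (ht : Function.Injective tF) (h₁ : ∀ z, tF (bF z) = rF (sF z))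
    (h₂ : ∀ z, tG (bG z) = rG (sG z)) (hp : ∀ z, tG (p z) = p' (tF z))
    (H : ∀ ξ α, rG α = p' ξ → ∃ β, rF β = ξ) (ξ : B₁) (α : A₂) (hα : bG α = p ξ) : ∃ β, bF β = ξ := by
  obtain ⟨β, hβ⟩ := H (tF ξ) (sG α) (by rw [← h₂, hα, hp])
  obtain ⟨β₀, rfl⟩ := hs β
  exact ⟨β₀, ht ((h₁ β₀).trans hβ)⟩

theorem injective_stalk_cokernel_map {C : Type u₂} [Category.{v} C] [Abelian C] (st : C ⥤ AddCommGrpCat.{v})
    [st.Additive] [st.PreservesHomology] {a b a' b' : C} (bF : a ⟶ b) (bG : a' ⟶ b') (pa : a ⟶ a') (pb : b ⟶ b')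
    (w : bF ≫ pb = pa ≫ bG) (H : ∀ ξ α, st.map bG α = st.map pb ξ → ∃ β, st.map bF β = ξ) :
    Function.Injective (st.map (cokernel.map bF bG pa pb w)) := by
  refine (injective_iff_map_eq_zero (st.map (cokernel.map bF bG pa pb w)).hom).2 fun z hz => ?_
  have hsur : Function.Surjective (st.map (cokernel.π bF)) := (AddCommGrpCat.epi_iff_surjective _).1 inferInstance
  obtain ⟨ξ, rfl⟩ := hsur z
  have hz' : st.map (cokernel.π bG) (st.map pb ξ) = 0 := by
    refine Eq.trans ?_ hz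
    show _ = st.map (cokernel.map bF bG pa pb w) (st.map (cokernel.π bF) ξ)
    rw [← ConcreteCategory.comp_apply, ← ConcreteCategory.comp_apply, ← st.map_comp, ← st.map_comp, cokernel.π_desc]
  have hex := (ShortComplex.exact_of_g_is_cokernel (ShortComplex.mk bG (cokernel.π bG) (cokernel.condition bG))
    (cokernelIsCokernel bG)).map st
  obtain ⟨α, hα⟩ := (ShortComplex.ab_exact_iff _).1 hex _ hz'
  obtain ⟨β, rfl⟩ := H ξ α hα
  rw [← ConcreteCategory.comp_apply, ← st.map_comp, cokernel.condition, Functor.map_zero]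
  rfl

theorem mono_cokernel_map {a b a' b' : EtCoh.Ab X} (bF : a ⟶ b) (bG : a' ⟶ b') (pa : a ⟶ a') (pb : b ⟶ b')
    (w : bF ≫ pb = pa ≫ bG)
    (H : Groth.Agent.EtStalk.Covers (X := X) fun Ω _ _ ξ₀ => ∀ ξ α,
      (EtCoh.stalk ξ₀).map bG α = (EtCoh.stalk ξ₀).map pb ξ → ∃ β, (EtCoh.stalk ξ₀).map bF β = ξ) :
    Mono (cokernel.map bF bG pa pb w) := by
  haveI : Presheaf.IsLocallyInjective X.smallEtaleTopology (cokernel.map bF bG pa pb w).hom :=
    Groth.Agent.EtStalk.isLocallyInjective_of_covers _ H fun Ω _ _ ξ hξ => by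
      haveI : PreservesFiniteLimits (EtCoh.stalk ξ) := inferInstance
      haveI : (EtCoh.stalk ξ).Additive := Functor.additive_of_preserves_binary_products _
      haveI : (EtCoh.stalk ξ).PreservesHomology := Functor.preservesHomologyOfExact _
      exact injective_stalk_cokernel_map (EtCoh.stalk ξ) bF bG pa pb w hξ
  exact Sheaf.mono_of_isLocallyInjective _

end Stalks

attribute [local instance 100000] EtCoh.H._proof_1 Groth.Agent.EtMV.hext
attribute [local instance 200000] Groth.Agent.EtMV.hextAb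
attribute [local instance 300000] CategoryTheory.Preadditive.preadditiveHasZeroMorphisms CategoryTheory.Abelian.toPreadditive

variable {X S Y T : Scheme.{u}} (f : X ⟶ S) (g : T ⟶ S) [QuasiCompact g] [QuasiSeparated g] (h : Y ⟶ X)
  [QuasiCompact h] [QuasiSeparated h] (e : Y ⟶ T) (w : e ≫ g = h ≫ f) [PreservesFiniteLimits (EtCoh.pull e)]

/-- a pair of strict localisations under a point -/
structure Loc where
  /-- the point -/
  x : X
  /-- on the base -/
  RS : Type u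
  /-- on the source -/
  RX : Type u
  [cS : CommRing RS]
  [lS : IsLocalRing RS]
  [aSalg : Algebra (S.presheaf.stalk (f.base x)) RS]
  [lhS : IsLocalHom (algebraMap (S.presheaf.stalk (f.base x)) RS)]
  [shS : _root_.Hensel.IsStrictHenselization (S.presheaf.stalk (f.base x)) RS]
  [sepS : IsSepClosed (ResidueField RS)]
  [hensS : HenselianLocalRing RS]
  [cX : CommRing RX]
  [lX : IsLocalRing RX]
  [aXalg : Algebra (X.presheaf.stalk x) RX]
  [lhX : IsLocalHom (algebraMap (X.presheaf.stalk x) RX)]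
  [shX : _root_.Hensel.IsStrictHenselization (X.presheaf.stalk x) RX]
  [sepX : IsSepClosed (ResidueField RX)]
  [hensX : HenselianLocalRing RX]
  /-- the map -/
  ρ : RS →+* RX
  [locρ : IsLocalHom ρ]
  hρ : Hens2.specOf X x RX ≫ f = Spec.map (CommRingCat.ofHom ρ) ≫ Hens2.specOf S (f.base x) RS
  /-- the fibre product on the base -/
  PS : Scheme.{u}
  /-- the fibre product on the source -/
  PX : Scheme.{u}
  /-- projection -/
  aS : PS ⟶ T
  /-- projection -/
  bS : PS ⟶ Spec (CommRingCat.of RS)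
  HS : IsPullback aS bS g (Hens2.specOf S (f.base x) RS)
  /-- projection -/
  pY : PX ⟶ Y
  /-- projection -/
  bX : PX ⟶ Spec (CommRingCat.of RX)
  HX : IsPullback pY bX h (Hens2.specOf X x RX)
  /-- comparison -/
  m : PX ⟶ PS
  wm : m ≫ aS = pY ≫ e
  wb : m ≫ bS = bX ≫ Spec.map (CommRingCat.ofHom ρ)
  [exaS : PreservesFiniteLimits (EtCoh.pull aS)]
  [expY : PreservesFiniteLimits (EtCoh.pull pY)]
  [exm : PreservesFiniteLimits (EtCoh.pull m)]

attribute [instance] Loc.cS Loc.lS Loc.aSalg Loc.lhS Loc.shS Loc.sepS Loc.hensS Loc.cX Loc.lX Loc.aXalg Loc.lhX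
  Loc.shX Loc.sepX Loc.hensX Loc.locρ Loc.exaS Loc.expY Loc.exm

variable {f g h e}

/-- the geometric point -/
abbrev Loc.pt (l : Loc f g h e) : Spec (CommRingCat.of (ResidueField l.RX)) ⟶ X := Hens2.geomPt X l.x l.RX

/-- the natural comparison -/
def Loc.ν (l : Loc f g h e) : EtCoh.pull l.aS ⋙ EtCoh.pull l.m ⟶ EtCoh.pull e ⋙ EtCoh.pull l.pY :=
  (EtMV.ψ l.m l.aS (l.pY ≫ e) l.wm).hom ≫ (EtMV.ψ l.pY e (l.pY ≫ e) rfl).inv

/-- the restriction -/
abbrev Loc.r (l : Loc f g h e) (F : EtCoh.Ab T) (q : ℕ) :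
    Ext (EtCoh.const l.PS ℤ) ((EtCoh.pull l.aS).obj F) q →+
      Ext (EtCoh.const l.PX ℤ) ((EtCoh.pull e ⋙ EtCoh.pull l.pY).obj F) q :=
  rMap (EtCoh.pull l.aS) (EtCoh.pull e ⋙ EtCoh.pull l.pY) (EtCoh.pull l.m) (EtCore.pullConst l.m ℤ).inv l.ν F q

/-- identification on the source -/
abbrev Loc.src (l : Loc f g h e) (F : EtCoh.Ab T) (q : ℕ) :=
  srcIso f g q (f.base l.x) l.RS l.x l.RX l.ρ l.hρ l.aS l.bS l.HS F

/-- identification on the target -/
abbrev Loc.tgt (l : Loc f g h e) (G : EtCoh.Ab Y) (q : ℕ) := tgtIso h q l.x l.RX l.pY l.bX l.HX G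

theorem Loc.square (l : Loc f g h e) (F : EtCoh.Ab T) (q : ℕ)
    (z : (EtCoh.stalk l.pt).obj ((EtCoh.pull f).obj ((EtCoh.Rpush g q).obj F))) :
    (l.tgt ((EtCoh.pull e).obj F) q).hom ((EtCoh.stalk l.pt).map (EtBC.bcQ g f h e w q F) z) =
      l.r F q ((l.src F q).hom z) :=
  ConcreteCategory.congr_hom
    (stalk_bcQ_res f g h e w q (f.base l.x) l.RS l.x l.RX l.ρ l.hρ l.aS l.bS l.HS l.pY l.bX l.HX l.m l.wm l.wb F) z

theorem Loc.bij_hom {M N : AddCommGrpCat.{u + 1}} (i : M ≅ N) : Function.Bijective i.hom :=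
  (ConcreteCategory.isIso_iff_bijective _).1 inferInstance

theorem Loc.bijective_iff (l : Loc f g h e) (F : EtCoh.Ab T) (q : ℕ) :
    Function.Bijective ((EtCoh.stalk l.pt).map (EtBC.bcQ g f h e w q F)) ↔ Function.Bijective (l.r F q) := by
  have hs := Loc.bij_hom (l.src F q)
  have ht := Loc.bij_hom (l.tgt ((EtCoh.pull e).obj F) q)
  have hc : (l.tgt ((EtCoh.pull e).obj F) q).hom ∘ (EtCoh.stalk l.pt).map (EtBC.bcQ g f h e w q F) =
      l.r F q ∘ (l.src F q).hom := funext (l.square w F q)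
  rw [← Function.Bijective.of_comp_iff' ht, hc, Function.Bijective.of_comp_iff _ hs]

theorem Loc.injective_iff (l : Loc f g h e) (F : EtCoh.Ab T) (q : ℕ) :
    Function.Injective ((EtCoh.stalk l.pt).map (EtBC.bcQ g f h e w q F)) ↔ Function.Injective (l.r F q) := by
  have hs := Loc.bij_hom (l.src F q)
  have ht := Loc.bij_hom (l.tgt ((EtCoh.pull e).obj F) q)
  have hc : (l.tgt ((EtCoh.pull e).obj F) q).hom ∘ (EtCoh.stalk l.pt).map (EtBC.bcQ g f h e w q F) =
      l.r F q ∘ (l.src F q).hom := funext (l.square w F q)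
  rw [← Function.Injective.of_comp_iff ht.1, hc, Function.Injective.of_comp_iff' _ hs]

theorem Loc.bijective_r (l : Loc f g h e) (F : EtCoh.Ab T) (q : ℕ) (hi : IsIso (EtBC.bcQ g f h e w q F)) :
    Function.Bijective (l.r F q) :=
  (l.bijective_iff w F q).1 ((ConcreteCategory.isIso_iff_bijective _).1 inferInstance)

theorem Loc.injective_r (l : Loc f g h e) (F : EtCoh.Ab T) (q : ℕ) (hi : Mono (EtBC.bcQ g f h e w q F)) :
    Function.Injective (l.r F q) :=
  (l.injective_iff w F q).1 ((AddCommGrpCat.mono_iff_injective _).1 inferInstance)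

variable (f g h e) in
theorem exists_loc (c : IsPullback e h g f) (x : X) : ∃ l : Loc f g h e, l.x = x := by
  obtain ⟨RS, _, _, _, _, hS⟩ := exists_sh (S.presheaf.stalk (f.base x))
  obtain ⟨RX, _, _, _, _, hX⟩ := exists_sh (X.presheaf.stalk x)
  haveI := hS.henselian
  haveI := hX.henselian
  haveI : IsSepClosed (ResidueField RS) := hS.isSepClosure.1
  haveI : IsSepClosed (ResidueField RX) := hX.isSepClosure.1
  obtain ⟨ψ, _, hψ⟩ := exists_hom_strict (f.stalkMap x).hom (RA := RS) (RB := RX)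
  let HS := IsPullback.of_hasPullback g (Hens2.specOf S (f.base x) RS)
  let HX := IsPullback.of_hasPullback h (Hens2.specOf X x RX)
  let pY := pullback.fst h (Hens2.specOf X x RX)
  let bX := pullback.snd h (Hens2.specOf X x RX)
  let m := HS.lift (pY ≫ e) (bX ≫ Spec.map (CommRingCat.ofHom ψ)) (by
    rw [Category.assoc, c.w, ← Category.assoc, pullback.condition, Category.assoc, specOf_comp f x RS RX ψ hψ,
      Category.assoc])
  exact ⟨{ x := x, RS := RS, RX := RX, ρ := ψ, hρ := specOf_comp f x RS RX ψ hψ, PS := _, PX := _,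
           aS := pullback.fst g (Hens2.specOf S (f.base x) RS), bS := pullback.snd g (Hens2.specOf S (f.base x) RS),
           HS := HS, pY := pY, bX := bX, HX := HX, m := m, wm := HS.lift_fst _ _ _, wb := HS.lift_snd _ _ _
           exaS := EtCohDesc.pull_preservesFiniteLimits _
           expY := EtCohDesc.pull_preservesFiniteLimits _
           exm := EtCohDesc.pull_preservesFiniteLimits _ }, rfl⟩

theorem covers_loc (c : IsPullback e h g f) (Q : ∀ (Ω : Type u) [Field Ω] [IsSepClosed Ω], (Spec (CommRingCat.of Ω) ⟶ X) → Prop)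
    (hQ : ∀ l : Loc f g h e, Q (ResidueField l.RX) l.pt) : Groth.Agent.EtStalk.Covers (X := X) Q := by
  intro x
  obtain ⟨l, rfl⟩ := exists_loc f g h e c x
  exact ⟨ResidueField l.RX, inferInstance, inferInstance, l.pt, hQ l, geomPt_apply l.x l.RX⟩

theorem mono_bcQ (c : IsPullback e h g f) (F : EtCoh.Ab T) (q : ℕ)
    (hr : ∀ l : Loc f g h e, Function.Injective (l.r F q)) : Mono (EtBC.bcQ g f h e w q F) := by
  haveI : Presheaf.IsLocallyInjective X.smallEtaleTopology (EtBC.bcQ g f h e w q F).hom :=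
    Groth.Agent.EtStalk.isLocallyInjective_of_covers _
      (covers_loc c (fun Ω _ _ ξ => Function.Injective ((EtCoh.stalk ξ).map (EtBC.bcQ g f h e w q F)))
        fun l => (l.injective_iff w F q).2 (hr l)) fun Ω _ _ ξ hξ => hξ
  exact Sheaf.mono_of_isLocallyInjective _

theorem Loc.src_natural (l : Loc f g h e) {F G : EtCoh.Ab T} (u : F ⟶ G) (q : ℕ)
    (z : (EtCoh.stalk l.pt).obj ((EtCoh.pull f).obj ((EtCoh.Rpush g q).obj F))) :
    (l.src G q).hom ((EtCoh.stalk l.pt).map ((EtCoh.pull f).map ((EtCoh.Rpush g q).map u)) z) =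
      Ext.comp ((l.src F q).hom z) (Ext.mk₀ ((EtCoh.pull l.aS).map u)) (add_zero q) :=
  ConcreteCategory.congr_hom (srcIso_natural f g q (f.base l.x) l.RS l.x l.RX l.ρ l.hρ l.aS l.bS l.HS u) z

theorem Loc.tgt_natural (l : Loc f g h e) {F G : EtCoh.Ab Y} (u : F ⟶ G) (q : ℕ)
    (z : (EtCoh.stalk l.pt).obj ((EtCoh.Rpush h q).obj F)) :
    (l.tgt G q).hom ((EtCoh.stalk l.pt).map ((EtCoh.Rpush h q).map u) z) =
      Ext.comp ((l.tgt F q).hom z) (Ext.mk₀ ((EtCoh.pull l.pY).map u)) (add_zero q) :=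
  ConcreteCategory.congr_hom (tgtIso_natural h q l.x l.RX l.pY l.bX l.HX u) z

theorem bcQ_natural (c : IsPullback e h g f) {F G : EtCoh.Ab T} (u : F ⟶ G) (q : ℕ) :
    (EtCoh.pull f).map ((EtCoh.Rpush g q).map u) ≫ EtBC.bcQ g f h e w q G =
      EtBC.bcQ g f h e w q F ≫ (EtCoh.Rpush h q).map ((EtCoh.pull e).map u) := by
  refine eq_of_covers _ _ (covers_loc c _ fun l => ?_)
  refine ConcreteCategory.hom_ext _ _ fun z => (Loc.bij_hom (l.tgt ((EtCoh.pull e).obj G) q)).1 ?_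
  rw [Functor.map_comp, Functor.map_comp, ConcreteCategory.comp_apply, ConcreteCategory.comp_apply, l.square w,
    l.src_natural, l.tgt_natural, l.square w]
  exact rMap_mk₀_comp (EtCoh.pull l.aS) (EtCoh.pull l.m) (EtCore.pullConst l.m ℤ).inv (EtCoh.pull e) (EtCoh.pull l.pY)
    l.ν u q _

theorem Loc.lift_bcQ (l : Loc f g h e) {S' : ShortComplex (EtCoh.Ab T)} (hS' : S'.ShortExact) (q : ℕ)
    (h₃ : Function.Surjective (l.r S'.X₃ q)) (h₃' : Function.Injective (l.r S'.X₃ (q + 1))) :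
    ∀ ξ α, (EtCoh.stalk l.pt).map (EtBC.bcQ g f h e w (q + 1) S'.X₂) α =
        (EtCoh.stalk l.pt).map ((EtCoh.Rpush h (q + 1)).map ((EtCoh.pull e).map S'.f)) ξ →
      ∃ β, (EtCoh.stalk l.pt).map (EtBC.bcQ g f h e w (q + 1) S'.X₁) β = ξ := by
  intro ξ α hα
  have e1 : l.r S'.X₂ (q + 1) ((l.src S'.X₂ (q + 1)).hom α) = _ :=
    (l.square w S'.X₂ (q + 1) α).symm.trans
      ((congrArg _ hα).trans (l.tgt_natural ((EtCoh.pull e).map S'.f) (q + 1) ξ))
  obtain ⟨β, hβ⟩ := comes_succ_comp (EtCoh.pull l.aS) (EtCoh.pull l.m) (EtCore.pullConst l.m ℤ).inv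
    (EtCoh.pull e) (EtCoh.pull l.pY) l.ν hS' q h₃ h₃' _ _ e1
  obtain ⟨β₀, rfl⟩ := (Loc.bij_hom (l.src S'.X₁ (q + 1))).2 β
  exact ⟨β₀, (Loc.bij_hom (l.tgt ((EtCoh.pull e).obj S'.X₁) (q + 1))).1 ((l.square w S'.X₁ (q + 1) β₀).trans hβ)⟩

theorem exists_map_cokernel (c : IsPullback e h g f) {S' : ShortComplex (EtCoh.Ab T)} (hS' : S'.ShortExact) (q : ℕ)
    (h₃ : ∀ l : Loc f g h e, Function.Surjective (l.r S'.X₃ q))
    (h₃' : ∀ l : Loc f g h e, Function.Injective (l.r S'.X₃ (q + 1))) :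
    ∃ φ : cokernel (EtBC.bcQ g f h e w (q + 1) S'.X₁) ⟶ cokernel (EtBC.bcQ g f h e w (q + 1) S'.X₂),
      Mono φ ∧ cokernel.π (EtBC.bcQ g f h e w (q + 1) S'.X₁) ≫ φ =
        (EtCoh.Rpush h (q + 1)).map ((EtCoh.pull e).map S'.f) ≫ cokernel.π (EtBC.bcQ g f h e w (q + 1) S'.X₂) := by
  refine ⟨cokernel.map _ _ ((EtCoh.pull f).map ((EtCoh.Rpush g (q + 1)).map S'.f))
    ((EtCoh.Rpush h (q + 1)).map ((EtCoh.pull e).map S'.f)) (bcQ_natural w c S'.f (q + 1)).symm, ?_,
    cokernel.π_desc _ _ _⟩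
  exact mono_cokernel_map _ _ _ _ _ (covers_loc c _ fun l => l.lift_bcQ w hS' q (h₃ l) (h₃' l))

theorem subsingleton_tor (l : Loc f g h e) (I : EtCoh.Ab T) [Injective I] {n : ℕ} (hn : 0 < n) :
    ∀ q, Subsingleton (Ext (EtCoh.const l.PS ℤ) ((EtCoh.pull l.aS).obj (EtColimH.tor I n)) (q + 1)) := by
  intro q
  refine ⟨fun a b => ?_⟩
  rw [← sub_eq_zero]
  generalize a - b = z
  let Ss := ShortComplex.mk (kernel.ι (n • 𝟙 I)) (n • 𝟙 I) (kernel.condition _)
  have hSs := (EtColimH.tor_shortExact I hn).map_of_exact (EtCoh.pull l.aS)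
  have hI : ∀ k, Subsingleton (Ext (EtCoh.const l.PS ℤ) ((EtCoh.pull l.aS).obj I) (k + 1)) := fun k =>
    subsingleton_ext_pull_injective g (f.base l.x) l.RS l.aS l.bS l.HS I k
  obtain ⟨y, hy⟩ := Ext.covariant_sequence_exact₁ (EtCoh.const l.PS ℤ) hSs z (@Subsingleton.elim _ (hI q) _ _) rfl
  rcases q with _ | k
  · obtain ⟨y₀, rfl⟩ := (Ext.mk₀_bijective _ _).2 y
    let i := stalkHom g (f.base l.x) l.RS l.aS l.bS l.HS I
    let st := Scheme.pointSmallEtale (Hens2.geomPt S (f.base l.x) l.RS)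
    obtain ⟨z₀, hz₀⟩ := (Loc.bij_hom i).2 y₀
    obtain ⟨U, v, t, rfl⟩ := st.toPresheafFiber_jointly_surjective (P := ((EtCoh.push g).obj I).obj) z₀
    obtain ⟨t', ht'⟩ := EtColimH.divisible_of_injective I (U := (EtCoh.bc g).obj U) t hn
    let y₁ : EtCoh.const l.PS ℤ ⟶ (EtCoh.pull l.aS).obj I :=
      i.hom (st.toPresheafFiber U v ((EtCoh.push g).obj I).obj t')
    have hy₀ : n • y₁ = y₀ := by
      rw [← hz₀]
      refine (map_nsmul i.hom.hom n _).symm.trans (congrArg i.hom ?_)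
      refine (map_nsmul (st.toPresheafFiber U v ((EtCoh.push g).obj I).obj).hom n t').symm.trans ?_
      exact congrArg _ ht'
    have hcomp : (Ext.mk₀ y₁).comp (Ext.mk₀ (Ss.map (EtCoh.pull l.aS)).g) (add_zero 0) = Ext.mk₀ y₀ := by
      rw [Ext.mk₀_comp_mk₀]
      show Ext.mk₀ (y₁ ≫ (EtCoh.pull l.aS).map (n • 𝟙 I)) = _
      rw [Functor.map_nsmul, CategoryTheory.Functor.map_id, Preadditive.comp_nsmul, Category.comp_id, hy₀]
    rw [← hy, ← hcomp, Ext.comp_assoc _ _ _ (add_zero 0) (zero_add 1) (show 0 + 0 + 1 = 0 + 1 by omega)]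
    rw [hSs.comp_extClass, Ext.comp_zero]
  · rw [← hy, @Subsingleton.elim _ (hI k) y 0, Ext.zero_comp]

theorem killedBy_iff {M : EtCoh.Ab X} (n : ℕ) : EtCoh.KilledBy n M ↔ (n • 𝟙 M : M ⟶ M) = 0 := by
  refine ⟨EtColimH.nsmul_id_eq_zero, fun h U s => ?_⟩
  exact ConcreteCategory.congr_hom (congr_app (congrArg (fun k => k.hom) h) (op U)) s

theorem killedBy_of_epi {M N : EtCoh.Ab X} (p : M ⟶ N) [Epi p] (n : ℕ) (hM : EtCoh.KilledBy n M) :
    EtCoh.KilledBy n N := by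
  rw [killedBy_iff, ← cancel_epi p, Preadditive.comp_nsmul, Category.comp_id, comp_zero,
    ← Category.id_comp p, ← Preadditive.nsmul_comp, EtColimH.nsmul_id_eq_zero hM, zero_comp]

variable (f g h e) in
/-- killed sheaves embed into killed sheaves without higher cohomology on the strict localisations -/
theorem exists_hull (F : EtCoh.Ab T) (n : ℕ) (hF : EtCoh.KilledBy n F) :
    ∃ (S' : ShortComplex (EtCoh.Ab T)) (_ : S'.ShortExact) (_ : S'.X₁ = F),
      EtCoh.KilledBy n S'.X₂ ∧ EtCoh.KilledBy n S'.X₃ ∧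
      ∀ (l : Loc f g h e) (q : ℕ), Subsingleton (Ext (EtCoh.const l.PS ℤ) ((EtCoh.pull l.aS).obj S'.X₂) (q + 1)) := by
  let I := Injective.under F
  have mk : ∀ (G : EtCoh.Ab T) (u : F ⟶ G) [Mono u], EtCoh.KilledBy n G →
      (∀ (l : Loc f g h e) (q : ℕ), Subsingleton (Ext (EtCoh.const l.PS ℤ) ((EtCoh.pull l.aS).obj G) (q + 1))) →
      ∃ (S' : ShortComplex (EtCoh.Ab T)) (_ : S'.ShortExact) (_ : S'.X₁ = F),
        EtCoh.KilledBy n S'.X₂ ∧ EtCoh.KilledBy n S'.X₃ ∧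
        ∀ (l : Loc f g h e) (q : ℕ), Subsingleton (Ext (EtCoh.const l.PS ℤ) ((EtCoh.pull l.aS).obj S'.X₂) (q + 1)) := by
    intro G u _ hG hvan
    refine ⟨ShortComplex.mk u (cokernel.π u) (cokernel.condition u), ?_, rfl, hG, killedBy_of_epi (cokernel.π u) n hG, hvan⟩
    exact { exact := ShortComplex.exact_of_g_is_cokernel _ (cokernelIsCokernel u) }
  rcases Nat.eq_zero_or_pos n with rfl | hn
  · exact mk I (Injective.ι F) (fun U s => zero_nsmul s)
      fun l q => subsingleton_ext_pull_injective g (f.base l.x) l.RS l.aS l.bS l.HS I q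
  · let u : F ⟶ EtColimH.tor I n := kernel.lift _ (Injective.ι F) (by
      rw [Preadditive.comp_nsmul, Category.comp_id, ← Category.id_comp (Injective.ι F), ← Preadditive.nsmul_comp,
        EtColimH.nsmul_id_eq_zero hF, zero_comp])
    haveI : Mono u := mono_of_mono_fac (kernel.lift_ι _ _ _)
    refine mk _ u ((killedBy_iff n).2 ?_) fun l q => subsingleton_tor l I hn q
    rw [← cancel_mono (kernel.ι (n • 𝟙 I)), Preadditive.nsmul_comp, Category.id_comp, zero_comp]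
    exact ((congrArg (n • ·) (Category.comp_id (kernel.ι (n • 𝟙 I))).symm).trans
      (Preadditive.comp_nsmul _ _ _).symm).trans (kernel.condition _)

end Groth.Agent.EtBCQ
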