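import Groth.Prelude.Def_RDer
import Mathlib.CategoryTheory.Abelian.Injective.Resolution
import Mathlib.Algebra.Homology.Homotopy
import Mathlib.Algebra.Homology.QuasiIso

/-! Uniqueness up to homotopy of maps from a resolution into a complex of injectives. -/

set_option autoImplicit false
set_option backward.isDefEq.respectTransparency false

universe v u

open CategoryTheory CategoryTheory.Limits

noncomputable section

namespace Groth.Agent.EtBCQ

variable {A : Type u} [Category.{v} A] [Abelian A] {Y : A} {K L : CochainComplex A ℕ}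
  (ι : (CochainComplex.single₀ A).obj Y ⟶ K) [QuasiIso ι] [hL : ∀ n, Injective (L.X n)]
  (f : K ⟶ L) (comm : ι.f 0 ≫ f.f 0 = 0)

/-- the homotopy in degree 1 -/
def hzero : K.X 1 ⟶ L.X 0 :=
  (RDer.res_exact₀ K ι).descToInjective (f.f 0) comm

theorem comp_hzero : K.d 0 1 ≫ hzero ι f comm = f.f 0 :=
  (RDer.res_exact₀ K ι).comp_descToInjective _ _

/-- the homotopy in degree 2 -/
def hone : K.X 2 ⟶ L.X 1 :=
  (RDer.res_exact_succ K ι 0).descToInjective (f.f 1 - hzero ι f comm ≫ L.d 0 1) (by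
    change K.d 0 1 ≫ (f.f 1 - hzero ι f comm ≫ L.d 0 1) = 0
    rw [Preadditive.comp_sub, ← Category.assoc, comp_hzero, HomologicalComplex.Hom.comm, sub_self])

theorem comp_hone : K.d 1 2 ≫ hone ι f comm = f.f 1 - hzero ι f comm ≫ L.d 0 1 :=
  (RDer.res_exact_succ K ι 0).comp_descToInjective _ _

/-- the inductive step -/
def hsucc (n : ℕ) (g : K.X (n + 1) ⟶ L.X n) (g' : K.X (n + 2) ⟶ L.X (n + 1))
    (w : f.f (n + 1) = g ≫ L.d n (n + 1) + K.d (n + 1) (n + 2) ≫ g') :
    K.X (n + 3) ⟶ L.X (n + 2) :=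
  (RDer.res_exact_succ K ι (n + 1)).descToInjective (f.f (n + 2) - g' ≫ L.d _ _) (by
    change K.d (n + 1) (n + 2) ≫ (f.f (n + 2) - g' ≫ L.d _ _) = 0
    rw [Preadditive.comp_sub, ← HomologicalComplex.Hom.comm, w, Preadditive.add_comp,
      Category.assoc, Category.assoc, HomologicalComplex.d_comp_d, comp_zero, zero_add, sub_self])

theorem comp_hsucc (n : ℕ) (g : K.X (n + 1) ⟶ L.X n) (g' : K.X (n + 2) ⟶ L.X (n + 1))
    (w : f.f (n + 1) = g ≫ L.d n (n + 1) + K.d (n + 1) (n + 2) ≫ g') :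
    K.d (n + 2) (n + 3) ≫ hsucc ι f n g g' w = f.f (n + 2) - g' ≫ L.d _ _ :=
  (RDer.res_exact_succ K ι (n + 1)).comp_descToInjective _ _

/-- A map from a resolution killed by the augmentation is null-homotopic. -/
def homotopyZero : Homotopy f 0 :=
  Homotopy.mkCoinductive _ (hzero ι f comm) (comp_hzero ι f comm).symm (hone ι f comm)
    (by rw [comp_hone]; abel)
    fun n p => ⟨hsucc ι f n p.1 p.2.1 p.2.2, by rw [comp_hsucc]; abel⟩

/-- Two maps from a resolution agreeing after augmentation are homotopic. -/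
def homotopyOfEq (s s' : K ⟶ L) (h : ι.f 0 ≫ s.f 0 = ι.f 0 ≫ s'.f 0) : Homotopy s s' :=
  Homotopy.equivSubZero.symm (homotopyZero ι (s - s') (by
    rw [HomologicalComplex.sub_f_apply, Preadditive.comp_sub, h, sub_self]))

end Groth.Agent.EtBCQ
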