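import Groth.Agent.EtBCQ.Desc
import Groth.Agent.W7FlatBC.Transpose
import Mathlib.CategoryTheory.Abelian.RightDerived

/-! The base change map of higher derived functors as the homology of a map on resolutions. -/

set_option autoImplicit false
set_option backward.isDefEq.respectTransparency false
set_option backward.isDefEq.respectTransparency.types false
set_option maxHeartbeats 1000000
set_option linter.unusedSectionVars false

universe v₁ v₂ v₃ v₄ u₁ u₂ u₃ u₄

open CategoryTheory CategoryTheory.Limits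

noncomputable section

namespace Groth.Agent.EtBCQ

variable {A : Type u₁} [Category.{v₁} A] [Abelian A] [HasInjectiveResolutions A]
  {A' : Type u₂} [Category.{v₂} A'] [Abelian A'] [HasInjectiveResolutions A']
  {B : Type u₃} [Category.{v₃} B] [Abelian B] {B' : Type u₄} [Category.{v₄} B'] [Abelian B']
  {F : A ⥤ B} [F.Additive] {F' : A' ⥤ B'} [F'.Additive] {P : B ⥤ B'} [P.Additive]
  {P' : A ⥤ A'} [P'.Additive]

section natMap

variable (σ : F ⋙ P ⟶ P' ⋙ F') {R : CochainComplex A ℕ} {J J' : CochainComplex A' ℕ}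

/-- The base change map on complexes. -/
def natMap (s : (P'.mapHomologicalComplex (ComplexShape.up ℕ)).obj R ⟶ J) :
    (P.mapHomologicalComplex (ComplexShape.up ℕ)).obj ((F.mapHomologicalComplex (ComplexShape.up ℕ)).obj R) ⟶
      (F'.mapHomologicalComplex (ComplexShape.up ℕ)).obj J where
  f n := σ.app (R.X n) ≫ F'.map (s.f n)
  comm' i j _ := by
    have h := congrArg F'.map (s.comm i j)
    simp only [Functor.map_comp, Functor.mapHomologicalComplex_obj_d] at h ⊢
    rw [Category.assoc, h]
    exact (σ.naturality_assoc (R.d i j) _).symm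

theorem natMap_comp (s : (P'.mapHomologicalComplex (ComplexShape.up ℕ)).obj R ⟶ J) (φ : J ⟶ J') :
    natMap σ (s ≫ φ) = natMap σ s ≫ (F'.mapHomologicalComplex (ComplexShape.up ℕ)).map φ := by
  ext n; simp [natMap]

theorem homologyMap_natMap_congr (s s' : (P'.mapHomologicalComplex (ComplexShape.up ℕ)).obj R ⟶ J)
    (h : Homotopy s s') (q : ℕ) :
    HomologicalComplex.homologyMap (natMap σ s) q = HomologicalComplex.homologyMap (natMap σ s') q := by
  have e : ∀ t : (P'.mapHomologicalComplex (ComplexShape.up ℕ)).obj R ⟶ J,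
      natMap σ t = natMap σ (𝟙 _) ≫ (F'.mapHomologicalComplex (ComplexShape.up ℕ)).map t := fun t => by
    rw [← natMap_comp, Category.id_comp]
  rw [e s, e s', HomologicalComplex.homologyMap_comp, HomologicalComplex.homologyMap_comp,
    (F'.mapHomotopy h).homologyMap_eq]

end natMap

variable
  {G : B' ⥤ B} [G.Additive] [PreservesFiniteLimits G] {G' : A' ⥤ A} [G'.Additive] [G'.PreservesInjectiveObjects]
  (adj : P ⊣ G) (adj' : P' ⊣ G') (c : G' ⋙ F ≅ F' ⋙ G)
  (σ : F ⋙ P ⟶ P' ⋙ F')
  (hσ : ∀ M, adj.homEquiv _ _ (σ.app M) = F.map (adj'.unit.app M) ≫ c.hom.app (P'.obj M))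

/-- the transpose of a map into a complex -/
def transpose {R : CochainComplex A ℕ} {J : CochainComplex A' ℕ}
    (s : (P'.mapHomologicalComplex (ComplexShape.up ℕ)).obj R ⟶ J) :
    R ⟶ (G'.mapHomologicalComplex (ComplexShape.up ℕ)).obj J where
  f n := adj'.homEquiv _ _ (s.f n)
  comm' i j _ := by
    change adj'.homEquiv _ _ (s.f i) ≫ G'.map (J.d i j) = R.d i j ≫ adj'.homEquiv _ _ (s.f j)
    rw [← adj'.homEquiv_naturality_right, ← adj'.homEquiv_naturality_left, s.comm i j]
    rfl

omit [HasInjectiveResolutions A] [HasInjectiveResolutions A'] in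
theorem mapAug_f_zero {M : A} {R : CochainComplex A ℕ} (ι : (CochainComplex.single₀ A).obj M ⟶ R) :
    (RDer.mapAug P' ι).f 0 = P'.map (ι.f 0) := by
  simp [RDer.mapAug, HomologicalComplex.singleMapHomologicalComplex_inv_app_self]

variable (F F' P P' G G')

/-- the transposed base change map -/
abbrev bcAdj (M : A) (q : ℕ) : (F.rightDerived q).obj M ⟶ G.obj ((F'.rightDerived q).obj (P'.obj M)) :=
  (F.rightDerived q).map (adj'.unit.app M) ≫ RDer.edgeIn G' F q (P'.obj M) ≫
    (RDer.rightDerivedIso c q).hom.app (P'.obj M) ≫ RDer.edgeOut F' G q (P'.obj M)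

variable {F F' P P' G G'}

variable [P.PreservesHomology] [P'.PreservesHomology]

include hσ in
theorem bc_eq_chosen (M : A) (q : ℕ)
    (s : (P'.mapHomologicalComplex (ComplexShape.up ℕ)).obj (injectiveResolution M).cocomplex ⟶
      (injectiveResolution (P'.obj M)).cocomplex)
    (hs : P'.map ((injectiveResolution M).ι.f 0) ≫ s.f 0 = (injectiveResolution (P'.obj M)).ι.f 0) :
    (adj.homEquiv _ _).symm (bcAdj F F' P' G G' adj' c M q) =
      P.map ((injectiveResolution M).isoRightDerivedObj F q).hom ≫
        ((((F.mapHomologicalComplex (ComplexShape.up ℕ)).obj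
          (injectiveResolution M).cocomplex).sc q).mapHomologyIso P).inv ≫
        HomologicalComplex.homologyMap (natMap σ s) q ≫
        ((injectiveResolution (P'.obj M)).isoRightDerivedObj F' q).inv := by
  let R := injectiveResolution M
  let N := P'.obj M
  let J := injectiveResolution N
  let Kr := injectiveResolution (G'.obj N)
  let η := adj'.unit.app M
  let a : R.cocomplex ⟶ Kr.cocomplex := InjectiveResolution.desc η Kr R
  let b : Kr.cocomplex ⟶ (G'.mapHomologicalComplex (ComplexShape.up ℕ)).obj J.cocomplex :=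
    RDer.descToInjectives (𝟙 (G'.obj N)) Kr.cocomplex Kr.ι
      ((G'.mapHomologicalComplex _).obj J.cocomplex) (RDer.mapAug G' J.ι)
  let t := transpose adj' s
  have hab : R.ι.f 0 ≫ (a ≫ b).f 0 = R.ι.f 0 ≫ t.f 0 := by
    have h1 : Kr.ι.f 0 ≫ b.f 0 = G'.map (J.ι.f 0) :=
      ((RDer.ι_descToInjectives_f_zero _ _ _ _ _).trans (Category.id_comp _)).trans (mapAug_f_zero (P' := G') J.ι)
    rw [HomologicalComplex.comp_f, ← Category.assoc,
      show R.ι.f 0 ≫ a.f 0 = η ≫ Kr.ι.f 0 from InjectiveResolution.desc_commutes_zero η Kr R,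
      Category.assoc, h1]
    change _ = R.ι.f 0 ≫ adj'.homEquiv _ _ (s.f 0)
    rw [← adj'.homEquiv_naturality_left, hs, Adjunction.homEquiv_unit]
    rfl
  let φ : (F.mapHomologicalComplex _).obj R.cocomplex ⟶
      (G.mapHomologicalComplex _).obj ((F'.mapHomologicalComplex _).obj J.cocomplex) :=
    (F.mapHomologicalComplex _).map t ≫
      (NatTrans.mapHomologicalComplex c.hom (ComplexShape.up ℕ)).app J.cocomplex
  have hadj : bcAdj F F' P' G G' adj' c M q =
      (R.isoRightDerivedObj F q).hom ≫
        (HomologicalComplex.homologyMap φ q ≫ RDer.homologyComparison G _ q) ≫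
        G.map (J.isoRightDerivedObj F' q).inv := by
    change (F.rightDerived q).map η ≫ RDer.edgeIn G' F q N ≫ (NatTrans.rightDerived c.hom q).app N ≫
      RDer.edgeOut F' G q N = _
    rw [Functor.rightDerived_map_eq F q η a (InjectiveResolution.desc_commutes η Kr R),
      InjectiveResolution.rightDerived_app_eq c.hom J q]
    simp only [RDer.edgeIn, RDer.edgeOut, Category.assoc]
    erw [Iso.inv_hom_id_assoc, Iso.inv_hom_id_assoc, Iso.inv_hom_id_assoc]
    simp only [φ, HomologicalComplex.homologyMap_comp, Category.assoc]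
    rw [← (F.mapHomotopy (homotopyOfEq R.ι (a ≫ b) t hab)).homologyMap_eq q]
    simp only [Functor.map_comp, HomologicalComplex.homologyMap_comp, Category.assoc]
    rfl
  have hsn : ∀ n, (adj.homEquiv _ _).symm (φ.f n) = (natMap σ s).f n := fun n => by
    rw [Equiv.symm_apply_eq]
    change F.map (adj'.homEquiv _ _ (s.f n)) ≫ c.hom.app _ = adj.homEquiv _ _ (σ.app _ ≫ F'.map (s.f n))
    rw [adj.homEquiv_naturality_right, hσ, Adjunction.homEquiv_unit, Functor.map_comp, Category.assoc,
      Category.assoc]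
    exact congrArg (F.map _ ≫ ·) (c.hom.naturality (s.f n))
  rw [hadj]
  refine (adj.homEquiv_naturality_left_symm _ _).trans ?_
  refine congrArg (P.map (R.isoRightDerivedObj F q).hom ≫ ·) ?_
  refine (adj.homEquiv_naturality_right_symm _ _).trans ?_
  exact (congrArg (· ≫ (J.isoRightDerivedObj F' q).inv)
    (W7FlatBC.symm_homologyMap_comparison adj φ (natMap σ s) hsn q)).trans (Category.assoc _ _ _)

include hσ in
/-- The base change map is the homology of any map on resolutions compatible with the augmentations. -/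
theorem bc_eq (M : A) (q : ℕ) (J : InjectiveResolution (P'.obj M))
    (s : (P'.mapHomologicalComplex (ComplexShape.up ℕ)).obj (injectiveResolution M).cocomplex ⟶ J.cocomplex)
    (hs : P'.map ((injectiveResolution M).ι.f 0) ≫ s.f 0 = J.ι.f 0) :
    (adj.homEquiv _ _).symm (bcAdj F F' P' G G' adj' c M q) =
      P.map ((injectiveResolution M).isoRightDerivedObj F q).hom ≫
        ((((F.mapHomologicalComplex (ComplexShape.up ℕ)).obj
          (injectiveResolution M).cocomplex).sc q).mapHomologyIso P).inv ≫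
        HomologicalComplex.homologyMap (natMap σ s) q ≫
        (J.isoRightDerivedObj F' q).inv := by
  let J₀ := injectiveResolution (P'.obj M)
  let s₀ := RDer.descToInjectives (𝟙 (P'.obj M))
    ((P'.mapHomologicalComplex (ComplexShape.up ℕ)).obj (injectiveResolution M).cocomplex)
    (RDer.mapAug P' (injectiveResolution M).ι) J₀.cocomplex J₀.ι
  have hs₀ : P'.map ((injectiveResolution M).ι.f 0) ≫ s₀.f 0 = J₀.ι.f 0 := by
    rw [← mapAug_f_zero]
    exact (RDer.ι_descToInjectives_f_zero _ _ _ _ _).trans (Category.id_comp _)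
  rw [bc_eq_chosen adj adj' c σ hσ M q s₀ hs₀]
  let φ : J₀.cocomplex ⟶ J.cocomplex := InjectiveResolution.desc (𝟙 _) J J₀
  have hφ : J₀.ι.f 0 ≫ φ.f 0 = J.ι.f 0 :=
    (InjectiveResolution.desc_commutes_zero (𝟙 _) J J₀).trans (Category.id_comp _)
  have hh := homologyMap_natMap_congr σ s (s₀ ≫ φ)
    (homotopyOfEq (RDer.mapAug P' (injectiveResolution M).ι) s (s₀ ≫ φ) (by
      rw [mapAug_f_zero, hs, HomologicalComplex.comp_f, reassoc_of% hs₀]; exact hφ.symm)) q
  rw [hh, natMap_comp, HomologicalComplex.homologyMap_comp, Category.assoc]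
  have hn := InjectiveResolution.isoRightDerivedObj_inv_naturality (𝟙 (P'.obj M)) J₀ J φ
    (hφ.trans (Category.id_comp _).symm) F' q
  rw [CategoryTheory.Functor.map_id, Category.comp_id] at hn
  exact congrArg (P.map _ ≫ _ ≫ HomologicalComplex.homologyMap (natMap σ s₀) q ≫ ·) hn

include hσ in
theorem isIso_bc_iff (M : A) (q : ℕ) (J : InjectiveResolution (P'.obj M))
    (s : (P'.mapHomologicalComplex (ComplexShape.up ℕ)).obj (injectiveResolution M).cocomplex ⟶ J.cocomplex)
    (hs : P'.map ((injectiveResolution M).ι.f 0) ≫ s.f 0 = J.ι.f 0) :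
    IsIso ((adj.homEquiv _ _).symm (bcAdj F F' P' G G' adj' c M q)) ↔
      IsIso (HomologicalComplex.homologyMap (natMap σ s) q) := by
  rw [bc_eq adj adj' c σ hσ M q J s hs, isIso_comp_left_iff, isIso_comp_left_iff, isIso_comp_right_iff]

end Groth.Agent.EtBCQ
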