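import Groth.Prelude.Def_EtBC2
import Groth.Agent.EtBCQ.Square
import Groth.Agent.EtCohDesc.Retract
import Mathlib.CategoryTheory.Abelian.RightDerived

/-! The base change map of higher direct images of etale sheaves on resolutions. -/

set_option autoImplicit false
set_option backward.isDefEq.respectTransparency false
set_option backward.isDefEq.respectTransparency.types false
set_option maxHeartbeats 1000000
set_option linter.unusedSectionVars false

universe u

open CategoryTheory CategoryTheory.Limits AlgebraicGeometry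

noncomputable section

namespace Groth.Agent.EtBCQ

variable {X S X' S' : Scheme.{u}} (f : X ⟶ S) (g : S' ⟶ S) (f' : X' ⟶ S') (g' : X' ⟶ X) (w : g' ≫ f = f' ≫ g)

/-- `f_* g'_* ≅ g_* f'_*` -/
abbrev cIso : EtCoh.push g' ⋙ EtCoh.push f ≅ EtCoh.push f' ⋙ EtCoh.push g :=
  EtCoh.pushComp f g' ≪≫ EtCoh.pushCongr w ≪≫ (EtCoh.pushComp g f').symm

/-- The base change natural transformation. -/
def σBC : EtCoh.push f ⋙ EtCoh.pull g ⟶ EtCoh.pull g' ⋙ EtCoh.push f' where
  app F := EtCoh.baseChange0 f g f' g' w F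
  naturality F G φ := by
    dsimp only [Functor.comp_obj, Functor.comp_map, EtCoh.baseChange0]
    rw [← Adjunction.homEquiv_naturality_left_symm, ← Adjunction.homEquiv_naturality_right_symm]
    refine congrArg _ ?_
    have h₁ := (cIso f g f' g' w).hom.naturality ((EtCoh.pull g').map φ)
    simp only [Iso.trans_hom, Iso.symm_hom, NatTrans.comp_app, Category.assoc, Functor.comp_map] at h₁
    simp only [Category.assoc]
    refine Eq.trans ?_ (congrArg ((EtCoh.push f).map ((EtCoh.pullPushAdj g').unit.app F) ≫ ·) h₁)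
    rw [← Category.assoc, ← Category.assoc ((EtCoh.push f).map ((EtCoh.pullPushAdj g').unit.app F)),
      ← Functor.map_comp, ← Functor.map_comp]
    exact congrArg (fun k => (EtCoh.push f).map k ≫ _) ((EtCoh.pullPushAdj g').unit.naturality φ)

theorem homEquiv_σBC (F : EtCoh.Ab X) :
    (EtCoh.pullPushAdj g).homEquiv _ _ ((σBC f g f' g' w).app F) =
      (EtCoh.push f).map ((EtCoh.pullPushAdj g').unit.app F) ≫
        (cIso f g f' g' w).hom.app ((EtCoh.pull g').obj F) := by
  refine (Equiv.apply_symm_apply _ _).trans ?_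
  simp only [Iso.trans_hom, Iso.symm_hom, NatTrans.comp_app]

variable [PreservesFiniteLimits (EtCoh.pull g')]

theorem bcQ_eq (F : EtCoh.Ab X) (q : ℕ) (J : InjectiveResolution ((EtCoh.pull g').obj F))
    (s : ((EtCoh.pull g').mapHomologicalComplex (ComplexShape.up ℕ)).obj (injectiveResolution F).cocomplex ⟶
      J.cocomplex)
    (hs : (EtCoh.pull g').map ((injectiveResolution F).ι.f 0) ≫ s.f 0 = J.ι.f 0) :
    EtBC.bcQ f g f' g' w q F =
      (EtCoh.pull g).map ((injectiveResolution F).isoRightDerivedObj (EtCoh.push f) q).hom ≫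
        (((((EtCoh.push f).mapHomologicalComplex (ComplexShape.up ℕ)).obj
          (injectiveResolution F).cocomplex).sc q).mapHomologyIso (EtCoh.pull g)).inv ≫
        HomologicalComplex.homologyMap (natMap (σBC f g f' g' w) s) q ≫
        (J.isoRightDerivedObj (EtCoh.push f') q).inv :=
  bc_eq (EtCoh.pullPushAdj g) (EtCoh.pullPushAdj g') (cIso f g f' g' w) (σBC f g f' g' w)
    (homEquiv_σBC f g f' g' w) F q J s hs

theorem isIso_bcQ_iff (F : EtCoh.Ab X) (q : ℕ) (J : InjectiveResolution ((EtCoh.pull g').obj F))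
    (s : ((EtCoh.pull g').mapHomologicalComplex (ComplexShape.up ℕ)).obj (injectiveResolution F).cocomplex ⟶
      J.cocomplex)
    (hs : (EtCoh.pull g').map ((injectiveResolution F).ι.f 0) ≫ s.f 0 = J.ι.f 0) :
    IsIso (EtBC.bcQ f g f' g' w q F) ↔ IsIso (HomologicalComplex.homologyMap (natMap (σBC f g f' g' w) s) q) :=
  isIso_bc_iff (EtCoh.pullPushAdj g) (EtCoh.pullPushAdj g') (cIso f g f' g' w) (σBC f g f' g' w)
    (homEquiv_σBC f g f' g' w) F q J s hs

/-- the canonical map of a resolution -/
def sRes {M : EtCoh.Ab X} (R : InjectiveResolution M) (J : InjectiveResolution ((EtCoh.pull g').obj M)) :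
    ((EtCoh.pull g').mapHomologicalComplex (ComplexShape.up ℕ)).obj R.cocomplex ⟶ J.cocomplex :=
  RDer.descToInjectives (𝟙 _) _ (RDer.mapAug (EtCoh.pull g') R.ι) J.cocomplex J.ι

theorem sRes_zero {M : EtCoh.Ab X} (R : InjectiveResolution M) (J : InjectiveResolution ((EtCoh.pull g').obj M)) :
    (EtCoh.pull g').map (R.ι.f 0) ≫ (sRes g' R J).f 0 = J.ι.f 0 := by
  rw [← mapAug_f_zero]
  exact (RDer.ι_descToInjectives_f_zero _ _ _ _ _).trans (Category.id_comp _)

end Groth.Agent.EtBCQ
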