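import Groth.Agent.EtBCQ.Vcomp
import Groth.Agent.EtBCQ.Chase
import Groth.Agent.EtIntegralBC.Counit
import Groth.Agent.EtAcycX.Edge
import Mathlib

/-! Squares composed along the push direction; integral morphisms. -/

set_option autoImplicit false
set_option backward.isDefEq.respectTransparency false
set_option backward.isDefEq.respectTransparency.types false
set_option linter.style.haveILetI false
set_option linter.unusedSectionVars false
set_option linter.overlappingInstances false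
set_option linter.auxLemma false
set_option maxHeartbeats 1000000

universe u v₁ v₂ v₃ v₄ u₁ u₂ u₃ u₄

open CategoryTheory CategoryTheory.Limits AlgebraicGeometry Opposite

noncomputable section

namespace Groth.Agent.EtBCQ

section Gen

variable {A : Type u₁} [Category.{v₁} A] [Abelian A] {B : Type u₂} [Category.{v₂} B] [Abelian B]
  {A' : Type u₃} [Category.{v₃} A'] [Abelian A'] {B' : Type u₄} [Category.{v₄} B'] [Abelian B']
  {F : A ⥤ B} [F.Additive] {F' : A' ⥤ B'} [F'.Additive] {P : B ⥤ B'} [P.Additive]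
  {P' : A ⥤ A'} [P'.Additive] [HasInjectiveResolutions A] [HasInjectiveResolutions A'] (σ : F ⋙ P ⟶ P' ⋙ F') {R R' : CochainComplex A ℕ} {J : CochainComplex A' ℕ}

theorem natMap_precomp (a : R ⟶ R') (s : (P'.mapHomologicalComplex (ComplexShape.up ℕ)).obj R' ⟶ J) :
    natMap σ ((P'.mapHomologicalComplex (ComplexShape.up ℕ)).map a ≫ s) =
      (P.mapHomologicalComplex (ComplexShape.up ℕ)).map ((F.mapHomologicalComplex (ComplexShape.up ℕ)).map a) ≫
        natMap σ s := by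
  ext n
  simp only [natMap, HomologicalComplex.comp_f, Functor.mapHomologicalComplex_map_f, Functor.map_comp]
  exact (σ.naturality_assoc (a.f n) _).symm

theorem isIso_natMap_comp_homotopyEquiv (a : HomotopyEquiv R R')
    (s : (P'.mapHomologicalComplex (ComplexShape.up ℕ)).obj R' ⟶ J) (q : ℕ) :
    IsIso (HomologicalComplex.homologyMap
        (natMap σ ((P'.mapHomologicalComplex (ComplexShape.up ℕ)).map a.hom ≫ s)) q) ↔
      IsIso (HomologicalComplex.homologyMap (natMap σ s) q) := by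
  rw [natMap_precomp, HomologicalComplex.homologyMap_comp]
  haveI : IsIso (HomologicalComplex.homologyMap ((P.mapHomologicalComplex (ComplexShape.up ℕ)).map
      ((F.mapHomologicalComplex (ComplexShape.up ℕ)).map a.hom)) q) :=
    (P.mapHomotopyEquiv (F.mapHomotopyEquiv a)).toHomologyIso q |>.isIso_hom
  exact isIso_comp_left_iff _ _

theorem isIso_natMap_id [hσ : ∀ M, IsIso (σ.app M)] (K : CochainComplex A ℕ) :
    IsIso (natMap σ (𝟙 ((P'.mapHomologicalComplex (ComplexShape.up ℕ)).obj K))) := by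
  haveI : ∀ n, IsIso ((natMap σ (𝟙 ((P'.mapHomologicalComplex (ComplexShape.up ℕ)).obj K))).f n) := fun n => by
    show IsIso (σ.app (K.X n) ≫ F'.map (𝟙 _))
    infer_instance
  exact HomologicalComplex.Hom.isIso_of_components _

theorem isIso_natMap_iff_of_isIso [hσ : ∀ M, IsIso (σ.app M)] [F'.PreservesHomology] [F'.Faithful]
    (s : (P'.mapHomologicalComplex (ComplexShape.up ℕ)).obj R ⟶ J) (q : ℕ) :
    IsIso (HomologicalComplex.homologyMap (natMap σ s) q) ↔ IsIso (HomologicalComplex.homologyMap s q) := by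
  haveI := isIso_natMap_id σ R
  conv_lhs => rw [← Category.id_comp s, natMap_comp, HomologicalComplex.homologyMap_comp,
    isIso_comp_left_iff, homologyMap_map_eq F' s q, isIso_comp_left_iff, isIso_comp_right_iff]
  exact ⟨fun h => haveI := h; isIso_of_reflects_iso _ F', fun h => haveI := h; inferInstance⟩

end Gen

section GenPaste

universe v₅ v₆ u₅ u₆

variable {A : Type u₁} [Category.{v₁} A] [Abelian A] {B : Type u₂} [Category.{v₂} B] [Abelian B]
  {C : Type u₃} [Category.{v₃} C] [Abelian C] {A' : Type u₄} [Category.{v₄} A'] [Abelian A']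
  {B' : Type u₅} [Category.{v₅} B'] [Abelian B'] {C' : Type u₆} [Category.{v₆} C'] [Abelian C']
  {Ga : A ⥤ B} [Ga.Additive] {Gb : B ⥤ C} [Gb.Additive] {Gab : A ⥤ C} [Gab.Additive] (α : Ga ⋙ Gb ≅ Gab)
  {Ga' : A' ⥤ B'} [Ga'.Additive] {Gb' : B' ⥤ C'} [Gb'.Additive] {Gab' : A' ⥤ C'} [Gab'.Additive]
  (α' : Ga' ⋙ Gb' ≅ Gab') {Pe : A ⥤ A'} [Pe.Additive] {Pc : B ⥤ B'} [Pc.Additive] {Pf : C ⥤ C'} [Pf.Additive]
  (σ₁ : Ga ⋙ Pc ⟶ Pe ⋙ Ga') (σ₂ : Gb ⋙ Pf ⟶ Pc ⋙ Gb') (σo : Gab ⋙ Pf ⟶ Pe ⋙ Gab')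
  (hp : ∀ M, Pf.map (α.hom.app M) ≫ σo.app M =
    σ₂.app (Ga.obj M) ≫ Gb'.map (σ₁.app M) ≫ α'.hom.app (Pe.obj M))

/-- the comparison of the composite on complexes -/
def αCx (K : CochainComplex A ℕ) :
    (Gb.mapHomologicalComplex (ComplexShape.up ℕ)).obj ((Ga.mapHomologicalComplex (ComplexShape.up ℕ)).obj K) ≅
      (Gab.mapHomologicalComplex (ComplexShape.up ℕ)).obj K :=
  HomologicalComplex.Hom.isoOfComponents (fun n => α.app (K.X n)) fun i j _ => (α.hom.naturality (K.d i j)).symm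

include hp in
theorem natMap_hpaste {R : CochainComplex A ℕ} {J : CochainComplex A' ℕ}
    (s : (Pe.mapHomologicalComplex (ComplexShape.up ℕ)).obj R ⟶ J) :
    (Pf.mapHomologicalComplex (ComplexShape.up ℕ)).map (αCx α R).hom ≫ natMap σo s =
      natMap σ₂ (natMap σ₁ s) ≫ (αCx α' J).hom := by
  ext n
  simp only [natMap, αCx, HomologicalComplex.comp_f, Functor.mapHomologicalComplex_map_f,
    HomologicalComplex.Hom.isoOfComponents_hom_f, Iso.app_hom, Functor.map_comp, Category.assoc]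
  rw [reassoc_of% (hp (R.X n))]
  refine congrArg (σ₂.app _ ≫ ·) (congrArg (Gb'.map (σ₁.app _) ≫ ·) ?_)
  exact (α'.hom.naturality (s.f n)).symm

include hp in
theorem isIso_hpaste_iff {R : CochainComplex A ℕ} {J : CochainComplex A' ℕ}
    (s : (Pe.mapHomologicalComplex (ComplexShape.up ℕ)).obj R ⟶ J) (q : ℕ) :
    IsIso (HomologicalComplex.homologyMap (natMap σo s) q) ↔
      IsIso (HomologicalComplex.homologyMap (natMap σ₂ (natMap σ₁ s)) q) := by
  have h := congrArg (fun k => HomologicalComplex.homologyMap k q) (natMap_hpaste α α' σ₁ σ₂ σo hp s)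
  simp only [HomologicalComplex.homologyMap_comp] at h
  rw [← isIso_comp_left_iff (HomologicalComplex.homologyMap
    ((Pf.mapHomologicalComplex (ComplexShape.up ℕ)).map (αCx α R).hom) q), h, isIso_comp_right_iff]

end GenPaste

open EtLimit (fstE)

variable {T' T S Y' Y X : Scheme.{u}} (a : T' ⟶ T) (b : T ⟶ S) (f : X ⟶ S) (c : Y ⟶ T) (a' : Y' ⟶ Y) (b' : Y ⟶ X)
  (e : Y' ⟶ T') (w₁ : e ≫ a = a' ≫ c) (w₂ : c ≫ b = b' ≫ f) (wo : e ≫ (a ≫ b) = (a' ≫ b') ≫ f)

theorem chaseH {C : Type*} [Category* C] {p p₁ p₂ p₃ p₄ p₅ p₆ p₇ q q₁ q₂ n : C} {S₀ : p ⟶ p₁} {M₁ : p₁ ⟶ p₂}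
    {fk : p₂ ⟶ p₃} {fe : p₃ ⟶ p₄} {fg : p₄ ⟶ n} {fk' : p₁ ⟶ p₅} {pl : p₅ ⟶ p₃} {fab : p₅ ⟶ n}
    {A : p ⟶ p₆} {B : p₆ ⟶ p₇} {Cc : p₇ ⟶ p₂} {f₁ : p₇ ⟶ q} {f₂ : q ⟶ p₄} {f₃ : p₆ ⟶ q₁} {sw : q₁ ⟶ q}
    {f₄ : q₁ ⟶ q₂} {f₅ : q₂ ⟶ n} {f₆ : p ⟶ q₂}
    (hL₁ : S₀ ≫ fk' ≫ fab = f₆ ≫ f₅) (hL₂ : M₁ ≫ fk = fk' ≫ pl) (hL₃ : pl ≫ fe ≫ fg = fab)
    (hR₁ : Cc ≫ fk ≫ fe = f₁ ≫ f₂) (hR₂ : B ≫ f₁ = f₃ ≫ sw) (hR₃ : sw ≫ f₂ ≫ fg = f₄ ≫ f₅)
    (hR₄ : A ≫ f₃ ≫ f₄ = f₆) :
    (S₀ ≫ M₁) ≫ fk ≫ fe ≫ fg = (A ≫ B ≫ Cc) ≫ fk ≫ fe ≫ fg := by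
  simp only [Category.assoc]
  rw [reassoc_of% hL₂, hL₃, hL₁, reassoc_of% hR₁, reassoc_of% hR₂, hR₃, reassoc_of% hR₄]

theorem baseChange0_hpaste (M : EtCoh.Ab T') :
    (EtCoh.pull f).map ((EtCoh.pushComp b a).hom.app M) ≫ EtCoh.baseChange0 (a ≫ b) f (a' ≫ b') e wo M =
      EtCoh.baseChange0 b f b' c w₂ ((EtCoh.push a).obj M) ≫
        (EtCoh.push b').map (EtCoh.baseChange0 a c a' e w₁ M) ≫
          (EtCoh.pushComp b' a').hom.app ((EtCoh.pull e).obj M) := by
  refine EtLimit.pull_hom_ext f fun o t => ?_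
  let M' := (EtCoh.pull e).obj M
  let pS := (MorphismProperty.Over.pullbackComp (P := EtCoh.etaleMP) (Q := ⊤) a b).hom.app o
  let pX := (MorphismProperty.Over.pullbackComp (P := EtCoh.etaleMP) (Q := ⊤) a' b').hom.app ((EtCoh.bc f).obj o)
  let s : EtCoh.sect M ((EtCoh.bc a).obj ((EtCoh.bc b).obj o)) := t
  have hL : ((EtCoh.pull f).map ((EtCoh.pushComp b a).hom.app M) ≫
      EtCoh.baseChange0 (a ≫ b) f (a' ≫ b') e wo M).hom.app _ (EtMV.r f (𝟙 _) _ t) =
      EtMV.r e (EtIntegral.bcSwap (a ≫ b) f (a' ≫ b') e wo o ≫ (EtCoh.bc e).map pS) M s := by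
    rw [EtLimit.comp_app_apply, EtMV.r_natural, EtAcycX.bc0_r, ← EtLimit.r_map]
    rfl
  have hR : (EtCoh.baseChange0 b f b' c w₂ ((EtCoh.push a).obj M) ≫
      (EtCoh.push b').map (EtCoh.baseChange0 a c a' e w₁ M) ≫
        (EtCoh.pushComp b' a').hom.app ((EtCoh.pull e).obj M)).hom.app _ (EtMV.r f (𝟙 _) _ t) =
      EtMV.r e (pX ≫ (EtCoh.bc a').map (EtIntegral.bcSwap b f b' c w₂ o) ≫
        EtIntegral.bcSwap a c a' e w₁ ((EtCoh.bc b).obj o)) M s := by
    rw [EtLimit.comp_app_apply, EtLimit.comp_app_apply, EtAcycX.bc0_r]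
    refine Eq.trans (congrArg (M'.obj.map pX.op) ?_) (EtAcycX.map_r e M _ pX s)
    refine Eq.trans ?_ (EtAcycX.map_r e M _ ((EtCoh.bc a').map (EtIntegral.bcSwap b f b' c w₂ o)) s)
    show (EtCoh.baseChange0 a c a' e w₁ M).hom.app (op ((EtCoh.bc b').obj ((EtCoh.bc f).obj o)))
        (((EtCoh.pull c).obj ((EtCoh.push a).obj M)).obj.map (EtIntegral.bcSwap b f b' c w₂ o).op
          (((EtCoh.pullPushAdj c).unit.app ((EtCoh.push a).obj M)).hom.app (op ((EtCoh.bc b).obj o)) s)) = _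
    rw [NatTrans.naturality_apply]
    refine congrArg (M'.obj.map ((EtCoh.bc a').map (EtIntegral.bcSwap b f b' c w₂ o)).op) ?_
    refine Eq.trans ?_ (EtAcycX.bc0_r a c a' e w₁ M ((EtCoh.bc b).obj o) s)
    rw [EtMV.r, op_id, CategoryTheory.Functor.map_id]
    rfl
  refine hL.trans (Eq.trans ?_ hR.symm)
  refine congrArg (fun q => EtMV.r e q M s) ?_
  refine bc₃_hom_ext b a e _ _ ?_
  exact chaseH (EtIntegral.bcSwap_fst (a ≫ b) f (a' ≫ b') e wo o) (EtLimit.bc_map_fst e pS)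
    (EtIntegral.pullbackComp_left_fst a b o)
    (EtIntegral.bcSwap_fst a c a' e w₁ ((EtCoh.bc b).obj o))
    (EtLimit.bc_map_fst a' (EtIntegral.bcSwap b f b' c w₂ o))
    (EtIntegral.bcSwap_fst b f b' c w₂ o)
    (EtIntegral.pullbackComp_left_fst a' b' ((EtCoh.bc f).obj o))

theorem σBC_hpaste (M : EtCoh.Ab T') :
    (EtCoh.pull f).map ((EtCoh.pushComp b a).hom.app M) ≫ (σBC (a ≫ b) f (a' ≫ b') e wo).app M =
      (σBC b f b' c w₂).app ((EtCoh.push a).obj M) ≫ (EtCoh.push b').map ((σBC a c a' e w₁).app M) ≫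
        (EtCoh.pushComp b' a').hom.app ((EtCoh.pull e).obj M) :=
  baseChange0_hpaste a b f c a' b' e w₁ w₂ wo M

theorem push_preservesFiniteLimits {X' S' : Scheme.{u}} (h : X' ⟶ S') : PreservesFiniteLimits (EtCoh.push h) :=
  haveI := (EtCoh.pullPushAdj h).rightAdjoint_preservesLimits
  PreservesLimits.preservesFiniteLimits _

theorem push_preservesHomology {X' S' : Scheme.{u}} (h : X' ⟶ S') [IsIntegralHom h] :
    (EtCoh.push h).PreservesHomology := by
  haveI := push_preservesFiniteLimits h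
  haveI := EtIntegral.push_preservesFiniteColimits h
  infer_instance

theorem push_faithful {X' S' : Scheme.{u}} (h : X' ⟶ S') [IsIntegralHom h] : (EtCoh.push h).Faithful :=
  haveI : ∀ F, Epi ((EtCoh.pullPushAdj h).counit.app F) := EtIntegralBC.epi_counit h
  (EtCoh.pullPushAdj h).faithful_R_of_epi_counit_app

variable [PreservesFiniteLimits (EtCoh.pull e)]

include w₁ w₂ wo in
/-- cancelling an integral base morphism -/
theorem isIso_bcQ_of_comp_integral [IsIntegralHom b] (sq : IsPullback c b' b f) (M : EtCoh.Ab T') (q : ℕ)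
    (ho : IsIso (EtBC.bcQ (a ≫ b) f (a' ≫ b') e wo q M)) : IsIso (EtBC.bcQ a c a' e w₁ q M) := by
  haveI : IsIntegralHom b' := MorphismProperty.of_isPullback sq ‹_›
  haveI := push_preservesHomology b'
  haveI := push_faithful b'
  haveI : ∀ N, IsIso ((σBC b f b' c w₂).app N) := fun N => EtIntegralBC.isIso_baseChange0 sq N
  let R := injectiveResolution M
  let J := injectiveResolution ((EtCoh.pull e).obj M)
  rw [isIso_bcQ_iff (a ≫ b) f (a' ≫ b') e wo M q J (sRes e R J) (sRes_zero e R J),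
    isIso_hpaste_iff (EtCoh.pushComp b a) (EtCoh.pushComp b' a') (σBC a c a' e w₁) (σBC b f b' c w₂)
      (σBC (a ≫ b) f (a' ≫ b') e wo) (σBC_hpaste a b f c a' b' e w₁ w₂ wo) (sRes e R J) q,
    isIso_natMap_iff_of_isIso] at ho
  exact (isIso_bcQ_iff a c a' e w₁ M q J (sRes e R J) (sRes_zero e R J)).2 ho

theorem isIso_bcQ_iff_any {X₁ S₁ X₂ S₂ : Scheme.{u}} (f₁ : X₁ ⟶ S₁) (g₁ : S₂ ⟶ S₁) (f₂ : X₂ ⟶ S₂) (g₂ : X₂ ⟶ X₁)
    (w : g₂ ≫ f₁ = f₂ ≫ g₁) [PreservesFiniteLimits (EtCoh.pull g₂)] {M : EtCoh.Ab X₁} (q : ℕ)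
    (R : InjectiveResolution M) (J : InjectiveResolution ((EtCoh.pull g₂).obj M))
    (s : ((EtCoh.pull g₂).mapHomologicalComplex (ComplexShape.up ℕ)).obj R.cocomplex ⟶ J.cocomplex)
    (hs : (EtCoh.pull g₂).map (R.ι.f 0) ≫ s.f 0 = J.ι.f 0) :
    IsIso (EtBC.bcQ f₁ g₁ f₂ g₂ w q M) ↔ IsIso (HomologicalComplex.homologyMap (natMap (σBC f₁ g₁ f₂ g₂ w) s) q) := by
  let a := InjectiveResolution.homotopyEquiv (injectiveResolution M) R
  rw [← isIso_natMap_comp_homotopyEquiv (σBC f₁ g₁ f₂ g₂ w) a s q]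
  refine isIso_bcQ_iff f₁ g₁ f₂ g₂ w M q J _ ?_
  have h := congrArg (fun k => k.f 0) (InjectiveResolution.homotopyEquiv_hom_ι (injectiveResolution M) R)
  simp only [HomologicalComplex.comp_f] at h
  rw [HomologicalComplex.comp_f, Functor.mapHomologicalComplex_map_f, ← Functor.map_comp_assoc]
  erw [h]
  exact hs

/-- the image of a resolution by an exact functor preserving injectives -/
def resMap {A : Type u₁} [Category.{v₁} A] [Abelian A] {B : Type u₂} [Category.{v₂} B] [Abelian B]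
    (G : A ⥤ B) [G.Additive] [G.PreservesHomology] [G.PreservesInjectiveObjects] {M : A}
    (R : InjectiveResolution M) : InjectiveResolution (G.obj M) where
  cocomplex := (G.mapHomologicalComplex (ComplexShape.up ℕ)).obj R.cocomplex
  injective n := G.injective_obj (R.cocomplex.X n)
  ι := RDer.mapAug G R.ι

theorem resMap_ι {A : Type u₁} [Category.{v₁} A] [Abelian A] {B : Type u₂} [Category.{v₂} B] [Abelian B]
    (G : A ⥤ B) [G.Additive] [G.PreservesHomology] [G.PreservesInjectiveObjects] {M : A}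
    (R : InjectiveResolution M) : (resMap G R).ι.f 0 = G.map (R.ι.f 0) :=
  mapAug_f_zero (P' := G) R.ι

include w₁ w₂ wo in
/-- a composite square with an integral first morphism computes the base change of a direct image -/
theorem isIso_bcQ_push_iff [IsIntegralHom a] (sq : IsPullback e a' a c) [PreservesFiniteLimits (EtCoh.pull c)]
    [PreservesFiniteLimits (EtCoh.pull a)] [PreservesFiniteLimits (EtCoh.pull a')] (M : EtCoh.Ab T') (q : ℕ) :
    IsIso (EtBC.bcQ (a ≫ b) f (a' ≫ b') e wo q M) ↔ IsIso (EtBC.bcQ b f b' c w₂ q ((EtCoh.push a).obj M)) := by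
  haveI : IsIntegralHom a' := MorphismProperty.of_isPullback sq ‹_›
  haveI := push_preservesHomology a
  haveI := push_preservesHomology a'
  haveI := EtMV.push_preservesInjective a
  haveI := EtMV.push_preservesInjective a'
  haveI : ∀ N, IsIso ((σBC a c a' e w₁).app N) := fun N => EtIntegralBC.isIso_baseChange0 sq N
  let R := injectiveResolution M
  let J := injectiveResolution ((EtCoh.pull e).obj M)
  let i := asIso ((σBC a c a' e w₁).app M)
  let J₂ := resOfIso i (resMap (EtCoh.push a') J)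
  have hs : (EtCoh.pull c).map ((resMap (EtCoh.push a) R).ι.f 0) ≫ (natMap (σBC a c a' e w₁) (sRes e R J)).f 0 =
      J₂.ι.f 0 := by
    rw [resMap_ι, resOfIso_ι]
    erw [resMap_ι]
    show (EtCoh.pull c).map ((EtCoh.push a).map (R.ι.f 0)) ≫ (σBC a c a' e w₁).app _ ≫
      (EtCoh.push a').map ((sRes e R J).f 0) = (σBC a c a' e w₁).app M ≫ _
    refine ((σBC a c a' e w₁).naturality_assoc (R.ι.f 0) _).trans (congrArg (_ ≫ ·) ?_)
    rw [Functor.comp_map, ← Functor.map_comp]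
    exact congrArg (EtCoh.push a').map (sRes_zero e R J)
  rw [isIso_bcQ_iff (a ≫ b) f (a' ≫ b') e wo M q J (sRes e R J) (sRes_zero e R J),
    isIso_hpaste_iff (EtCoh.pushComp b a) (EtCoh.pushComp b' a') (σBC a c a' e w₁) (σBC b f b' c w₂)
      (σBC (a ≫ b) f (a' ≫ b') e wo) (σBC_hpaste a b f c a' b' e w₁ w₂ wo) (sRes e R J) q]
  exact (isIso_bcQ_iff_any b f b' c w₂ q (resMap (EtCoh.push a) R) J₂ (natMap (σBC a c a' e w₁) (sRes e R J)) hs).symm

end Groth.Agent.EtBCQ
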