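import Mathlib.CategoryTheory.Adjunction.Unique
import Mathlib.CategoryTheory.Adjunction.Basic

/-! Pasting of mates. -/

set_option autoImplicit false
set_option backward.isDefEq.respectTransparency false
set_option backward.isDefEq.respectTransparency.types false

universe v₁ v₂ v₃ v₄ v₅ v₆ u₁ u₂ u₃ u₄ u₅ u₆

open CategoryTheory

noncomputable section

namespace Groth.Agent.EtBCQ

variable {A : Type u₁} [Category.{v₁} A] {B : Type u₂} [Category.{v₂} B] {A₁ : Type u₃} [Category.{v₃} A₁]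
  {B₁ : Type u₄} [Category.{v₄} B₁] {A₂ : Type u₅} [Category.{v₅} A₂] {B₂ : Type u₆} [Category.{v₆} B₂]
  {F₀ : A ⥤ B} {H : A₁ ⥤ B₁} {J : A₂ ⥤ B₂}
  {Pf : B ⥤ B₁} {Gf : B₁ ⥤ B} (af : Pf ⊣ Gf) {Pi : B₁ ⥤ B₂} {Gi : B₂ ⥤ B₁} (ai : Pi ⊣ Gi)
  {Pe : A ⥤ A₁} {Ge : A₁ ⥤ A} (ae : Pe ⊣ Ge) {Pk : A₁ ⥤ A₂} {Gk : A₂ ⥤ A₁} (ak : Pk ⊣ Gk)
  {Po : B ⥤ B₂} {Go : B₂ ⥤ B} (ao : Po ⊣ Go) {Po' : A ⥤ A₂} {Go' : A₂ ⥤ A} (ao' : Po' ⊣ Go')
  (α : Gi ⋙ Gf ≅ Go) (α' : Gk ⋙ Ge ≅ Go')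
  (c₁ : Ge ⋙ F₀ ≅ H ⋙ Gf) (c₂ : Gk ⋙ H ≅ J ⋙ Gi) (co : Go' ⋙ F₀ ≅ J ⋙ Go)
  (σ₁ : F₀ ⋙ Pf ⟶ Pe ⋙ H) (σ₂ : H ⋙ Pi ⟶ Pk ⋙ J) (σo : F₀ ⋙ Po ⟶ Po' ⋙ J)
  (h₁ : ∀ M, af.homEquiv _ _ (σ₁.app M) = F₀.map (ae.unit.app M) ≫ c₁.hom.app (Pe.obj M))
  (h₂ : ∀ M, ai.homEquiv _ _ (σ₂.app M) = H.map (ak.unit.app M) ≫ c₂.hom.app (Pk.obj M))
  (ho : ∀ M, ao.homEquiv _ _ (σo.app M) = F₀.map (ao'.unit.app M) ≫ co.hom.app (Po'.obj M))
  (hc : ∀ M, F₀.map (α'.hom.app M) ≫ co.hom.app M =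
    c₁.hom.app (Gk.obj M) ≫ Gf.map (c₂.hom.app M) ≫ α.hom.app (J.obj M))

include h₁ h₂ ho hc in
theorem paste (M : A) :
    σo.app M = (ao.leftAdjointUniq ((af.comp ai).ofNatIsoRight α)).hom.app (F₀.obj M) ≫
      Pi.map (σ₁.app M) ≫ σ₂.app (Pe.obj M) ≫
      J.map ((ao'.leftAdjointUniq ((ae.comp ak).ofNatIsoRight α')).inv.app M) := by
  refine (ao.homEquiv (F₀.obj M) (J.obj (Po'.obj M))).injective ?_
  refine (ho M).trans (Eq.symm ?_)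
  rw [Adjunction.homEquiv_unit, Functor.map_comp]
  erw [Adjunction.unit_leftAdjointUniq_hom_app_assoc]
  have hu : ∀ N, ((af.comp ai).ofNatIsoRight α).unit.app N =
      af.unit.app N ≫ Gf.map (ai.unit.app (Pf.obj N)) ≫ α.hom.app (Pi.obj (Pf.obj N)) := fun N => by
    rw [← Adjunction.homEquiv_id, Adjunction.homEquiv_ofNatIsoRight_apply]
    rw [Adjunction.homEquiv_id, Adjunction.comp_unit_app]
    exact Category.assoc _ _ _
  have hu' : ∀ N, ((ae.comp ak).ofNatIsoRight α').unit.app N =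
      ae.unit.app N ≫ Ge.map (ak.unit.app (Pe.obj N)) ≫ α'.hom.app (Pk.obj (Pe.obj N)) := fun N => by
    rw [← Adjunction.homEquiv_id, Adjunction.homEquiv_ofNatIsoRight_apply]
    rw [Adjunction.homEquiv_id, Adjunction.comp_unit_app]
    exact Category.assoc _ _ _
  have huo : ao'.unit.app M = ((ae.comp ak).ofNatIsoRight α').unit.app M ≫
      Go'.map ((ao'.leftAdjointUniq ((ae.comp ak).ofNatIsoRight α')).inv.app M) := by
    rw [← Adjunction.unit_leftAdjointUniq_hom_app ao' ((ae.comp ak).ofNatIsoRight α'), Category.assoc,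
      ← Functor.map_comp, Iso.hom_inv_id_app, CategoryTheory.Functor.map_id]
    exact (Category.comp_id _).symm
  rw [hu, Category.assoc, Category.assoc]
  have n₁ : α.hom.app (Pi.obj (Pf.obj (F₀.obj M))) ≫ Go.map (Pi.map (σ₁.app M)) =
      Gf.map (Gi.map (Pi.map (σ₁.app M))) ≫ α.hom.app _ := (α.hom.naturality _).symm
  have n₂ : ∀ {a b : B₂} (φ : a ⟶ b), α.hom.app a ≫ Go.map φ = Gf.map (Gi.map φ) ≫ α.hom.app b :=
    fun φ => (α.hom.naturality φ).symm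
  simp only [Functor.map_comp, ← Category.assoc]
  simp only [Category.assoc]
  erw [reassoc_of% n₁]
  rw [← Functor.map_comp_assoc]
  erw [← ai.unit.naturality (σ₁.app M)]
  rw [Functor.map_comp, Category.assoc, Functor.id_map]
  rw [← reassoc_of% ((h₁ M).symm.trans (af.homEquiv_unit (f := σ₁.app M)))]
  erw [reassoc_of% (n₂ (σ₂.app (Pe.obj M)))]
  rw [← Functor.map_comp_assoc]
  erw [← ai.homEquiv_unit (f := σ₂.app (Pe.obj M)), h₂]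
  rw [Functor.map_comp, Category.assoc]
  erw [← c₁.hom.naturality_assoc]
  rw [huo, hu']
  simp only [Functor.map_comp, Category.assoc]
  refine congrArg (F₀.map _ ≫ ·) (congrArg (F₀.map _ ≫ ·) ?_)
  erw [co.hom.naturality, reassoc_of% (hc _)]
  rfl

end Groth.Agent.EtBCQ
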