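import Groth.Agent.EtBCQ.Etale
import Groth.Agent.EtBCQ.PasteGen
import Groth.Agent.EtIntegral.BaseChange
import Groth.Agent.EtLimit.Coherence
import Mathlib.CategoryTheory.Abelian.RightDerived

/-! Pasting of base change maps. -/

set_option autoImplicit false
set_option backward.isDefEq.respectTransparency false
set_option backward.isDefEq.respectTransparency.types false
set_option maxHeartbeats 1000000

universe u

open CategoryTheory CategoryTheory.Limits AlgebraicGeometry Opposite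

noncomputable section

namespace Groth.Agent.EtBCQ

open EtLimit (fstE bc_hom_ext bc_map_fst left_snd)
open EtIntegral (bcSwap bcSwap_fst pullbackComp_left_fst)

variable {X S Y T W Z : Scheme.{u}} (f : X ⟶ S) (g : T ⟶ S) (h : Y ⟶ X) (e : Y ⟶ T) (w₁ : e ≫ g = h ≫ f)
  (i : W ⟶ X) (j : Z ⟶ W) (k : Z ⟶ Y) (w₂ : k ≫ h = j ≫ i) (wo : (k ≫ e) ≫ g = j ≫ i ≫ f)

theorem bc₃_hom_ext {o : S.Etale} {o' : Z.Etale} (a b : o' ⟶ (EtCoh.bc k).obj ((EtCoh.bc e).obj ((EtCoh.bc g).obj o)))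
    (H : a.left ≫ fstE k _ ≫ fstE e _ ≫ fstE g o = b.left ≫ fstE k _ ≫ fstE e _ ≫ fstE g o) : a = b := by
  refine bc_hom_ext k a b ?_
  have hs : ∀ c : o' ⟶ (EtCoh.bc k).obj ((EtCoh.bc e).obj ((EtCoh.bc g).obj o)),
      (c.left ≫ fstE k _) ≫ pullback.snd ((EtCoh.bc g).obj o).hom e = o'.hom ≫ k := fun c => by
    rw [← left_snd k c, Category.assoc, Category.assoc]
    exact congrArg (c.left ≫ ·) pullback.condition
  have he : (a.left ≫ fstE k _) ≫ pullback.snd ((EtCoh.bc g).obj o).hom e =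
      (b.left ≫ fstE k _) ≫ pullback.snd ((EtCoh.bc g).obj o).hom e := (hs a).trans (hs b).symm
  refine pullback.hom_ext (f := ((EtCoh.bc g).obj o).hom) (g := e) ?_ he
  refine pullback.hom_ext (f := o.hom) (g := g) ?_ ?_
  · simpa only [Category.assoc] using H
  · have hd : ∀ c : o' ⟶ (EtCoh.bc k).obj ((EtCoh.bc e).obj ((EtCoh.bc g).obj o)),
        ((c.left ≫ fstE k _) ≫ fstE e ((EtCoh.bc g).obj o)) ≫ pullback.snd o.hom g =
          ((c.left ≫ fstE k _) ≫ pullback.snd ((EtCoh.bc g).obj o).hom e) ≫ e := fun c => by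
      rw [Category.assoc (c.left ≫ fstE k _), Category.assoc (c.left ≫ fstE k _)]
      exact congrArg ((c.left ≫ fstE k _) ≫ ·) pullback.condition
    exact (hd a).trans ((congrArg (· ≫ e) he).trans (hd b).symm)

theorem comp_left' {A : Scheme.{u}} {a b c : A.Etale} (p : a ⟶ b) (q : b ⟶ c) : (p ≫ q).left = p.left ≫ q.left := rfl

theorem chaseL {C : Type*} [Category* C] {a b c d m n : C} {s : a ⟶ b} {P : b ⟶ c} {fk : c ⟶ d} {fe : d ⟶ m}
    {fg : m ⟶ n} {fq : b ⟶ m} {fo : a ⟶ n} (h₁ : P ≫ fk ≫ fe = fq) (h₂ : s ≫ fq ≫ fg = fo) :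
    (s ≫ P) ≫ fk ≫ fe ≫ fg = fo := by
  rw [← h₂, ← h₁]; simp only [Category.assoc]

theorem chaseR {C : Type*} [Category* C] {a₀ a₁ a₂ a₃ c₁ c₂ c₃ d₂ d₃ d₄ n : C} {A : a₀ ⟶ a₁} {B : a₁ ⟶ a₂}
    {Cc : a₂ ⟶ a₃} {fk : a₃ ⟶ c₁} {fe : c₁ ⟶ c₂} {fg : c₂ ⟶ n} {fk' : a₂ ⟶ c₃} {sw : c₃ ⟶ c₁} {fh : c₃ ⟶ d₂}
    {ff : d₂ ⟶ n} {fj : a₁ ⟶ d₃} {fi : d₃ ⟶ d₂} {fj' : a₀ ⟶ d₄} {Pl : d₄ ⟶ d₃} {fif : d₄ ⟶ n}
    (h₁ : Cc ≫ fk = fk' ≫ sw) (h₂ : sw ≫ fe ≫ fg = fh ≫ ff) (h₃ : B ≫ fk' ≫ fh = fj ≫ fi)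
    (h₄ : A ≫ fj = fj' ≫ Pl) (h₅ : Pl ≫ fi ≫ ff = fif) :
    (A ≫ B ≫ Cc) ≫ fk ≫ fe ≫ fg = fj' ≫ fif := by
  simp only [Category.assoc]
  rw [reassoc_of% h₁, h₂, reassoc_of% h₃, reassoc_of% h₄, h₅]

/-- the two routes -/
abbrev swapL (o : S.Etale) :=
  bcSwap g (i ≫ f) j (k ≫ e) wo o ≫
    (MorphismProperty.Over.pullbackComp (P := EtCoh.etaleMP) (Q := ⊤) k e).hom.app ((EtCoh.bc g).obj o)

/-- the two routes -/
abbrev swapR (o : S.Etale) :=
  (EtCoh.bc j).map ((MorphismProperty.Over.pullbackComp (P := EtCoh.etaleMP) (Q := ⊤) i f).hom.app o) ≫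
    bcSwap h i j k w₂ ((EtCoh.bc f).obj o) ≫ (EtCoh.bc k).map (bcSwap g f h e w₁ o)

theorem swap_paste (o : S.Etale) : swapL f g e i j k wo o = swapR f g h e w₁ i j k w₂ o := by
  refine bc₃_hom_ext g e k _ _ ?_
  have hL₁ := pullbackComp_left_fst k e ((EtCoh.bc g).obj o)
  have hL₂ := bcSwap_fst g (i ≫ f) j (k ≫ e) wo o
  have hR₁ := bc_map_fst k (bcSwap g f h e w₁ o)
  have hR₂ := bcSwap_fst g f h e w₁ o
  have hR₃ := bcSwap_fst h i j k w₂ ((EtCoh.bc f).obj o)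
  have hR₄ := bc_map_fst j ((MorphismProperty.Over.pullbackComp (P := EtCoh.etaleMP) (Q := ⊤) i f).hom.app o)
  have hR₅ := pullbackComp_left_fst i f o
  exact (chaseL hL₁ hL₂).trans (chaseR hR₁ hR₂ hR₃ hR₄ hR₅).symm

theorem cIso_app_apply {X S X' S' : Scheme.{u}} (f : X ⟶ S) (g : S' ⟶ S) (f' : X' ⟶ S') (g' : X' ⟶ X)
    (w : g' ≫ f = f' ≫ g) (M : EtCoh.Ab X') (o : S.Etale) (s : EtCoh.sect ((EtCoh.push f).obj ((EtCoh.push g').obj M)) o) :
    ((cIso f g f' g' w).hom.app M).hom.app (op o) s = M.obj.map (bcSwap f g f' g' w o).op s := by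
  simp only [bcSwap, op_comp, Functor.map_comp, ConcreteCategory.comp_apply]
  rfl

theorem cIso_paste (M : EtCoh.Ab Z) :
    (EtCoh.push g).map ((EtCoh.pushComp e k).hom.app M) ≫ (cIso g (i ≫ f) j (k ≫ e) wo).hom.app M =
      (cIso g f h e w₁).hom.app ((EtCoh.push k).obj M) ≫ (EtCoh.push f).map ((cIso h i j k w₂).hom.app M) ≫
        (EtCoh.pushComp f i).hom.app ((EtCoh.push j).obj M) := by
  ext o s
  induction o using Opposite.rec with | op o => ?_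
  refine Eq.trans (cIso_app_apply g (i ≫ f) j (k ≫ e) wo M o _) (Eq.trans ?_
    (congrArg (fun t => M.obj.map ((EtCoh.bc j).map
      ((MorphismProperty.Over.pullbackComp (P := EtCoh.etaleMP) (Q := ⊤) i f).hom.app o)).op t)
      ((cIso_app_apply h i j k w₂ M ((EtCoh.bc f).obj o) _).trans (congrArg _
        (cIso_app_apply g f h e w₁ ((EtCoh.push k).obj M) o s)))).symm)
  change M.obj.map _ (M.obj.map _ s) = M.obj.map _ (M.obj.map _ (M.obj.map _ s))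
  simp only [← ConcreteCategory.comp_apply, ← Functor.map_comp, ← op_comp]
  exact congrArg (fun r => M.obj.map r.op s) (swap_paste f g h e w₁ i j k w₂ wo o)

end Groth.Agent.EtBCQ
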