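import Mathlib

/-! Fibre products of systems of schemes and their limits. -/

set_option autoImplicit false
set_option backward.isDefEq.respectTransparency false
set_option backward.isDefEq.respectTransparency.types false
set_option linter.style.haveILetI false
set_option linter.unusedVariables false

universe u v

open CategoryTheory CategoryTheory.Limits AlgebraicGeometry

noncomputable section

namespace Groth.Agent.EtBCQ

section General

variable {I : Type*} [Category* I] {C : Type*} [Category* C] [HasPullbacks C] {DT DS DB : I ⥤ C}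
  (α : DT ⟶ DS) (β : DB ⟶ DS)

/-- the fibre product of two systems over a third -/
def pbSys : I ⥤ C where
  obj a := pullback (α.app a) (β.app a)
  map {a b} m := pullback.map _ _ _ _ (DT.map m) (DB.map m) (DS.map m) (α.naturality m).symm (β.naturality m).symm
  map_id a := by apply pullback.hom_ext <;> simp
  map_comp m n := by
    apply pullback.hom_ext <;>
      simp only [pullback.map, Category.assoc, pullback.lift_fst, pullback.lift_fst_assoc, pullback.lift_snd,
        pullback.lift_snd_assoc, DT.map_comp, DB.map_comp]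

/-- first projection -/
def pbFst : pbSys α β ⟶ DT where
  app a := pullback.fst (α.app a) (β.app a)
  naturality a b m := pullback.lift_fst _ _ _

/-- second projection -/
def pbSnd : pbSys α β ⟶ DB where
  app a := pullback.snd (α.app a) (β.app a)
  naturality a b m := pullback.lift_snd _ _ _

theorem pbCond (a : I) : (pbFst α β).app a ≫ α.app a = (pbSnd α β).app a ≫ β.app a := pullback.condition

theorem pbIsPullback (a : I) : IsPullback ((pbFst α β).app a) ((pbSnd α β).app a) (α.app a) (β.app a) :=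
  IsPullback.of_hasPullback _ _

theorem pb_ext {a : I} {W : C} {f g : W ⟶ (pbSys α β).obj a}
    (h₁ : f ≫ (pbFst α β).app a = g ≫ (pbFst α β).app a) (h₂ : f ≫ (pbSnd α β).app a = g ≫ (pbSnd α β).app a) :
    f = g :=
  (pbIsPullback α β a).hom_ext h₁ h₂

variable {cT : Cone DT} {cS : Cone DS} {cB : Cone DB} (g : cT.pt ⟶ cS.pt) (b : cB.pt ⟶ cS.pt)
  (hg : ∀ a, g ≫ cS.π.app a = cT.π.app a ≫ α.app a) (hb : ∀ a, b ≫ cS.π.app a = cB.π.app a ≫ β.app a)
  {P : C} (pT : P ⟶ cT.pt) (pB : P ⟶ cB.pt) (w : pT ≫ g = pB ≫ b)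

/-- the cone with vertex a fibre product of the limits -/
def pbCone : Cone (pbSys α β) where
  pt := P
  π :=
    { app := fun a => (pbIsPullback α β a).lift (pT ≫ cT.π.app a) (pB ≫ cB.π.app a)
        (by rw [Category.assoc, Category.assoc, ← hg, ← hb, reassoc_of% w])
      naturality := fun a a' m => by
        refine (Category.id_comp _).trans (pb_ext α β ?_ ?_)
        · refine (IsPullback.lift_fst _ _ _ _).trans (Eq.trans ?_ (Category.assoc _ _ _).symm)
          refine Eq.trans ?_ (congrArg (_ ≫ ·) ((pbFst α β).naturality m)).symm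
          rw [IsPullback.lift_fst_assoc, Category.assoc, cT.w]
        · refine (IsPullback.lift_snd _ _ _ _).trans (Eq.trans ?_ (Category.assoc _ _ _).symm)
          refine Eq.trans ?_ (congrArg (_ ≫ ·) ((pbSnd α β).naturality m)).symm
          rw [IsPullback.lift_snd_assoc, Category.assoc, cB.w] }

theorem pbCone_fst (a : I) :
    (pbCone α β g b hg hb pT pB w).π.app a ≫ (pbFst α β).app a = pT ≫ cT.π.app a :=
  IsPullback.lift_fst _ _ _ _

theorem pbCone_snd (a : I) :
    (pbCone α β g b hg hb pT pB w).π.app a ≫ (pbSnd α β).app a = pB ≫ cB.π.app a :=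
  IsPullback.lift_snd _ _ _ _

theorem nonempty_isLimit_pbCone (hT : IsLimit cT) (hS : IsLimit cS) (hB : IsLimit cB)
    (H : IsPullback pT pB g b) : Nonempty (IsLimit (pbCone α β g b hg hb pT pB H.w)) := by
  let sT : Cone (pbSys α β) → Cone DT := fun s => (Cone.postcompose (pbFst α β)).obj s
  let sB : Cone (pbSys α β) → Cone DB := fun s => (Cone.postcompose (pbSnd α β)).obj s
  have hw : ∀ s : Cone (pbSys α β), hT.lift (sT s) ≫ g = hB.lift (sB s) ≫ b := fun s => hS.hom_ext fun a => by
    rw [Category.assoc, hg, ← Category.assoc, hT.fac, Category.assoc, hb, ← Category.assoc, hB.fac]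
    show (s.π.app a ≫ (pbFst α β).app a) ≫ α.app a = (s.π.app a ≫ (pbSnd α β).app a) ≫ β.app a
    rw [Category.assoc, Category.assoc, pbCond]
  refine ⟨{
    lift := fun s => H.lift (hT.lift (sT s)) (hB.lift (sB s)) (hw s)
    fac := fun s a => pb_ext α β ?_ ?_
    uniq := fun s m hm => H.hom_ext (hT.hom_ext fun a => ?_) (hB.hom_ext fun a => ?_) }⟩
  · refine (Category.assoc _ _ _).trans ((congrArg (H.lift _ _ (hw s) ≫ ·) (pbCone_fst α β g b hg hb pT pB H.w a)).trans
      ((Category.assoc _ _ _).symm.trans ((congrArg (· ≫ cT.π.app a) (H.lift_fst _ _ _)).trans (hT.fac (sT s) a))))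
  · refine (Category.assoc _ _ _).trans ((congrArg (H.lift _ _ (hw s) ≫ ·) (pbCone_snd α β g b hg hb pT pB H.w a)).trans
      ((Category.assoc _ _ _).symm.trans ((congrArg (· ≫ cB.π.app a) (H.lift_snd _ _ _)).trans (hB.fac (sB s) a))))
  · rw [IsPullback.lift_fst, hT.fac]
    refine (Category.assoc _ _ _).trans ((congrArg (m ≫ ·) (pbCone_fst α β g b hg hb pT pB H.w a)).symm.trans
      ((Category.assoc _ _ _).symm.trans (congrArg (· ≫ (pbFst α β).app a) (hm a))))
  · rw [IsPullback.lift_snd, hB.fac]
    refine (Category.assoc _ _ _).trans ((congrArg (m ≫ ·) (pbCone_snd α β g b hg hb pT pB H.w a)).symm.trans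
      ((Category.assoc _ _ _).symm.trans (congrArg (· ≫ (pbSnd α β).app a) (hm a))))

variable {DB' : I ⥤ C} {β' : DB' ⟶ DS} (γ : DB' ⟶ DB) (hγ : γ ≫ β = β')

/-- functoriality in the base -/
def pbMap : pbSys α β' ⟶ pbSys α β where
  app a := (pbIsPullback α β a).lift ((pbFst α β').app a) ((pbSnd α β').app a ≫ γ.app a)
    (by subst hγ; rw [Category.assoc]; exact pbCond α (γ ≫ β) a)
  naturality a a' m := by
    refine pb_ext α β ?_ ?_
    · simp only [Category.assoc, (pbFst α β).naturality, IsPullback.lift_fst, IsPullback.lift_fst_assoc]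
      exact (pbFst α β').naturality m
    · simp only [Category.assoc, (pbSnd α β).naturality, IsPullback.lift_snd, IsPullback.lift_snd_assoc]
      rw [← γ.naturality, ← Category.assoc, (pbSnd α β').naturality, Category.assoc]

theorem pbMap_fst (a : I) : (pbMap α β γ hγ).app a ≫ (pbFst α β).app a = (pbFst α β').app a :=
  IsPullback.lift_fst _ _ _ _

theorem pbMap_snd (a : I) : (pbMap α β γ hγ).app a ≫ (pbSnd α β).app a = (pbSnd α β').app a ≫ γ.app a :=
  IsPullback.lift_snd _ _ _ _

end General

section Schemes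

theorem isAffineHom_pullback_map {A B S A' B' S' : Scheme.{u}} (f : A ⟶ S) (g : B ⟶ S) (f' : A' ⟶ S') (g' : B' ⟶ S')
    (i₁ : A ⟶ A') (i₂ : B ⟶ B') (i₃ : S ⟶ S') (e₁ : f ≫ i₃ = i₁ ≫ f') (e₂ : g ≫ i₃ = i₂ ≫ g')
    [IsAffineHom i₁] [IsAffineHom i₂] [IsSeparated i₃] :
    IsAffineHom (pullback.map f g f' g' i₁ i₂ i₃ e₁ e₂) := by
  haveI : IsAffineHom (pullback.map (f ≫ i₃) (g ≫ i₃) f' g' i₁ i₂ (𝟙 S') ((Category.comp_id _).trans e₁)
      ((Category.comp_id _).trans e₂)) :=
    MorphismProperty.pullbackMap (P := @IsAffineHom) ‹_› ‹_› e₁ e₂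
  have h : pullback.map f g f' g' i₁ i₂ i₃ e₁ e₂ = pullback.mapDesc f g i₃ ≫
      pullback.map (f ≫ i₃) (g ≫ i₃) f' g' i₁ i₂ (𝟙 S') ((Category.comp_id _).trans e₁)
        ((Category.comp_id _).trans e₂) := by
    apply pullback.hom_ext <;>
      simp only [pullback.map, pullback.mapDesc, Category.assoc, pullback.lift_fst, pullback.lift_fst_assoc,
        pullback.lift_snd, pullback.lift_snd_assoc, Category.id_comp]
  rw [h]
  infer_instance

theorem isAffineHom_pbSys_map {I : Type*} [Category* I] {DT DS DB : I ⥤ Scheme.{u}} (α : DT ⟶ DS) (β : DB ⟶ DS)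
    {a b : I} (m : a ⟶ b) [IsAffineHom (DT.map m)] [IsAffineHom (DB.map m)] [IsSeparated (DS.map m)] :
    IsAffineHom ((pbSys α β).map m) :=
  isAffineHom_pullback_map (α.app a) (β.app a) (α.app b) (β.app b) (DT.map m) (DB.map m) (DS.map m)
    (α.naturality m).symm (β.naturality m).symm

theorem qcqs_pbSys {I : Type*} [Category* I] {DT DS DB : I ⥤ Scheme.{u}} (α : DT ⟶ DS) (β : DB ⟶ DS) (a : I)
    [QuasiCompact (α.app a)] [QuasiSeparated (α.app a)] [CompactSpace (DB.obj a)] [QuasiSeparatedSpace (DB.obj a)] :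
    CompactSpace ((pbSys α β).obj a) ∧ QuasiSeparatedSpace ((pbSys α β).obj a) := by
  haveI : QuasiCompact ((pbSnd α β).app a) :=
    MorphismProperty.of_isPullback (P := @QuasiCompact) (pbIsPullback α β a) ‹_›
  haveI : QuasiSeparated ((pbSnd α β).app a) :=
    MorphismProperty.of_isPullback (P := @QuasiSeparated) (pbIsPullback α β a) ‹_›
  exact ⟨QuasiCompact.compactSpace_of_compactSpace ((pbSnd α β).app a),
    quasiSeparatedSpace_of_quasiSeparated ((pbSnd α β).app a)⟩

end Schemes

end Groth.Agent.EtBCQ
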