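import Groth.Agent.EtLimit.Systems
import Groth.Agent.EtCohDesc.Retract
import Mathlib

/-! Inverse images of systems of sheaves along morphisms of systems of schemes. -/

set_option autoImplicit false
set_option backward.isDefEq.respectTransparency false
set_option backward.isDefEq.respectTransparency.types false
set_option maxHeartbeats 1000000
set_option linter.style.haveILetI false
set_option linter.overlappingInstances false
set_option linter.unusedSectionVars false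
set_option linter.auxLemma false

universe u

open CategoryTheory CategoryTheory.Limits CategoryTheory.Abelian AlgebraicGeometry Opposite

noncomputable section

namespace Groth.Agent.EtBCQ

attribute [local instance 100000] EtCoh.H._proof_1 Groth.Agent.EtMV.hext
attribute [local instance 200000] Groth.Agent.EtMV.hextAb

open EtLimit (ψh ψh_natural ψh_assoc ψh_comp_trans ψh_pullTrans uπ uπ_w)

section Coherence

instance isIso_ψh {W Y X : Scheme.{u}} (p : W ⟶ Y) (q : Y ⟶ X) (k : W ⟶ X) (w : p ≫ q = k) (G : EtCoh.Ab X) :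
    IsIso (ψh p q k w G) :=
  inferInstanceAs (IsIso ((EtMV.ψ p q k w).hom.app G))

theorem pullTrans_ψh {W Y X : Scheme.{u}} (p : W ⟶ Y) (q : Y ⟶ X) (k : W ⟶ X) (w : p ≫ q = k) (G : EtCoh.Ab X) :
    (EtCore.pullCongr w.symm ≪≫ EtCore.pullComp p q).hom.app G ≫ ψh p q k w G = 𝟙 _ := by
  rw [← cancel_epi (ψh p q k w G), ← Category.assoc, ψh_pullTrans, Category.id_comp, Category.comp_id]

theorem eq_pullTrans_comp {W Y X : Scheme.{u}} (p : W ⟶ Y) (q : Y ⟶ X) (k : W ⟶ X) (w : p ≫ q = k)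
    {G : EtCoh.Ab X} {H : EtCoh.Ab W} (a : (EtCoh.pull p).obj ((EtCoh.pull q).obj G) ⟶ H)
    (b : (EtCoh.pull k).obj G ⟶ H) (h : a = ψh p q k w G ≫ b) :
    b = (EtCore.pullCongr w.symm ≪≫ EtCore.pullComp p q).hom.app G ≫ a := by
  rw [h, ← Category.assoc, pullTrans_ψh, Category.id_comp]

variable {W Y Y' X : Scheme.{u}}

/-- the two iterated inverse images along a commutative square -/
def sqh (p : W ⟶ Y) (q : Y ⟶ X) (p' : W ⟶ Y') (q' : Y' ⟶ X) (w : p ≫ q = p' ≫ q') (G : EtCoh.Ab X) :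
    (EtCoh.pull p).obj ((EtCoh.pull q).obj G) ⟶ (EtCoh.pull p').obj ((EtCoh.pull q').obj G) :=
  ψh p q (p ≫ q) rfl G ≫ inv (ψh p' q' (p ≫ q) w.symm G)

instance isIso_sqh (p : W ⟶ Y) (q : Y ⟶ X) (p' : W ⟶ Y') (q' : Y' ⟶ X) (w : p ≫ q = p' ≫ q') (G : EtCoh.Ab X) :
    IsIso (sqh p q p' q' w G) := by
  unfold sqh; infer_instance

theorem sqh_ψh (p : W ⟶ Y) (q : Y ⟶ X) (p' : W ⟶ Y') (q' : Y' ⟶ X) (w : p ≫ q = p' ≫ q') (G : EtCoh.Ab X)
    (m : W ⟶ X) (h : p ≫ q = m) (h' : p' ≫ q' = m) :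
    sqh p q p' q' w G ≫ ψh p' q' m h' G = ψh p q m h G := by
  subst h
  rw [sqh, Category.assoc, IsIso.inv_hom_id, Category.comp_id]

theorem sqh_natural (p : W ⟶ Y) (q : Y ⟶ X) (p' : W ⟶ Y') (q' : Y' ⟶ X) (w : p ≫ q = p' ≫ q') {G G' : EtCoh.Ab X}
    (φ : G ⟶ G') : (EtCoh.pull p).map ((EtCoh.pull q).map φ) ≫ sqh p q p' q' w G' =
      sqh p q p' q' w G ≫ (EtCoh.pull p').map ((EtCoh.pull q').map φ) := by
  rw [← cancel_mono (ψh p' q' (p ≫ q) w.symm G'), Category.assoc, Category.assoc, sqh_ψh (h := rfl), ψh_natural,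
    ψh_natural, ← Category.assoc (sqh _ _ _ _ _ _), sqh_ψh (h := rfl)]

end Coherence

section Pmap

variable {U' V' W' U V W : Scheme.{u}}

/-- the inverse image of a map of sheaves over a morphism, along a commutative square -/
def pmap (p' : U' ⟶ V') (αU : U' ⟶ U) (αV : V' ⟶ V) (p : U ⟶ V) (w : p' ≫ αV = αU ≫ p) {F : EtCoh.Ab V}
    {G : EtCoh.Ab U} (β : (EtCoh.pull p).obj F ⟶ G) :
    (EtCoh.pull p').obj ((EtCoh.pull αV).obj F) ⟶ (EtCoh.pull αU).obj G :=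
  sqh p' αV αU p w F ≫ (EtCoh.pull αU).map β

theorem pmap_postcomp (p' : U' ⟶ V') (αU : U' ⟶ U) (αV : V' ⟶ V) (p : U ⟶ V) (w : p' ≫ αV = αU ≫ p)
    {F : EtCoh.Ab V} {G G' : EtCoh.Ab U} (β : (EtCoh.pull p).obj F ⟶ G) (γ : G ⟶ G') :
    pmap p' αU αV p w (β ≫ γ) = pmap p' αU αV p w β ≫ (EtCoh.pull αU).map γ := by
  rw [pmap, pmap, Functor.map_comp, Category.assoc]

instance isIso_pmap (p' : U' ⟶ V') (αU : U' ⟶ U) (αV : V' ⟶ V) (p : U ⟶ V) (w : p' ≫ αV = αU ≫ p)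
    {F : EtCoh.Ab V} {G : EtCoh.Ab U} (β : (EtCoh.pull p).obj F ⟶ G) [IsIso β] :
    IsIso (pmap p' αU αV p w β) := by
  unfold pmap; infer_instance

theorem sqh_comp (αU : U' ⟶ U) (αV : V' ⟶ V) (αW : W' ⟶ W) (p' : U' ⟶ V') (q' : V' ⟶ W') (r' : U' ⟶ W')
    (p : U ⟶ V) (q : V ⟶ W) (r : U ⟶ W) (hr' : p' ≫ q' = r') (hr : p ≫ q = r) (wp : p' ≫ αV = αU ≫ p)
    (wq : q' ≫ αW = αV ≫ q) (wr : r' ≫ αW = αU ≫ r) (F : EtCoh.Ab W) :
    (EtCoh.pull p').map (sqh q' αW αV q wq F) ≫ sqh p' αV αU p wp ((EtCoh.pull q).obj F) ≫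
        (EtCoh.pull αU).map (ψh p q r hr F) =
      ψh p' q' r' hr' ((EtCoh.pull αW).obj F) ≫ sqh r' αW αU r wr F := by
  have h1 : p' ≫ q' ≫ αW = αU ≫ r := by rw [← Category.assoc, hr', wr]
  have h2 : (αU ≫ p) ≫ q = αU ≫ r := by rw [Category.assoc, hr]
  rw [← cancel_mono (ψh αU r (αU ≫ r) rfl F)]
  simp only [Category.assoc]
  rw [sqh_ψh (h := wr) (m := αU ≫ r) (h' := rfl), ψh_assoc αU p q (αU ≫ p) r (αU ≫ r) rfl hr h2 rfl,
    ← Category.assoc (sqh p' αV αU p wp _), sqh_ψh (h := wp) (m := αU ≫ p) (h' := rfl),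
    ← ψh_assoc p' αV q (αU ≫ p) (q' ≫ αW) (αU ≫ r) wp wq.symm h2 h1, ← Category.assoc, ← Functor.map_comp,
    sqh_ψh (h := rfl) (m := q' ≫ αW) (h' := wq.symm), ψh_assoc p' q' αW r' (q' ≫ αW) (αU ≫ r) hr' rfl wr h1]

theorem pmap_comp (αU : U' ⟶ U) (αV : V' ⟶ V) (αW : W' ⟶ W) (p' : U' ⟶ V') (q' : V' ⟶ W') (r' : U' ⟶ W')
    (p : U ⟶ V) (q : V ⟶ W) (r : U ⟶ W) (hr' : p' ≫ q' = r') (hr : p ≫ q = r) (wp : p' ≫ αV = αU ≫ p)
    (wq : q' ≫ αW = αV ≫ q) (wr : r' ≫ αW = αU ≫ r) {F : EtCoh.Ab W} {G : EtCoh.Ab V} {H : EtCoh.Ab U}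
    (ψ : (EtCoh.pull q).obj F ⟶ G) (ν : (EtCoh.pull p).obj G ⟶ H) (μ : (EtCoh.pull r).obj F ⟶ H)
    (h : (EtCoh.pull p).map ψ ≫ ν = ψh p q r hr F ≫ μ) :
    (EtCoh.pull p').map (pmap q' αV αW q wq ψ) ≫ pmap p' αU αV p wp ν =
      ψh p' q' r' hr' ((EtCoh.pull αW).obj F) ≫ pmap r' αU αW r wr μ := by
  rw [pmap, pmap, pmap, Functor.map_comp, Category.assoc, ← Category.assoc ((EtCoh.pull p').map ((EtCoh.pull αV).map ψ)),
    sqh_natural, Category.assoc, ← Functor.map_comp, h, Functor.map_comp, ← Category.assoc, ← Category.assoc,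
    Category.assoc ((EtCoh.pull p').map _), sqh_comp αU αV αW p' q' r' p q r hr' hr wp wq wr, Category.assoc]

theorem pmap_cocycle (αU : U' ⟶ U) (αV : V' ⟶ V) (αW : W' ⟶ W) (p' : U' ⟶ V') (q' : V' ⟶ W') (r' : U' ⟶ W')
    (p : U ⟶ V) (q : V ⟶ W) (r : U ⟶ W) (hr' : p' ≫ q' = r') (hr : p ≫ q = r) (wp : p' ≫ αV = αU ≫ p)
    (wq : q' ≫ αW = αV ≫ q) (wr : r' ≫ αW = αU ≫ r) {F : EtCoh.Ab W} {G : EtCoh.Ab V} {H H' : EtCoh.Ab U}
    (ψ : (EtCoh.pull q).obj F ⟶ G) (ν : (EtCoh.pull p).obj G ⟶ H) (μ : (EtCoh.pull r).obj F ⟶ H') (γ : H' ⟶ H)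
    (e : EtCoh.pull r ≅ EtCoh.pull q ⋙ EtCoh.pull p) (he : e = EtCore.pullCongr hr.symm ≪≫ EtCore.pullComp p q)
    (e' : EtCoh.pull r' ≅ EtCoh.pull q' ⋙ EtCoh.pull p') (he' : e' = EtCore.pullCongr hr'.symm ≪≫ EtCore.pullComp p' q')
    (h : μ ≫ γ = e.hom.app F ≫ (EtCoh.pull p).map ψ ≫ ν) :
    pmap r' αU αW r wr μ ≫ (EtCoh.pull αU).map γ =
      e'.hom.app ((EtCoh.pull αW).obj F) ≫
        (EtCoh.pull p').map (pmap q' αV αW q wq ψ) ≫ pmap p' αU αV p wp ν := by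
  subst he he'
  rw [← pmap_postcomp]
  exact eq_pullTrans_comp p' q' r' hr' _ _
    (pmap_comp αU αV αW p' q' r' p q r hr' hr wp wq wr ψ ν _ (ψh_comp_trans p q r hr _ _ h))

theorem pmap_cocycle' (αU : U' ⟶ U) (αV : V' ⟶ V) (αW : W' ⟶ W) (p' : U' ⟶ V') (q' : V' ⟶ W') (r' : U' ⟶ W')
    (p : U ⟶ V) (q : V ⟶ W) (r : U ⟶ W) (hr' : p' ≫ q' = r') (hr : p ≫ q = r) (wp : p' ≫ αV = αU ≫ p)
    (wq : q' ≫ αW = αV ≫ q) (wr : r' ≫ αW = αU ≫ r) {F : EtCoh.Ab W} {G : EtCoh.Ab V} {H : EtCoh.Ab U}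
    (ψ : (EtCoh.pull q).obj F ⟶ G) (ν : (EtCoh.pull p).obj G ⟶ H) (μ : (EtCoh.pull r).obj F ⟶ H)
    (e : EtCoh.pull r ≅ EtCoh.pull q ⋙ EtCoh.pull p) (he : e = EtCore.pullCongr hr.symm ≪≫ EtCore.pullComp p q)
    (e' : EtCoh.pull r' ≅ EtCoh.pull q' ⋙ EtCoh.pull p') (he' : e' = EtCore.pullCongr hr'.symm ≪≫ EtCore.pullComp p' q')
    (h : μ = e.hom.app F ≫ (EtCoh.pull p).map ψ ≫ ν) :
    pmap r' αU αW r wr μ =
      e'.hom.app ((EtCoh.pull αW).obj F) ≫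
        (EtCoh.pull p').map (pmap q' αV αW q wq ψ) ≫ pmap p' αU αV p wp ν := by
  subst he he'
  exact eq_pullTrans_comp p' q' r' hr' _ _
    (pmap_comp αU αV αW p' q' r' p q r hr' hr wp wq wr ψ ν _ (ψh_comp_trans p q r hr _ _ h))

end Pmap

section Via

variable {P' Q' P Q U V : Scheme.{u}}

theorem pmap_via (m : P' ⟶ P) (mj : Q' ⟶ Q) (πX : P' ⟶ Q') (πS : P ⟶ Q) (aS : P ⟶ U) (aX : P' ⟶ U) (αS : Q ⟶ V)
    (αX : Q' ⟶ V) (p : U ⟶ V) (hm : m ≫ aS = aX) (hmj : mj ≫ αS = αX) (w : πX ≫ mj = m ≫ πS)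
    (wS : πS ≫ αS = aS ≫ p) (wX : πX ≫ αX = aX ≫ p) {F : EtCoh.Ab V} {G : EtCoh.Ab U}
    (β : (EtCoh.pull p).obj F ⟶ G) :
    sqh πX mj m πS w ((EtCoh.pull αS).obj F) ≫ (EtCoh.pull m).map (pmap πS aS αS p wS β) ≫ ψh m aS aX hm G =
      (EtCoh.pull πX).map (ψh mj αS αX hmj F) ≫ pmap πX aX αX p wX β := by
  have h1 : m ≫ aS ≫ p = aX ≫ p := by rw [← Category.assoc, hm]
  have h2 : (m ≫ πS) ≫ αS = aX ≫ p := by rw [Category.assoc, wS, h1]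
  have key : sqh πX mj m πS w ((EtCoh.pull αS).obj F) ≫ (EtCoh.pull m).map (sqh πS αS aS p wS F) ≫
      ψh m aS aX hm ((EtCoh.pull p).obj F) =
      (EtCoh.pull πX).map (ψh mj αS αX hmj F) ≫ sqh πX αX aX p wX F := by
    rw [← cancel_mono (ψh aX p (aX ≫ p) rfl F)]
    simp only [Category.assoc]
    rw [sqh_ψh (h := wX) (m := aX ≫ p) (h' := rfl), ← ψh_assoc m aS p aX (aS ≫ p) (aX ≫ p) hm rfl rfl h1,
      ← Category.assoc ((EtCoh.pull m).map _), ← Functor.map_comp,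
      sqh_ψh (h := wS) (m := aS ≫ p) (h' := rfl),
      ψh_assoc m πS αS (m ≫ πS) (aS ≫ p) (aX ≫ p) rfl wS h2 h1, ← Category.assoc,
      sqh_ψh (h := w) (m := m ≫ πS) (h' := rfl),
      ← ψh_assoc πX mj αS (m ≫ πS) αX (aX ≫ p) w hmj h2 wX]
  rw [pmap, pmap, Functor.map_comp, Category.assoc, ψh_natural, reassoc_of% key]

end Via

section Cohomology

variable {W Y X : Scheme.{u}}

theorem HpullThen_trans (p : W ⟶ Y) (q : Y ⟶ X) (r : W ⟶ X) (w : p ≫ q = r)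
    [PreservesFiniteLimits (EtCoh.pull p)] [PreservesFiniteLimits (EtCoh.pull q)]
    [PreservesFiniteLimits (EtCoh.pull r)] (F : EtCoh.Ab X) {M : EtCoh.Ab Y} {N : EtCoh.Ab W}
    (α : (EtCoh.pull q).obj F ⟶ M) (β : (EtCoh.pull p).obj M ⟶ N) (γ : (EtCoh.pull r).obj F ⟶ N)
    (h : (EtCoh.pull p).map α ≫ β = ψh p q r w F ≫ γ) (n : ℕ) (x : EtCoh.H X F n) :
    EtLim.HpullThen p M β n (EtLim.HpullThen q F α n x) = EtLim.HpullThen r F γ n x := by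
  have h1 := EtMV.T_T_pull p q r (EtMV.ψ p q r w) (EtCore.pullConst q ℤ).inv (EtCore.pullConst p ℤ).inv
    (EtCore.pullConst r ℤ).inv (EtLimit.pullConst_comp p q r w) n F x
  rw [EtLimit.HpullThen_apply, EtLimit.HpullThen_apply, EtLimit.HpullThen_apply]
  erw [EtMV.T_comp_mk₀]
  rw [Ext.comp_assoc_of_second_deg_zero, Ext.mk₀_comp_mk₀, h, ← Ext.mk₀_comp_mk₀, ← Ext.comp_assoc_of_second_deg_zero]
  exact congrArg (fun z => Ext.comp z (Ext.mk₀ γ) (add_zero n)) h1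

theorem HpullThen_postcomp (p : W ⟶ Y) [PreservesFiniteLimits (EtCoh.pull p)] (F : EtCoh.Ab Y) {M N : EtCoh.Ab W}
    (α : (EtCoh.pull p).obj F ⟶ M) (γ : M ⟶ N) (n : ℕ) (x : EtCoh.H Y F n) :
    EtLim.HpullThen p F (α ≫ γ) n x = Ext.comp (EtLim.HpullThen p F α n x) (Ext.mk₀ γ) (add_zero n) := by
  rw [EtLimit.HpullThen_apply, EtLimit.HpullThen_apply, Ext.comp_assoc_of_second_deg_zero, Ext.mk₀_comp_mk₀]

theorem comp_mk₀_injective {A : Type*} [Category* A] [Abelian A] [HasExt A] {P M N : A} (γ : M ⟶ N) [IsIso γ] {n : ℕ}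
    {x : Ext P M n} (h : x.comp (Ext.mk₀ γ) (add_zero n) = 0) : x = 0 := by
  have h2 := congrArg (fun z => Ext.comp z (Ext.mk₀ (inv γ)) (add_zero n)) h
  simpa using h2

theorem HpullVia_HpullThen {P' Q' P Q U V : Scheme.{u}} (m : P' ⟶ P) (mj : Q' ⟶ Q) (πX : P' ⟶ Q') (πS : P ⟶ Q)
    (aS : P ⟶ U) (aX : P' ⟶ U) (αS : Q ⟶ V) (αX : Q' ⟶ V) (p : U ⟶ V) (hm : m ≫ aS = aX) (hmj : mj ≫ αS = αX)
    (w : πX ≫ mj = m ≫ πS) (wS : πS ≫ αS = aS ≫ p) (wX : πX ≫ αX = aX ≫ p)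
    [PreservesFiniteLimits (EtCoh.pull m)] [PreservesFiniteLimits (EtCoh.pull mj)]
    [PreservesFiniteLimits (EtCoh.pull πX)] [PreservesFiniteLimits (EtCoh.pull πS)]
    {F : EtCoh.Ab V} {G : EtCoh.Ab U} (β : (EtCoh.pull p).obj F ⟶ G) (n : ℕ)
    (y : EtCoh.H Q ((EtCoh.pull αS).obj F) n) :
    EtCore.HpullVia m aS aX hm G n (EtLim.HpullThen πS _ (pmap πS aS αS p wS β) n y) =
      EtLim.HpullThen πX _ (pmap πX aX αX p wX β) n (EtCore.HpullVia mj αS αX hmj F n y) := by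
  haveI := EtPullExact.pull_preservesFiniteLimits (m ≫ πS)
  rw [EtLimit.HpullVia_eq, EtLimit.HpullVia_eq]
  let r := m ≫ πS
  let γ := inv (ψh m πS r rfl ((EtCoh.pull αS).obj F)) ≫ (EtCoh.pull m).map (pmap πS aS αS p wS β) ≫ ψh m aS aX hm G
  refine (HpullThen_trans m πS r rfl _ (pmap πS aS αS p wS β) (ψh m aS aX hm G) γ ?_ n y).trans
    (HpullThen_trans πX mj r w _ (ψh mj αS αX hmj F) (pmap πX aX αX p wX β) γ ?_ n y).symm
  · rw [IsIso.hom_inv_id_assoc]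
  · rw [← pmap_via m mj πX πS aS aX αS αX p hm hmj w wS wX β,
      ← Category.assoc (ψh πX mj r w _)]
    refine congrArg (· ≫ _) ?_
    rw [IsIso.eq_comp_inv, sqh_ψh (h := w) (m := r) (h' := rfl)]

end Cohomology

section System

variable {ι : Type u} [Preorder ι] {D D' : ιᵒᵖ ⥤ Scheme.{u}} {c : Cone D} (c' : Cone D') (α : D' ⟶ D)
  (a : c'.pt ⟶ c.pt) (ha : ∀ j, uπ c' j ≫ α.app j = a ≫ uπ c j)
  (F : ∀ i : ι, EtCoh.Ab (D.obj (op i)))
  (φ : ∀ ⦃i j : ι⦄ (hij : i ≤ j), (EtCoh.pull (D.map (homOfLE hij).op)).obj (F i) ⟶ F j)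
  (hφ : ∀ ⦃i j k : ι⦄ (hij : i ≤ j) (hjk : j ≤ k), φ (hij.trans hjk) =
    (EtLim.pullTrans D hij hjk).hom.app (F i) ≫ (EtCoh.pull (D.map (homOfLE hjk).op)).map (φ hij) ≫ φ hjk)
  (G : ι ⥤ EtCoh.Ab c.pt) (ψ : ∀ i : ι, (EtCoh.pull (uπ c (op i))).obj (F i) ≅ G.obj i)
  (hψ : ∀ ⦃i j : ι⦄ (hij : i ≤ j), (ψ i).hom ≫ G.map (homOfLE hij) =
    (EtLim.pullTransCone D c hij).hom.app (F i) ≫ (EtCoh.pull (uπ c (op j))).map (φ hij) ≫ (ψ j).hom)

/-- pulled back sheaves -/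
abbrev pF (i : ι) : EtCoh.Ab (D'.obj (op i)) := (EtCoh.pull (α.app (op i))).obj (F i)

/-- pulled back transition maps -/
abbrev pφ ⦃i j : ι⦄ (hij : i ≤ j) : (EtCoh.pull (D'.map (homOfLE hij).op)).obj (pF α F i) ⟶ pF α F j :=
  pmap (D'.map (homOfLE hij).op) (α.app (op j)) (α.app (op i)) (D.map (homOfLE hij).op)
    (α.naturality (homOfLE hij).op) (φ hij)

/-- pulled back cocone -/
abbrev pν (i : ι) : (EtCoh.pull (uπ c' (op i))).obj (pF α F i) ⟶ (EtCoh.pull a).obj (colimit G) :=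
  pmap (uπ c' (op i)) a (α.app (op i)) (uπ c (op i)) (ha (op i)) ((ψ i).hom ≫ colimit.ι G i)

/-- pulled back presentation -/
abbrev pψ (i : ι) : (EtCoh.pull (uπ c' (op i))).obj (pF α F i) ≅ (G ⋙ EtCoh.pull a).obj i :=
  asIso (pmap (uπ c' (op i)) a (α.app (op i)) (uπ c (op i)) (ha (op i)) (ψ i).hom)

theorem map_trans_eq (E : ιᵒᵖ ⥤ Scheme.{u}) ⦃i j k : ι⦄ (hij : i ≤ j) (hjk : j ≤ k) :
    E.map (homOfLE hjk).op ≫ E.map (homOfLE hij).op = E.map (homOfLE (hij.trans hjk)).op := by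
  rw [← E.map_comp]; rfl

include hφ in
theorem pφ_cocycle ⦃i j k : ι⦄ (hij : i ≤ j) (hjk : j ≤ k) : pφ α F φ (hij.trans hjk) =
    (EtLim.pullTrans D' hij hjk).hom.app (pF α F i) ≫
      (EtCoh.pull (D'.map (homOfLE hjk).op)).map (pφ α F φ hij) ≫ pφ α F φ hjk :=
  pmap_cocycle' (α.app (op k)) (α.app (op j)) (α.app (op i)) (D'.map (homOfLE hjk).op) (D'.map (homOfLE hij).op)
    (D'.map (homOfLE (hij.trans hjk)).op) (D.map (homOfLE hjk).op) (D.map (homOfLE hij).op)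
    (D.map (homOfLE (hij.trans hjk)).op) (map_trans_eq D' hij hjk) (map_trans_eq D hij hjk)
    (α.naturality (homOfLE hjk).op) (α.naturality (homOfLE hij).op) (α.naturality (homOfLE (hij.trans hjk)).op)
    (φ hij) (φ hjk) (φ (hij.trans hjk)) (EtLim.pullTrans D hij hjk) rfl (EtLim.pullTrans D' hij hjk) rfl (hφ hij hjk)

include hψ in
theorem pψ_compat ⦃i j : ι⦄ (hij : i ≤ j) :
    (pψ c' α a ha F G ψ i).hom ≫ (G ⋙ EtCoh.pull a).map (homOfLE hij) =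
      (EtLim.pullTransCone D' c' hij).hom.app (pF α F i) ≫
        (EtCoh.pull (uπ c' (op j))).map (pφ α F φ hij) ≫ (pψ c' α a ha F G ψ j).hom :=
  pmap_cocycle a (α.app (op j)) (α.app (op i)) (uπ c' (op j)) (D'.map (homOfLE hij).op) (uπ c' (op i))
    (uπ c (op j)) (D.map (homOfLE hij).op) (uπ c (op i)) (uπ_w c' (homOfLE hij).op) (uπ_w c (homOfLE hij).op)
    (ha (op j)) (α.naturality (homOfLE hij).op) (ha (op i)) (φ hij) (ψ j).hom (ψ i).hom (G.map (homOfLE hij))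
    (EtLim.pullTransCone D c hij) rfl (EtLim.pullTransCone D' c' hij) rfl (hψ hij)

variable [Nonempty ι] [IsDirectedOrder ι] (hc' : IsLimit c') [∀ {i j : ιᵒᵖ} (f : i ⟶ j), IsAffineHom (D'.map f)]
  [∀ i, CompactSpace (D'.obj i)] [∀ i, QuasiSeparatedSpace (D'.obj i)]
  [∀ j, PreservesFiniteLimits (EtCoh.pull (uπ c' j))]

include hc' hφ hψ in
theorem sys_surj (n : ℕ) (ξ : EtCoh.H c'.pt ((EtCoh.pull a).obj (colimit G)) n) :
    ∃ (i : ι) (x : EtCoh.H (D'.obj (op i)) (pF α F i) n),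
      EtLim.HpullThen (uπ c' (op i)) (pF α F i) (pν c' α a ha F G ψ i) n x = ξ := by
  haveI := (EtCoh.pullPushAdj a).leftAdjoint_preservesColimits
  let e := preservesColimitIso (EtCoh.pull a) G
  obtain ⟨j, x, hx⟩ := EtLimit.isColim_surj
    (S := EtLimit.colimDatum (pF α F) (pφ α F φ) (G ⋙ EtCoh.pull a) (pψ c' α a ha F G ψ)
      (pψ_compat c' α a ha F φ G ψ hψ)) hc'
    (EtLimit.colimDatum_cocycle _ _ (pφ_cocycle α F φ hφ) _ _ _) (EtLimit.colimDatum_isColim _ _ _ _ _) n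
    (Ext.comp ξ (Ext.mk₀ e.hom) (add_zero n))
  refine ⟨j.unop, x, ?_⟩
  have hν : pν c' α a ha F G ψ j.unop =
      ((pψ c' α a ha F G ψ j.unop).hom ≫ colimit.ι (G ⋙ EtCoh.pull a) j.unop) ≫ e.inv := by
    rw [Category.assoc, ι_preservesColimitIso_inv, asIso_hom]
    exact pmap_postcomp _ _ _ _ _ _ _
  rw [hν, HpullThen_postcomp]
  refine (congrArg (fun z => Ext.comp z (Ext.mk₀ e.inv) (add_zero n)) hx).trans ?_
  simp

include hc' hφ hψ in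
theorem sys_inj [∀ {i j : ιᵒᵖ} (f : i ⟶ j), PreservesFiniteLimits (EtCoh.pull (D'.map f))] (n : ℕ) (i : ι)
    (x : EtCoh.H (D'.obj (op i)) (pF α F i) n)
    (hx : EtLim.HpullThen (uπ c' (op i)) (pF α F i) (pν c' α a ha F G ψ i) n x = 0) :
    ∃ (k : ι) (hik : i ≤ k), EtLim.HpullThen (D'.map (homOfLE hik).op) (pF α F i) (pφ α F φ hik) n x = 0 := by
  haveI := (EtCoh.pullPushAdj a).leftAdjoint_preservesColimits
  let e := preservesColimitIso (EtCoh.pull a) G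
  have hν : pν c' α a ha F G ψ i =
      ((pψ c' α a ha F G ψ i).hom ≫ colimit.ι (G ⋙ EtCoh.pull a) i) ≫ e.inv := by
    rw [Category.assoc, ι_preservesColimitIso_inv, asIso_hom]
    exact pmap_postcomp _ _ _ _ _ _ _
  rw [hν, HpullThen_postcomp] at hx
  obtain ⟨k, b, hb⟩ := EtLimit.isColim_inj
    (S := EtLimit.colimDatum (pF α F) (pφ α F φ) (G ⋙ EtCoh.pull a) (pψ c' α a ha F G ψ)
      (pψ_compat c' α a ha F φ G ψ hψ)) hc'
    (EtLimit.colimDatum_cocycle _ _ (pφ_cocycle α F φ hφ) _ _ _) (EtLimit.colimDatum_isColim _ _ _ _ _) n (op i) x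
    (comp_mk₀_injective e.inv hx)
  exact ⟨k.unop, leOfHom b.unop, hb⟩

end System

section Bijective

variable {ι : Type u} [Preorder ι] [Nonempty ι] [IsDirectedOrder ι] {D DS DX : ιᵒᵖ ⥤ Scheme.{u}} {c : Cone D}
  (cS : Cone DS) (cX : Cone DX) (αS : DS ⟶ D) (αX : DX ⟶ D) (μ : DX ⟶ DS) (hμ : ∀ j, μ.app j ≫ αS.app j = αX.app j)
  (aS : cS.pt ⟶ c.pt) (aX : cX.pt ⟶ c.pt) (haS : ∀ j, uπ cS j ≫ αS.app j = aS ≫ uπ c j)
  (haX : ∀ j, uπ cX j ≫ αX.app j = aX ≫ uπ c j) (m : cX.pt ⟶ cS.pt) (hm : m ≫ aS = aX)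
  (hmπ : ∀ j, uπ cX j ≫ μ.app j = m ≫ uπ cS j)
  (F : ∀ i : ι, EtCoh.Ab (D.obj (op i)))
  (φ : ∀ ⦃i j : ι⦄ (hij : i ≤ j), (EtCoh.pull (D.map (homOfLE hij).op)).obj (F i) ⟶ F j)
  (hφ : ∀ ⦃i j k : ι⦄ (hij : i ≤ j) (hjk : j ≤ k), φ (hij.trans hjk) =
    (EtLim.pullTrans D hij hjk).hom.app (F i) ≫ (EtCoh.pull (D.map (homOfLE hjk).op)).map (φ hij) ≫ φ hjk)
  (G : ι ⥤ EtCoh.Ab c.pt) (ψ : ∀ i : ι, (EtCoh.pull (uπ c (op i))).obj (F i) ≅ G.obj i)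
  (hψ : ∀ ⦃i j : ι⦄ (hij : i ≤ j), (ψ i).hom ≫ G.map (homOfLE hij) =
    (EtLim.pullTransCone D c hij).hom.app (F i) ≫ (EtCoh.pull (uπ c (op j))).map (φ hij) ≫ (ψ j).hom)
  (hcS : IsLimit cS) (hcX : IsLimit cX)
  [∀ {i j : ιᵒᵖ} (f : i ⟶ j), IsAffineHom (DS.map f)] [∀ i, CompactSpace (DS.obj i)] [∀ i, QuasiSeparatedSpace (DS.obj i)]
  [∀ {i j : ιᵒᵖ} (f : i ⟶ j), IsAffineHom (DX.map f)] [∀ i, CompactSpace (DX.obj i)] [∀ i, QuasiSeparatedSpace (DX.obj i)]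
  [PreservesFiniteLimits (EtCoh.pull m)] [∀ j, PreservesFiniteLimits (EtCoh.pull (μ.app j))]

include hμ haS haX hmπ hφ hψ hcS hcX in
/-- restriction maps of systems: bijective on the stages implies bijective in the limit -/
theorem bijective_of_stages (n : ℕ)
    (h : ∀ i : ι, Function.Bijective
      (EtCore.HpullVia (μ.app (op i)) (αS.app (op i)) (αX.app (op i)) (hμ (op i)) (F i) n)) :
    Function.Bijective (EtCore.HpullVia m aS aX hm (colimit G) n) := by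
  haveI : ∀ j, PreservesFiniteLimits (EtCoh.pull (uπ cS j)) := fun j => EtPullExact.pull_preservesFiniteLimits _
  haveI : ∀ j, PreservesFiniteLimits (EtCoh.pull (uπ cX j)) := fun j => EtPullExact.pull_preservesFiniteLimits _
  haveI : ∀ {i j : ιᵒᵖ} (f : i ⟶ j), PreservesFiniteLimits (EtCoh.pull (DS.map f)) := fun f =>
    EtPullExact.pull_preservesFiniteLimits _
  haveI : ∀ {i j : ιᵒᵖ} (f : i ⟶ j), PreservesFiniteLimits (EtCoh.pull (DX.map f)) := fun f =>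
    EtPullExact.pull_preservesFiniteLimits _
  have key : ∀ (i : ι) (y : EtCoh.H (DS.obj (op i)) (pF αS F i) n),
      EtCore.HpullVia m aS aX hm (colimit G) n
          (EtLim.HpullThen (uπ cS (op i)) (pF αS F i) (pν cS αS aS haS F G ψ i) n y) =
        EtLim.HpullThen (uπ cX (op i)) (pF αX F i) (pν cX αX aX haX F G ψ i) n
          (EtCore.HpullVia (μ.app (op i)) (αS.app (op i)) (αX.app (op i)) (hμ (op i)) (F i) n y) := fun i y =>
    HpullVia_HpullThen m (μ.app (op i)) (uπ cX (op i)) (uπ cS (op i)) aS aX (αS.app (op i)) (αX.app (op i))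
      (uπ c (op i)) hm (hμ (op i)) (hmπ (op i)) (haS (op i)) (haX (op i)) _ n y
  have keyT : ∀ (i k : ι) (hik : i ≤ k) (y : EtCoh.H (DS.obj (op i)) (pF αS F i) n),
      EtCore.HpullVia (μ.app (op k)) (αS.app (op k)) (αX.app (op k)) (hμ (op k)) (F k) n
          (EtLim.HpullThen (DS.map (homOfLE hik).op) (pF αS F i) (pφ αS F φ hik) n y) =
        EtLim.HpullThen (DX.map (homOfLE hik).op) (pF αX F i) (pφ αX F φ hik) n
          (EtCore.HpullVia (μ.app (op i)) (αS.app (op i)) (αX.app (op i)) (hμ (op i)) (F i) n y) := fun i k hik y =>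
    HpullVia_HpullThen (μ.app (op k)) (μ.app (op i)) (DX.map (homOfLE hik).op) (DS.map (homOfLE hik).op)
      (αS.app (op k)) (αX.app (op k)) (αS.app (op i)) (αX.app (op i)) (D.map (homOfLE hik).op) (hμ (op k))
      (hμ (op i)) (μ.naturality _) (αS.naturality _) (αX.naturality _) _ n y
  refine ⟨(injective_iff_map_eq_zero _).2 fun η hη => ?_, fun ξ => ?_⟩
  · obtain ⟨i, y, rfl⟩ := sys_surj cS αS aS haS F φ hφ G ψ hψ hcS n η
    obtain ⟨k, hik, hk⟩ := sys_inj cX αX aX haX F φ hφ G ψ hψ hcX n i _ ((key i y).symm.trans hη)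
    have h0 : EtLim.HpullThen (DS.map (homOfLE hik).op) (pF αS F i) (pφ αS F φ hik) n y = 0 :=
      (h k).1 (((keyT i k hik y).trans hk).trans (map_zero _).symm)
    refine (HpullThen_trans (uπ cS (op k)) (DS.map (homOfLE hik).op) (uπ cS (op i)) (uπ_w cS _) (pF αS F i)
      (pφ αS F φ hik) (pν cS αS aS haS F G ψ k) (pν cS αS aS haS F G ψ i) ?_ n y).symm.trans
      ((congrArg _ h0).trans (map_zero _))
    refine pmap_comp aS (αS.app (op k)) (αS.app (op i)) _ _ _ _ _ _ (uπ_w cS _) (uπ_w c (homOfLE hik).op) _ _ _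
      (φ hik) _ _ ?_
    rw [← Category.assoc, ψh_comp_trans _ _ _ (uπ_w c (homOfLE hik).op) _ _ (hψ hik), Category.assoc, Category.assoc,
      colimit.w]
  · obtain ⟨i, x, rfl⟩ := sys_surj cX αX aX haX F φ hφ G ψ hψ hcX n ξ
    obtain ⟨y, rfl⟩ := (h i).2 x
    exact ⟨_, key i y⟩

end Bijective

end Groth.Agent.EtBCQ
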