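import Groth.Agent.EtBCQ.StrictSys
import Groth.Agent.EtBCQ.PbSys
import Groth.Agent.EtBCQ.PullSys
import Mathlib

/-! Restriction maps between base changes of systems. -/

set_option autoImplicit false
set_option backward.isDefEq.respectTransparency false
set_option backward.isDefEq.respectTransparency.types false
set_option maxHeartbeats 1000000
set_option linter.style.haveILetI false
set_option linter.overlappingInstances false
set_option linter.unusedSectionVars false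

universe u

open CategoryTheory CategoryTheory.Limits AlgebraicGeometry Opposite

noncomputable section

namespace Groth.Agent.EtBCQ

/-- restriction on a stage from the base change isomorphism -/
theorem bijective_stage {X S Y T : Scheme.{u}} (f : X ⟶ S) (g : T ⟶ S) [QuasiCompact g] [QuasiSeparated g]
    (h : Y ⟶ X) (e : Y ⟶ T) (c : IsPullback e h g f) [PreservesFiniteLimits (EtCoh.pull e)] (F : EtCoh.Ab T) (q : ℕ)
    [IsIso (EtBC.bcQ g f h e c.w q F)] {x : X} (QS : SH S (f.base x)) (QX : SH X x) (ψ : QS.R →+* QX.R) [IsLocalHom ψ]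
    (hψ : Spec.map (CommRingCat.ofHom ψ) ≫ QS.spec = QX.spec ≫ f)
    (PS PX : Scheme.{u}) (aS : PS ⟶ T) (bS : PS ⟶ Spec (CommRingCat.of QS.R))
    (HS : IsPullback aS bS g QS.spec) (aX : PX ⟶ T) (bX : PX ⟶ Spec (CommRingCat.of QX.R))
    (HX : IsPullback aX bX g (QX.spec ≫ f)) (m : PX ⟶ PS) (w : m ≫ aS = aX)
    (wb : m ≫ bS = bX ≫ Spec.map (CommRingCat.ofHom ψ)) [PreservesFiniteLimits (EtCoh.pull m)] :
    Function.Bijective (EtCore.HpullVia m aS aX w F q) :=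
  (stalk_iff_restr f g h e c F q x QS.R QX.R ψ (comp_alg_of_spec f QS QX ψ hψ) PS PX aS bS HS aX bX HX m w wb).1
    inferInstance

/-- restriction in the limit from the restrictions on the stages -/
theorem bijective_pb {ι : Type u} [Preorder ι] [Nonempty ι] [IsDirectedOrder ι] {DT DS DBS DBX : ιᵒᵖ ⥤ Scheme.{u}}
    (α : DT ⟶ DS) (βS : DBS ⟶ DS) (βX : DBX ⟶ DS) (γ : DBX ⟶ DBS) (hγ : γ ≫ βS = βX)
    {cT : Cone DT} {cS : Cone DS} {cBS : Cone DBS} {cBX : Cone DBX} (hcT : IsLimit cT) (hcS : IsLimit cS)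
    (hBS : IsLimit cBS) (hBX : IsLimit cBX) (g : cT.pt ⟶ cS.pt) (sS : cBS.pt ⟶ cS.pt) (sX : cBX.pt ⟶ cS.pt)
    (hg : ∀ a, g ≫ cS.π.app a = cT.π.app a ≫ α.app a) (hsS : ∀ a, sS ≫ cS.π.app a = cBS.π.app a ≫ βS.app a)
    (hsX : ∀ a, sX ≫ cS.π.app a = cBX.π.app a ≫ βX.app a)
    (γ₀ : cBX.pt ⟶ cBS.pt) (hγ₀ : ∀ a, cBX.π.app a ≫ γ.app a = γ₀ ≫ cBS.π.app a)
    {PS PX : Scheme.{u}} (aS : PS ⟶ cT.pt) (bS : PS ⟶ cBS.pt) (HS : IsPullback aS bS g sS)
    (aX : PX ⟶ cT.pt) (bX : PX ⟶ cBX.pt) (HX : IsPullback aX bX g sX) (m : PX ⟶ PS) (w : m ≫ aS = aX)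
    (wb : m ≫ bS = bX ≫ γ₀) [PreservesFiniteLimits (EtCoh.pull m)]
    [∀ a, QuasiCompact (α.app a)] [∀ a, QuasiSeparated (α.app a)]
    [∀ {a b : ιᵒᵖ} (l : a ⟶ b), IsAffineHom (DT.map l)] [∀ {a b : ιᵒᵖ} (l : a ⟶ b), IsAffineHom (DS.map l)]
    [∀ {a b : ιᵒᵖ} (l : a ⟶ b), IsAffineHom (DBS.map l)] [∀ {a b : ιᵒᵖ} (l : a ⟶ b), IsAffineHom (DBX.map l)]
    [∀ a, CompactSpace (DBS.obj a)] [∀ a, QuasiSeparatedSpace (DBS.obj a)]
    [∀ a, CompactSpace (DBX.obj a)] [∀ a, QuasiSeparatedSpace (DBX.obj a)]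
    (F : ∀ i : ι, EtCoh.Ab (DT.obj (op i)))
    (φ : ∀ ⦃i j : ι⦄ (hij : i ≤ j), (EtCoh.pull (DT.map (homOfLE hij).op)).obj (F i) ⟶ F j)
    (hφ : ∀ ⦃i j k : ι⦄ (hij : i ≤ j) (hjk : j ≤ k), φ (hij.trans hjk) =
      (EtLim.pullTrans DT hij hjk).hom.app (F i) ≫ (EtCoh.pull (DT.map (homOfLE hjk).op)).map (φ hij) ≫ φ hjk)
    (G : ι ⥤ EtCoh.Ab cT.pt) (ψ : ∀ i : ι, (EtCoh.pull (cT.π.app (op i))).obj (F i) ≅ G.obj i)
    (hψ : ∀ ⦃i j : ι⦄ (hij : i ≤ j), (ψ i).hom ≫ G.map (homOfLE hij) =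
      (EtLim.pullTransCone DT cT hij).hom.app (F i) ≫ (EtCoh.pull (cT.π.app (op j))).map (φ hij) ≫ (ψ j).hom)
    (n : ℕ)
    (stage : ∀ (i : ι) [PreservesFiniteLimits (EtCoh.pull ((pbMap α βS γ hγ).app (op i)))], Function.Bijective
      (EtCore.HpullVia ((pbMap α βS γ hγ).app (op i)) ((pbFst α βS).app (op i)) ((pbFst α βX).app (op i))
        (pbMap_fst α βS γ hγ (op i)) (F i) n)) :
    Function.Bijective (EtCore.HpullVia m aS aX w (colimit G) n) := by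
  obtain ⟨hPS⟩ := nonempty_isLimit_pbCone α βS g sS hg hsS aS bS hcT hcS hBS HS
  obtain ⟨hPX⟩ := nonempty_isLimit_pbCone α βX g sX hg hsX aX bX hcT hcS hBX HX
  haveI : ∀ {a b : ιᵒᵖ} (l : a ⟶ b), IsAffineHom ((pbSys α βS).map l) := fun l => isAffineHom_pbSys_map α βS l
  haveI : ∀ {a b : ιᵒᵖ} (l : a ⟶ b), IsAffineHom ((pbSys α βX).map l) := fun l => isAffineHom_pbSys_map α βX l
  haveI : ∀ a, CompactSpace ((pbSys α βS).obj a) := fun a => (qcqs_pbSys α βS a).1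
  haveI : ∀ a, QuasiSeparatedSpace ((pbSys α βS).obj a) := fun a => (qcqs_pbSys α βS a).2
  haveI : ∀ a, CompactSpace ((pbSys α βX).obj a) := fun a => (qcqs_pbSys α βX a).1
  haveI : ∀ a, QuasiSeparatedSpace ((pbSys α βX).obj a) := fun a => (qcqs_pbSys α βX a).2
  haveI : ∀ a, PreservesFiniteLimits (EtCoh.pull ((pbMap α βS γ hγ).app a)) := fun a =>
    EtPullExact.pull_preservesFiniteLimits _
  refine bijective_of_stages (pbCone α βS g sS hg hsS aS bS HS.w) (pbCone α βX g sX hg hsX aX bX HX.w)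
    (pbFst α βS) (pbFst α βX) (pbMap α βS γ hγ) (fun a => pbMap_fst α βS γ hγ a) aS aX
    (fun a => pbCone_fst α βS g sS hg hsS aS bS HS.w a) (fun a => pbCone_fst α βX g sX hg hsX aX bX HX.w a) m w
    (fun a => pb_ext α βS ?_ ?_) F φ hφ G ψ hψ hPS hPX n fun i => stage i
  · refine ((Category.assoc _ _ _).trans (congrArg (_ ≫ ·) (pbMap_fst α βS γ hγ a))).trans ?_
    refine (pbCone_fst α βX g sX hg hsX aX bX HX.w a).trans (Eq.symm ?_)
    refine (Category.assoc _ _ _).trans ((congrArg (m ≫ ·) (pbCone_fst α βS g sS hg hsS aS bS HS.w a)).trans ?_)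
    exact (Category.assoc _ _ _).symm.trans (congrArg (· ≫ cT.π.app a) w)
  · refine ((Category.assoc _ _ _).trans (congrArg (_ ≫ ·) (pbMap_snd α βS γ hγ a))).trans ?_
    refine ((Category.assoc _ _ _).symm.trans (congrArg (· ≫ γ.app a)
      (pbCone_snd α βX g sX hg hsX aX bX HX.w a))).trans (Eq.symm ?_)
    refine (Category.assoc _ _ _).trans ((congrArg (m ≫ ·) (pbCone_snd α βS g sS hg hsS aS bS HS.w a)).trans ?_)
    refine ((Category.assoc _ _ _).symm.trans (congrArg (· ≫ cBS.π.app a) wb)).trans ?_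
    rw [Category.assoc, Category.assoc, hγ₀]

end Groth.Agent.EtBCQ
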