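import Groth.Agent.EtBCQ.StalkIff
import Groth.Agent.EtBCQ.Crit
import Mathlib

/-! The stalk of the base change map as the restriction map, with natural identifications. -/

set_option autoImplicit false
set_option backward.isDefEq.respectTransparency false
set_option backward.isDefEq.respectTransparency.types false
set_option maxHeartbeats 4000000
set_option linter.style.haveILetI false
set_option linter.overlappingInstances false
set_option linter.unusedSectionVars false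
set_option linter.auxLemma false

universe w v u u'

open CategoryTheory CategoryTheory.Limits CategoryTheory.Abelian AlgebraicGeometry Opposite IsLocalRing

noncomputable section

namespace Groth.Agent.EtBCQ

section Gen

open LCZ (seqCyc seqCyc_shortExact eCls homCyc homLift homLift_i homCls)

variable {A : Type u} [Category.{v} A] [Abelian A] [HasExt.{v} A]
  {K K' : CochainComplex A ℕ} (hex : ∀ n, K.ExactAt (n + 1)) (hex' : ∀ n, K'.ExactAt (n + 1)) (φ : K ⟶ K')

theorem eCls_nat : ∀ k : ℕ, (eCls K hex k).comp (Ext.mk₀ (HomologicalComplex.cyclesMap φ 0)) (add_zero k) =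
    (Ext.mk₀ (HomologicalComplex.cyclesMap φ k)).comp (eCls K' hex' k) (zero_add k)
  | 0 => by
    rw [eCls, eCls, Ext.mk₀_comp_mk₀, Ext.mk₀_comp_mk₀, Category.id_comp, Category.comp_id]
  | k + 1 => by
    let hS := seqCyc_shortExact K hex k
    let hS' := seqCyc_shortExact K' hex' k
    let m : seqCyc K k ⟶ seqCyc K' k :=
      { τ₁ := HomologicalComplex.cyclesMap φ k
        τ₂ := φ.f k
        τ₃ := HomologicalComplex.cyclesMap φ (k + 1)
        comm₁₂ := HomologicalComplex.cyclesMap_i φ k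
        comm₂₃ := by
          show φ.f k ≫ K'.toCycles k (k + 1) = K.toCycles k (k + 1) ≫ HomologicalComplex.cyclesMap φ (k + 1)
          rw [← cancel_mono (K'.iCycles (k + 1)), Category.assoc, Category.assoc, HomologicalComplex.toCycles_i,
            HomologicalComplex.cyclesMap_i, HomologicalComplex.toCycles_i_assoc]
          exact φ.comm k (k + 1) }
    have hn := ShortComplex.ShortExact.extClass_naturality hS hS' m
    have ih := eCls_nat k
    rw [eCls, eCls, Ext.comp_assoc hS.extClass _ _ (Nat.add_comm 1 k) (add_zero k) (show 1 + k + 0 = k + 1 by omega),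
      ih, ← Ext.comp_assoc hS.extClass (Ext.mk₀ (HomologicalComplex.cyclesMap φ k)) _ (add_zero 1) (zero_add k)
        (show 1 + 0 + k = k + 1 by omega)]
    refine (congrArg (fun e => e.comp (eCls K' hex' k) (Nat.add_comm 1 k)) hn).trans ?_
    exact Ext.comp_assoc _ _ _ (zero_add 1) (Nat.add_comm 1 k) (show 0 + 1 + k = k + 1 by omega)

variable (P : A) (hK : ∀ n m : ℕ, Subsingleton (Ext P (K.X n) (m + 1)))
  (hK' : ∀ n m : ℕ, Subsingleton (Ext P (K'.X n) (m + 1)))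

/-- post-composition on `Ext` -/
def postE {Y Z : A} (g : Y ⟶ Z) (n : ℕ) : AddCommGrpCat.of (Ext P Y n) ⟶ AddCommGrpCat.of (Ext P Z n) :=
  AddCommGrpCat.ofHom ((Ext.mk₀ g).postcomp P (add_zero n))

theorem postE_apply {Y Z : A} (g : Y ⟶ Z) (n : ℕ) (x : Ext P Y n) :
    postE P g n x = x.comp (Ext.mk₀ g) (add_zero n) := rfl

theorem postE_comp {Y Z W : A} (g : Y ⟶ Z) (g' : Z ⟶ W) (n : ℕ) :
    postE P g n ≫ postE P g' n = postE P (g ≫ g') n := by
  ext x
  show (x.comp (Ext.mk₀ g) (add_zero n)).comp (Ext.mk₀ g') (add_zero n) = x.comp (Ext.mk₀ (g ≫ g')) (add_zero n)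
  rw [Ext.comp_assoc_of_second_deg_zero, Ext.mk₀_comp_mk₀]

theorem postE_id (Y : A) (n : ℕ) : postE P (𝟙 Y) n = 𝟙 _ := by
  ext x
  exact Ext.comp_mk₀_id x

/-- post-composition with an isomorphism -/
def postIso {Y Z : A} (i : Y ≅ Z) (n : ℕ) : AddCommGrpCat.of (Ext P Y n) ≅ AddCommGrpCat.of (Ext P Z n) where
  hom := postE P i.hom n
  inv := postE P i.inv n
  hom_inv_id := by rw [postE_comp, i.hom_inv_id, postE_id]
  inv_hom_id := by rw [postE_comp, i.inv_hom_id, postE_id]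

theorem cls_natural (n : ℕ) :
    HomologicalComplex.homologyMap (((preadditiveCoyoneda.obj (op P)).mapHomologicalComplex (ComplexShape.up ℕ)).map φ) n ≫
        cls K' hex' P hK' n = cls K hex P hK n ≫ postE P (HomologicalComplex.cyclesMap φ 0) n := by
  rw [← cancel_epi ((homK K P).homologyπ n), HomologicalComplex.homologyπ_naturality_assoc, π_cls,
    ← Category.assoc, π_cls]
  ext z
  let Φ := ((preadditiveCoyoneda.obj (op P)).mapHomologicalComplex (ComplexShape.up ℕ)).map φ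
  let c := cyc K P n z
  let c' := cyc K' P n (HomologicalComplex.cyclesMap Φ n z)
  show (Ext.mk₀ (homLift K' P n c')).comp (eCls K' hex' n) (zero_add n) =
    ((Ext.mk₀ (homLift K P n c)).comp (eCls K hex n) (zero_add n)).comp _ (add_zero n)
  have hl : homLift K' P n c' = homLift K P n c ≫ HomologicalComplex.cyclesMap φ n := by
    rw [← cancel_mono (K'.iCycles n), homLift_i, Category.assoc, HomologicalComplex.cyclesMap_i,
      ← Category.assoc, homLift_i]
    exact ConcreteCategory.congr_hom (HomologicalComplex.cyclesMap_i Φ n) z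
  rw [hl, Ext.comp_assoc _ _ _ (zero_add n) (add_zero n) (show 0 + n + 0 = n by omega), eCls_nat hex hex' φ n,
    Ext.mk₀_comp_mk₀_assoc]

variable {Y Y' : A} (ι : (CochainComplex.single₀ A).obj Y ⟶ K) [QuasiIso ι]
  (ι' : (CochainComplex.single₀ A).obj Y' ⟶ K') [QuasiIso ι']

/-- cohomology computed by an acyclic resolution -/
def extIso (n : ℕ) : (homK K P).homology n ≅ AddCommGrpCat.of (Ext P Y n) :=
  haveI : IsIso (cls K hex P hK n) := (ConcreteCategory.isIso_iff_bijective _).2 (cls_bijective K hex P hK n)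
  asIso (cls K hex P hK n) ≪≫ postIso P (asIso (jCyc K ι)).symm n

theorem extIso_natural (u : Y ⟶ Y') (h : ι.f 0 ≫ φ.f 0 = u ≫ ι'.f 0) (n : ℕ) :
    HomologicalComplex.homologyMap (((preadditiveCoyoneda.obj (op P)).mapHomologicalComplex (ComplexShape.up ℕ)).map φ) n ≫
        (extIso hex' P hK' ι' n).hom = (extIso hex P hK ι n).hom ≫ postE P u n := by
  have hc : HomologicalComplex.cyclesMap φ 0 ≫ inv (jCyc K' ι') = inv (jCyc K ι) ≫ u := by
    rw [IsIso.comp_inv_eq, Category.assoc, IsIso.eq_inv_comp, ← cancel_mono (K'.iCycles 0)]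
    simp only [Category.assoc, jCyc_i, HomologicalComplex.cyclesMap_i]
    rw [← Category.assoc, jCyc_i, h]
  simp only [extIso, Iso.trans_hom, asIso_hom, postIso, Iso.symm_hom, asIso_inv, Category.assoc, postE_comp]
  rw [reassoc_of% (cls_natural hex hex' φ P hK hK' n), postE_comp, hc]

end Gen

section Chg

variable {A : Type u} [Category.{v} A] [Abelian A] [HasExt.{v} A]
  {B : Type u'} [Category.{v} B] [Abelian B] [HasExt.{v} B]
  {L : A ⥤ B} [L.Additive] [PreservesFiniteLimits L] [PreservesFiniteColimits L]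
  {K : CochainComplex A ℕ} {K' : CochainComplex B ℕ}
  (φ : (L.mapHomologicalComplex (ComplexShape.up ℕ)).obj K ⟶ K')
  (hex : ∀ n, K.ExactAt (n + 1)) (hex' : ∀ n, K'.ExactAt (n + 1))
  {P : A} {P' : B} (a : P' ⟶ L.obj P)
  (hK : ∀ n m : ℕ, Subsingleton (Ext P (K.X n) (m + 1))) (hK' : ∀ n m : ℕ, Subsingleton (Ext P' (K'.X n) (m + 1)))
  {Y : A} {Y' : B} (ι : (CochainComplex.single₀ A).obj Y ⟶ K) [QuasiIso ι]
  (ι' : (CochainComplex.single₀ B).obj Y' ⟶ K') [QuasiIso ι']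

theorem extIso_map (u : L.obj Y ⟶ Y') (h : L.map (ι.f 0) ≫ φ.f 0 = u ≫ ι'.f 0) (n : ℕ) :
    HomologicalComplex.homologyMap (homKMap φ a) n ≫ (extIso hex' P' hK' ι' n).hom =
      (extIso hex P hK ι n).hom ≫ AddCommGrpCat.ofHom (EtMV.T L a Y n) ≫ postE P' u n := by
  have hc : cmpCyc φ 0 ≫ inv (jCyc K' ι') = L.map (inv (jCyc K ι)) ≫ u := by
    rw [IsIso.comp_inv_eq, Category.assoc, Functor.map_inv, IsIso.eq_inv_comp, ← cancel_mono (K'.iCycles 0)]
    simp only [Category.assoc, jCyc_i, cmpCyc_i]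
    rw [← Category.assoc, ← L.map_comp, jCyc_i, h]
  simp only [extIso, Iso.trans_hom, asIso_hom, postIso, Iso.symm_hom, asIso_inv, Category.assoc]
  rw [reassoc_of% (homologyMap_cls φ hex hex' a hK hK' n)]
  refine congrArg (cls K hex P hK n ≫ ·) ?_
  ext x
  show (((EtMV.T L a (K.cycles 0) n) x).comp (Ext.mk₀ (cmpCyc φ 0)) (add_zero n)).comp _ (add_zero n) =
    ((EtMV.T L a Y n) (x.comp (Ext.mk₀ (inv (jCyc K ι))) (add_zero n))).comp (Ext.mk₀ u) (add_zero n)
  rw [EtMV.T_comp_mk₀]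
  simp only [Ext.comp_assoc_of_second_deg_zero, Ext.mk₀_comp_mk₀]
  exact congrArg (fun z => Ext.comp _ (Ext.mk₀ z) _) hc

end Chg

section Functors

variable {A : Type u} [Category.{v} A] [Abelian A] [HasInjectiveResolutions A]
  {A₁ : Type u} [Category.{v} A₁] [Abelian A₁] [HasInjectiveResolutions A₁]
  {B B₁ : Type*} [Category* B] [Abelian B] [Category* B₁] [Abelian B₁]
  {C : Type u'} [Category.{v} C] [Abelian C] [HasExt.{v} C] {C₁ : Type u'} [Category.{v} C₁] [Abelian C₁] [HasExt.{v} C₁]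
  (F : A ⥤ B₁) [F.Additive] (Φ : B₁ ⥤ B) [Φ.Additive] [Φ.PreservesHomology]
  (F₁ : A₁ ⥤ B) [F₁.Additive]
  (st : B ⥤ AddCommGrpCat.{v}) [st.Additive] [st.PreservesHomology]
  (L : A ⥤ C) [L.Additive] [PreservesFiniteLimits L] [PreservesFiniteColimits L]
  (L₁ : A₁ ⥤ C₁) [L₁.Additive] [PreservesFiniteLimits L₁] [PreservesFiniteColimits L₁]
  (P : C) (P₁ : C₁) {M N : A} {M₁ N₁ : A₁} (R : InjectiveResolution M) (R' : InjectiveResolution N)
  (J : InjectiveResolution M₁) (J' : InjectiveResolution N₁)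
  (τ : (st.mapHomologicalComplex (ComplexShape.up ℕ)).obj ((Φ.mapHomologicalComplex (ComplexShape.up ℕ)).obj
    ((F.mapHomologicalComplex (ComplexShape.up ℕ)).obj R.cocomplex)) ≅
      homK ((L.mapHomologicalComplex (ComplexShape.up ℕ)).obj R.cocomplex) P)
  (τ' : (st.mapHomologicalComplex (ComplexShape.up ℕ)).obj ((Φ.mapHomologicalComplex (ComplexShape.up ℕ)).obj
    ((F.mapHomologicalComplex (ComplexShape.up ℕ)).obj R'.cocomplex)) ≅
      homK ((L.mapHomologicalComplex (ComplexShape.up ℕ)).obj R'.cocomplex) P)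
  (σ : (st.mapHomologicalComplex (ComplexShape.up ℕ)).obj ((F₁.mapHomologicalComplex (ComplexShape.up ℕ)).obj
    J.cocomplex) ≅ homK ((L₁.mapHomologicalComplex (ComplexShape.up ℕ)).obj J.cocomplex) P₁)
  (σ' : (st.mapHomologicalComplex (ComplexShape.up ℕ)).obj ((F₁.mapHomologicalComplex (ComplexShape.up ℕ)).obj
    J'.cocomplex) ≅ homK ((L₁.mapHomologicalComplex (ComplexShape.up ℕ)).obj J'.cocomplex) P₁)
  (hK : ∀ n k : ℕ, Subsingleton (Ext P (((L.mapHomologicalComplex (ComplexShape.up ℕ)).obj R.cocomplex).X n) (k + 1)))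
  (hK' : ∀ n k : ℕ, Subsingleton (Ext P (((L.mapHomologicalComplex (ComplexShape.up ℕ)).obj R'.cocomplex).X n) (k + 1)))
  (hJ : ∀ n k : ℕ, Subsingleton (Ext P₁ (((L₁.mapHomologicalComplex (ComplexShape.up ℕ)).obj J.cocomplex).X n) (k + 1)))
  (hJ' : ∀ n k : ℕ, Subsingleton (Ext P₁ (((L₁.mapHomologicalComplex (ComplexShape.up ℕ)).obj J'.cocomplex).X n) (k + 1)))
  (q : ℕ)

theorem chase4 {C : Type*} [Category* C] {a b c d e a' b' c' d' e' : C} {i₁ : a ⟶ b} {i₂ : b ⟶ c} {i₃ : c ⟶ d}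
    {i₄ : d ⟶ e} {i₁' : a' ⟶ b'} {i₂' : b' ⟶ c'} {i₃' : c' ⟶ d'} {i₄' : d' ⟶ e'} {m₁ : a ⟶ a'} {m₂ : b ⟶ b'}
    {m₃ : c ⟶ c'} {m₄ : d ⟶ d'} {m₅ : e ⟶ e'} (h₁ : m₁ ≫ i₁' = i₁ ≫ m₂) (h₂ : m₂ ≫ i₂' = i₂ ≫ m₃)
    (h₃ : m₃ ≫ i₃' = i₃ ≫ m₄) (h₄ : m₄ ≫ i₄' = i₄ ≫ m₅) :
    m₁ ≫ i₁' ≫ i₂' ≫ i₃' ≫ i₄' = (i₁ ≫ i₂ ≫ i₃ ≫ i₄) ≫ m₅ := by
  rw [reassoc_of% h₁, reassoc_of% h₂, reassoc_of% h₃, h₄]
  simp only [Category.assoc]

theorem map_sq {C D : Type*} [Category* C] [Category* D] (P : C ⥤ D) {a b c a' b' c' : C} {i : a ⟶ b} {j : b ⟶ c}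
    {i' : a' ⟶ b'} {j' : b' ⟶ c'} {m : a ⟶ a'} {n : b ⟶ b'} {o : c ⟶ c'} (h : m ≫ i' = i ≫ n)
    (h' : n ≫ j' = j ≫ o) : P.map m ≫ P.map (i' ≫ j') = P.map (i ≫ j) ≫ P.map o := by
  rw [← P.map_comp, ← P.map_comp, reassoc_of% h, h', Category.assoc]

theorem map_sq₁ {C D : Type*} [Category* C] [Category* D] (P : C ⥤ D) {a b a' b' : C} {i : a ⟶ b}
    {i' : a' ⟶ b'} {m : a ⟶ a'} {n : b ⟶ b'} (h : m ≫ i' = i ≫ n) : P.map m ≫ P.map i' = P.map i ≫ P.map n := by
  rw [← P.map_comp, ← P.map_comp, h]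

theorem hom_sq {V : Type*} [Category* V] [HasZeroMorphisms V] {K L K' L' : CochainComplex V ℕ} {i : K ⟶ L}
    {i' : K' ⟶ L'} {m : K ⟶ K'} {n : L ⟶ L'} (h : m ≫ i' = i ≫ n) (q : ℕ) [K.HasHomology q] [L.HasHomology q]
    [K'.HasHomology q] [L'.HasHomology q] :
    HomologicalComplex.homologyMap m q ≫ HomologicalComplex.homologyMap i' q =
      HomologicalComplex.homologyMap i q ≫ HomologicalComplex.homologyMap n q := by
  rw [← HomologicalComplex.homologyMap_comp, ← HomologicalComplex.homologyMap_comp, h]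

theorem mapHomologyIso_inv_nat {A B : Type*} [Category* A] [Abelian A] [Category* B] [Abelian B] (P : A ⥤ B)
    [P.Additive] [P.PreservesHomology] {K L : CochainComplex A ℕ} (φ : K ⟶ L) (n : ℕ) :
    P.map (HomologicalComplex.homologyMap φ n) ≫ ((L.sc n).mapHomologyIso P).inv =
      ((K.sc n).mapHomologyIso P).inv ≫
        HomologicalComplex.homologyMap ((P.mapHomologicalComplex (ComplexShape.up ℕ)).map φ) n := by
  rw [homologyMap_map_eq, Iso.inv_hom_id_assoc]

theorem chase_res {C D : Type*} [Category* C] [Category* D] (P : C ⥤ D) {a b c c' d : C} {i : a ⟶ b} {k : b ⟶ c}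
    {N : c ⟶ c'} (J : d ≅ c') {u₂ u₃ u₄ v₂ v₃ v₄ : D} {p : P.obj c ⟶ u₂} {p' : P.obj c' ⟶ v₂} {sq : u₂ ⟶ v₂}
    {r : u₂ ⟶ u₃} {r' : v₂ ⟶ v₃} {tq : u₃ ⟶ v₃} {x : u₃ ⟶ u₄} {x' : v₃ ⟶ v₄} {res : u₄ ⟶ v₄}
    (h₁ : P.map N ≫ p' = p ≫ sq) (h₂ : sq ≫ r' = r ≫ tq) (h₃ : tq ≫ x' = x ≫ res) :
    P.map (i ≫ k ≫ N ≫ J.inv) ≫ P.map J.hom ≫ p' ≫ r' ≫ x' = (P.map (i ≫ k) ≫ p ≫ r ≫ x) ≫ res := by
  rw [← Category.assoc (P.map _), ← P.map_comp, show (i ≫ k ≫ N ≫ J.inv) ≫ J.hom = (i ≫ k) ≫ N by simp,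
    P.map_comp, Category.assoc, reassoc_of% h₁, reassoc_of% h₂, h₃]
  simp only [Category.assoc]

theorem mapAug_nat {A B : Type*} [Category* A] [Abelian A] [Category* B] [Abelian B] (P : A ⥤ B) [P.Additive]
    {M N : A} {R : CochainComplex A ℕ} {R' : CochainComplex A ℕ} (ι : (CochainComplex.single₀ A).obj M ⟶ R)
    (ι' : (CochainComplex.single₀ A).obj N ⟶ R') (u : M ⟶ N) (φ : R ⟶ R') (h : ι.f 0 ≫ φ.f 0 = u ≫ ι'.f 0) :
    (RDer.mapAug P ι).f 0 ≫ ((P.mapHomologicalComplex (ComplexShape.up ℕ)).map φ).f 0 =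
      P.map u ≫ (RDer.mapAug P ι').f 0 := by
  rw [mapAug_f_zero, mapAug_f_zero]
  exact (P.map_comp _ _).symm.trans ((congrArg P.map h).trans (P.map_comp _ _))

/-- exact functors of a derived functor as `Ext` -/
def gIso₂ : st.obj (Φ.obj ((F.rightDerived q).obj M)) ≅ AddCommGrpCat.of (Ext P (L.obj M) q) :=
  st.mapIso (Φ.mapIso (R.isoRightDerivedObj F q) ≪≫
      ((((F.mapHomologicalComplex (ComplexShape.up ℕ)).obj R.cocomplex).sc q).mapHomologyIso Φ).symm) ≪≫
    ((((Φ.mapHomologicalComplex (ComplexShape.up ℕ)).obj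
      ((F.mapHomologicalComplex (ComplexShape.up ℕ)).obj R.cocomplex)).sc q).mapHomologyIso st).symm ≪≫
    (HomologicalComplex.homologyFunctor _ _ q).mapIso τ ≪≫
    extIso (fun n => RDer.res_exactAt_succ _ (RDer.mapAug L R.ι) n) P hK (RDer.mapAug L R.ι) q

/-- an exact functor of a derived functor as `Ext` -/
def gIso₁ : st.obj ((F₁.rightDerived q).obj M₁) ≅ AddCommGrpCat.of (Ext P₁ (L₁.obj M₁) q) :=
  st.mapIso (J.isoRightDerivedObj F₁ q) ≪≫
    ((((F₁.mapHomologicalComplex (ComplexShape.up ℕ)).obj J.cocomplex).sc q).mapHomologyIso st).symm ≪≫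
    (HomologicalComplex.homologyFunctor _ _ q).mapIso σ ≪≫
    extIso (fun n => RDer.res_exactAt_succ _ (RDer.mapAug L₁ J.ι) n) P₁ hJ (RDer.mapAug L₁ J.ι) q

theorem gIso₂_natural (u : M ⟶ N) (φ : R.cocomplex ⟶ R'.cocomplex) (hφ : R.ι.f 0 ≫ φ.f 0 = u ≫ R'.ι.f 0)
    (hτ : (st.mapHomologicalComplex (ComplexShape.up ℕ)).map ((Φ.mapHomologicalComplex (ComplexShape.up ℕ)).map
        ((F.mapHomologicalComplex (ComplexShape.up ℕ)).map φ)) ≫ τ'.hom =
      τ.hom ≫ ((preadditiveCoyoneda.obj (op P)).mapHomologicalComplex (ComplexShape.up ℕ)).map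
        ((L.mapHomologicalComplex (ComplexShape.up ℕ)).map φ)) :
    st.map (Φ.map ((F.rightDerived q).map u)) ≫ (gIso₂ F Φ st L P R' τ' hK' q).hom =
      (gIso₂ F Φ st L P R τ hK q).hom ≫ postE P (L.map u) q :=
  chase4 (map_sq st (map_sq₁ Φ (R.isoRightDerivedObj_hom_naturality u R' φ hφ F q))
      (mapHomologyIso_inv_nat Φ _ q))
    (mapHomologyIso_inv_nat st _ q) (hom_sq hτ q)
    (extIso_natural (fun n => RDer.res_exactAt_succ _ (RDer.mapAug L R.ι) n)
      (fun n => RDer.res_exactAt_succ _ (RDer.mapAug L R'.ι) n) ((L.mapHomologicalComplex (ComplexShape.up ℕ)).map φ)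
      P hK hK' (RDer.mapAug L R.ι) (RDer.mapAug L R'.ι) (L.map u) (mapAug_nat L R.ι R'.ι u φ hφ) q)

theorem gIso₁_natural (u : M₁ ⟶ N₁) (φ : J.cocomplex ⟶ J'.cocomplex) (hφ : J.ι.f 0 ≫ φ.f 0 = u ≫ J'.ι.f 0)
    (hσ : (st.mapHomologicalComplex (ComplexShape.up ℕ)).map ((F₁.mapHomologicalComplex (ComplexShape.up ℕ)).map φ) ≫
        σ'.hom =
      σ.hom ≫ ((preadditiveCoyoneda.obj (op P₁)).mapHomologicalComplex (ComplexShape.up ℕ)).map
        ((L₁.mapHomologicalComplex (ComplexShape.up ℕ)).map φ)) :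
    st.map ((F₁.rightDerived q).map u) ≫ (gIso₁ F₁ st L₁ P₁ J' σ' hJ' q).hom =
      (gIso₁ F₁ st L₁ P₁ J σ hJ q).hom ≫ postE P₁ (L₁.map u) q :=
  chase4 (map_sq₁ st (J.isoRightDerivedObj_hom_naturality u J' φ hφ F₁ q)) (mapHomologyIso_inv_nat st _ q)
    (hom_sq hσ q)
    (extIso_natural (fun n => RDer.res_exactAt_succ _ (RDer.mapAug L₁ J.ι) n)
      (fun n => RDer.res_exactAt_succ _ (RDer.mapAug L₁ J'.ι) n) ((L₁.mapHomologicalComplex (ComplexShape.up ℕ)).map φ)
      P₁ hJ hJ' (RDer.mapAug L₁ J.ι) (RDer.mapAug L₁ J'.ι) (L₁.map u) (mapAug_nat L₁ J.ι J'.ι u φ hφ) q)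

variable (G : C ⥤ C₁) [G.Additive] [PreservesFiniteLimits G] [PreservesFiniteColimits G]

theorem gIso_square (N' : (Φ.mapHomologicalComplex (ComplexShape.up ℕ)).obj
      ((F.mapHomologicalComplex (ComplexShape.up ℕ)).obj R.cocomplex) ⟶
        (F₁.mapHomologicalComplex (ComplexShape.up ℕ)).obj J.cocomplex)
    (ψ : (G.mapHomologicalComplex (ComplexShape.up ℕ)).obj ((L.mapHomologicalComplex (ComplexShape.up ℕ)).obj R.cocomplex) ⟶
      (L₁.mapHomologicalComplex (ComplexShape.up ℕ)).obj J.cocomplex)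
    (a : P₁ ⟶ G.obj P) (u : G.obj (L.obj M) ⟶ L₁.obj M₁)
    (hu : G.map ((RDer.mapAug L R.ι).f 0) ≫ ψ.f 0 = u ≫ (RDer.mapAug L₁ J.ι).f 0)
    (hsq : (st.mapHomologicalComplex (ComplexShape.up ℕ)).map N' ≫ σ.hom = τ.hom ≫ homKMap ψ a)
    (bc : Φ.obj ((F.rightDerived q).obj M) ⟶ (F₁.rightDerived q).obj M₁)
    (hbc : bc = Φ.map (R.isoRightDerivedObj F q).hom ≫
      ((((F.mapHomologicalComplex (ComplexShape.up ℕ)).obj R.cocomplex).sc q).mapHomologyIso Φ).inv ≫
      HomologicalComplex.homologyMap N' q ≫ (J.isoRightDerivedObj F₁ q).inv) :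
    st.map bc ≫ (gIso₁ F₁ st L₁ P₁ J σ hJ q).hom =
      (gIso₂ F Φ st L P R τ hK q).hom ≫ AddCommGrpCat.ofHom (EtMV.T G a (L.obj M) q) ≫ postE P₁ u q := by
  subst hbc
  exact chase_res st (J.isoRightDerivedObj F₁ q) (mapHomologyIso_inv_nat st N' q) (hom_sq hsq q)
    (extIso_map ψ (fun n => RDer.res_exactAt_succ _ (RDer.mapAug L R.ι) n)
      (fun n => RDer.res_exactAt_succ _ (RDer.mapAug L₁ J.ι) n) a hK hJ (RDer.mapAug L R.ι) (RDer.mapAug L₁ J.ι) u hu q)

end Functors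

attribute [local instance 100000] EtCoh.H._proof_1 Groth.Agent.EtMV.hext
attribute [local instance 200000] Groth.Agent.EtMV.hextAb

section Sq

variable {X S Y T : Scheme.{u}} (f : X ⟶ S) (g : T ⟶ S) [QuasiCompact g] [QuasiSeparated g] (h : Y ⟶ X)
  [QuasiCompact h] [QuasiSeparated h] (e : Y ⟶ T) (w : e ≫ g = h ≫ f) [PreservesFiniteLimits (EtCoh.pull e)]
  (q : ℕ)
  (s : S) (RS : Type u) [CommRing RS] [IsLocalRing RS] [Algebra (S.presheaf.stalk s) RS]
  [IsSepClosed (ResidueField RS)] [HenselianLocalRing RS] [IsLocalHom (algebraMap (S.presheaf.stalk s) RS)]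
  [_root_.Hensel.IsStrictHenselization (S.presheaf.stalk s) RS]
  (x : X) (RX : Type u) [CommRing RX] [IsLocalRing RX] [Algebra (X.presheaf.stalk x) RX]
  [IsSepClosed (ResidueField RX)] [HenselianLocalRing RX] [IsLocalHom (algebraMap (X.presheaf.stalk x) RX)]
  [_root_.Hensel.IsStrictHenselization (X.presheaf.stalk x) RX]
  (ρ : RS →+* RX) [IsLocalHom ρ]
  (hρ : Hens2.specOf X x RX ≫ f = Spec.map (CommRingCat.ofHom ρ) ≫ Hens2.specOf S s RS)
  {PS PX : Scheme.{u}} (aS : PS ⟶ T) (bS : PS ⟶ Spec (CommRingCat.of RS))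
  (HS : IsPullback aS bS g (Hens2.specOf S s RS))
  (pY : PX ⟶ Y) (bX : PX ⟶ Spec (CommRingCat.of RX)) (HX : IsPullback pY bX h (Hens2.specOf X x RX))
  (m : PX ⟶ PS) (wm : m ≫ aS = pY ≫ e) (wb : m ≫ bS = bX ≫ Spec.map (CommRingCat.ofHom ρ))

/-- stalk of the pulled back complex -/
def srcCx (R : CochainComplex (EtCoh.Ab T) ℕ) :
    ((EtCoh.stalk (Hens2.geomPt X x RX)).mapHomologicalComplex (ComplexShape.up ℕ)).obj
        (((EtCoh.pull f).mapHomologicalComplex (ComplexShape.up ℕ)).obj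
          (((EtCoh.push g).mapHomologicalComplex (ComplexShape.up ℕ)).obj R)) ≅
      homK (((EtCoh.pull aS).mapHomologicalComplex (ComplexShape.up ℕ)).obj R) (EtCoh.const PS ℤ) :=
  HomologicalComplex.Hom.isoOfComponents (fun n => stalkSrc f g s RS x RX ρ hρ aS bS HS (R.X n))
    (fun i j _ => stalkSrc_natural f g s RS x RX ρ hρ aS bS HS (R.d i j))

/-- stalk of the pushed complex -/
def tgtCx (J : CochainComplex (EtCoh.Ab Y) ℕ) :
    ((EtCoh.stalk (Hens2.geomPt X x RX)).mapHomologicalComplex (ComplexShape.up ℕ)).obj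
        (((EtCoh.push h).mapHomologicalComplex (ComplexShape.up ℕ)).obj J) ≅
      homK (((EtCoh.pull pY).mapHomologicalComplex (ComplexShape.up ℕ)).obj J) (EtCoh.const PX ℤ) :=
  HomologicalComplex.Hom.isoOfComponents (fun n => stalkHom h x RX pY bX HX (J.X n))
    (fun i j _ => stalkHom_natural h x RX pY bX HX (J.d i j))

variable [PreservesFiniteLimits (EtCoh.pull aS)] [PreservesFiniteLimits (EtCoh.pull pY)]

instance stalk_additive : (EtCoh.stalk (Hens2.geomPt X x RX)).Additive :=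
  haveI : PreservesFiniteLimits (EtCoh.stalk (Hens2.geomPt X x RX)) := inferInstance
  Functor.additive_of_preserves_binary_products _

instance stalk_preservesHomology : (EtCoh.stalk (Hens2.geomPt X x RX)).PreservesHomology :=
  Functor.preservesHomologyOfExact _

/-- stalk of `f⁻¹ R^q g_*` -/
def srcIso (F : EtCoh.Ab T) :
    (EtCoh.stalk (Hens2.geomPt X x RX)).obj ((EtCoh.pull f).obj ((EtCoh.Rpush g q).obj F)) ≅
      AddCommGrpCat.of (Ext (EtCoh.const PS ℤ) ((EtCoh.pull aS).obj F) q) :=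
  gIso₂ (EtCoh.push g) (EtCoh.pull f) (EtCoh.stalk (Hens2.geomPt X x RX)) (EtCoh.pull aS) (EtCoh.const PS ℤ)
    (injectiveResolution F) (srcCx f g s RS x RX ρ hρ aS bS HS (injectiveResolution F).cocomplex)
    (fun n k => subsingleton_ext_pull_injective g s RS aS bS HS ((injectiveResolution F).cocomplex.X n) k) q

/-- stalk of `R^q h_*` -/
def tgtIso (G : EtCoh.Ab Y) :
    (EtCoh.stalk (Hens2.geomPt X x RX)).obj ((EtCoh.Rpush h q).obj G) ≅
      AddCommGrpCat.of (Ext (EtCoh.const PX ℤ) ((EtCoh.pull pY).obj G) q) :=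
  gIso₁ (EtCoh.push h) (EtCoh.stalk (Hens2.geomPt X x RX)) (EtCoh.pull pY) (EtCoh.const PX ℤ)
    (injectiveResolution G) (tgtCx h x RX pY bX HX (injectiveResolution G).cocomplex)
    (fun n k => subsingleton_ext_pull_injective h x RX pY bX HX ((injectiveResolution G).cocomplex.X n) k) q

theorem srcIso_natural {F G : EtCoh.Ab T} (u : F ⟶ G) :
    (EtCoh.stalk (Hens2.geomPt X x RX)).map ((EtCoh.pull f).map ((EtCoh.Rpush g q).map u)) ≫
        (srcIso f g q s RS x RX ρ hρ aS bS HS G).hom =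
      (srcIso f g q s RS x RX ρ hρ aS bS HS F).hom ≫ postE _ ((EtCoh.pull aS).map u) q :=
  gIso₂_natural (EtCoh.push g) (EtCoh.pull f) (EtCoh.stalk (Hens2.geomPt X x RX)) (EtCoh.pull aS)
    (EtCoh.const PS ℤ) (injectiveResolution F) (injectiveResolution G) _ _ _ _ q u
    (InjectiveResolution.desc u (injectiveResolution G) (injectiveResolution F))
    (InjectiveResolution.desc_commutes_zero u _ _)
    (HomologicalComplex.hom_ext _ _ fun n => (stalkSrc_natural f g s RS x RX ρ hρ aS bS HS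
      ((InjectiveResolution.desc u (injectiveResolution G) (injectiveResolution F)).f n)).symm)

theorem tgtIso_natural {F G : EtCoh.Ab Y} (u : F ⟶ G) :
    (EtCoh.stalk (Hens2.geomPt X x RX)).map ((EtCoh.Rpush h q).map u) ≫ (tgtIso h q x RX pY bX HX G).hom =
      (tgtIso h q x RX pY bX HX F).hom ≫ postE _ ((EtCoh.pull pY).map u) q :=
  gIso₁_natural (EtCoh.push h) (EtCoh.stalk (Hens2.geomPt X x RX)) (EtCoh.pull pY)
    (EtCoh.const PX ℤ) (injectiveResolution F) (injectiveResolution G) _ _ _ _ q u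
    (InjectiveResolution.desc u (injectiveResolution G) (injectiveResolution F))
    (InjectiveResolution.desc_commutes_zero u _ _)
    (HomologicalComplex.hom_ext _ _ fun n => (stalkHom_natural h x RX pY bX HX
      ((InjectiveResolution.desc u (injectiveResolution G) (injectiveResolution F)).f n)).symm)

/-- restriction on the strict localisations, to the `pY`-shaped coefficients -/
def resVia [PreservesFiniteLimits (EtCoh.pull m)] (F : EtCoh.Ab T) :
    AddCommGrpCat.of (Ext (EtCoh.const PS ℤ) ((EtCoh.pull aS).obj F) q) ⟶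
      AddCommGrpCat.of (Ext (EtCoh.const PX ℤ) ((EtCoh.pull pY).obj ((EtCoh.pull e).obj F)) q) :=
  AddCommGrpCat.ofHom (EtMV.T (EtCoh.pull m) (EtCore.pullConst m ℤ).inv _ q) ≫
    postE _ ((EtMV.ψ m aS (pY ≫ e) wm).hom.app F ≫ (EtMV.ψ pY e (pY ≫ e) rfl).inv.app F) q

include wb in
theorem stalk_bcQ_res [PreservesFiniteLimits (EtCoh.pull m)] (F : EtCoh.Ab T) :
    (EtCoh.stalk (Hens2.geomPt X x RX)).map (EtBC.bcQ g f h e w q F) ≫
        (tgtIso h q x RX pY bX HX ((EtCoh.pull e).obj F)).hom =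
      (srcIso f g q s RS x RX ρ hρ aS bS HS F).hom ≫ resVia e q aS pY m wm F := by
  have hsq : ((EtCoh.stalk (Hens2.geomPt X x RX)).mapHomologicalComplex (ComplexShape.up ℕ)).map
        (natMap (σBC g f h e w) (sRes e (injectiveResolution F) (injectiveResolution ((EtCoh.pull e).obj F)))) ≫
        (tgtCx h x RX pY bX HX (injectiveResolution ((EtCoh.pull e).obj F)).cocomplex).hom =
      (srcCx f g s RS x RX ρ hρ aS bS HS (injectiveResolution F).cocomplex).hom ≫
        homKMap (locMap e aS pY m wm (sRes e (injectiveResolution F) (injectiveResolution ((EtCoh.pull e).obj F))))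
          (EtCore.pullConst m ℤ).inv :=
    HomologicalComplex.hom_ext _ _ fun n => src_comm (stalk_natMap f g h e w s RS x RX ρ hρ aS bS HS pY bX HX m wm wb
      (sRes e (injectiveResolution F) (injectiveResolution ((EtCoh.pull e).obj F))) n)
  exact gIso_square (EtCoh.push g) (EtCoh.pull f) (EtCoh.push h) (EtCoh.stalk (Hens2.geomPt X x RX))
    (EtCoh.pull aS) (EtCoh.pull pY) (EtCoh.const PS ℤ) (EtCoh.const PX ℤ) (injectiveResolution F)
    (injectiveResolution ((EtCoh.pull e).obj F)) _ _ _ _ q (EtCoh.pull m)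
    (natMap (σBC g f h e w) (sRes e (injectiveResolution F) (injectiveResolution ((EtCoh.pull e).obj F))))
    (locMap e aS pY m wm (sRes e (injectiveResolution F) (injectiveResolution ((EtCoh.pull e).obj F))))
    (EtCore.pullConst m ℤ).inv _
    ((locMap_zero e aS pY m wm _ (injectiveResolution F).ι (injectiveResolution ((EtCoh.pull e).obj F)).ι
      (sRes_zero e _ _)).trans (Category.assoc _ _ _).symm)
    hsq
    _ (bcQ_eq g f h e w F q _ _ (sRes_zero e _ _))

theorem resVia_apply [PreservesFiniteLimits (EtCoh.pull m)] (F : EtCoh.Ab T)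
    (y : Ext (EtCoh.const PS ℤ) ((EtCoh.pull aS).obj F) q) :
    resVia e q aS pY m wm F y =
      Ext.comp (EtCore.HpullVia m aS (pY ≫ e) wm F q y)
        (Ext.mk₀ ((EtMV.ψ pY e (pY ≫ e) rfl).inv.app F)) (add_zero q) := by
  rw [EtMV.HpullVia_apply, Ext.comp_assoc_of_second_deg_zero, Ext.mk₀_comp_mk₀]
  rfl

end Sq

end Groth.Agent.EtBCQ
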