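import Groth.Agent.EtBCQ.Paste
import Groth.Agent.EtBCQ.PasteHom
import Mathlib.CategoryTheory.Abelian.RightDerived

/-! The base change map of a composite of two squares. -/

set_option autoImplicit false
set_option backward.isDefEq.respectTransparency false
set_option backward.isDefEq.respectTransparency.types false
set_option maxHeartbeats 4000000
set_option linter.style.haveILetI false

universe u

open CategoryTheory CategoryTheory.Limits AlgebraicGeometry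

noncomputable section

namespace Groth.Agent.EtBCQ

variable {X S Y T W Z : Scheme.{u}} (f : X ⟶ S) (g : T ⟶ S) (h : Y ⟶ X) (e : Y ⟶ T) (w₁ : e ≫ g = h ≫ f)
  (i : W ⟶ X) (j : Z ⟶ W) (k : Z ⟶ Y) (w₂ : k ≫ h = j ≫ i) (wo : (k ≫ e) ≫ g = j ≫ i ≫ f)

theorem σBC_paste (M : EtCoh.Ab T) :
    (σBC g (i ≫ f) j (k ≫ e) wo).app M = (EtCore.pullComp i f).hom.app ((EtCoh.push g).obj M) ≫
      (EtCoh.pull i).map ((σBC g f h e w₁).app M) ≫ (σBC h i j k w₂).app ((EtCoh.pull e).obj M) ≫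
      (EtCoh.push j).map ((EtCore.pullComp k e).inv.app M) :=
  paste (EtCoh.pullPushAdj f) (EtCoh.pullPushAdj i) (EtCoh.pullPushAdj e) (EtCoh.pullPushAdj k)
    (EtCoh.pullPushAdj (i ≫ f)) (EtCoh.pullPushAdj (k ≫ e)) (EtCoh.pushComp f i) (EtCoh.pushComp e k)
    (cIso g f h e w₁) (cIso h i j k w₂) (cIso g (i ≫ f) j (k ≫ e) wo)
    (σBC g f h e w₁) (σBC h i j k w₂) (σBC g (i ≫ f) j (k ≫ e) wo)
    (homEquiv_σBC g f h e w₁) (homEquiv_σBC h i j k w₂) (homEquiv_σBC g (i ≫ f) j (k ≫ e) wo)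
    (cIso_paste f g h e w₁ i j k w₂ wo) M

variable [PreservesFiniteLimits (EtCoh.pull e)] [PreservesFiniteLimits (EtCoh.pull k)]
  [PreservesFiniteLimits (EtCoh.pull (k ≫ e))] (F : EtCoh.Ab T) (q : ℕ)

/-- The outer map is, up to isomorphisms, the pullback of the first map followed by the second. -/
theorem exists_vcomp :
    ∃ (R : EtCoh.Ab W) (b : (EtCoh.pull i).obj ((EtCoh.Rpush h q).obj ((EtCoh.pull e).obj F)) ⟶ R),
      (IsIso (EtBC.bcQ h i j k w₂ q ((EtCoh.pull e).obj F)) ↔ IsIso b) ∧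
      (IsIso (EtBC.bcQ g (i ≫ f) j (k ≫ e) wo q F) ↔
        IsIso ((EtCoh.pull i).map (EtBC.bcQ g f h e w₁ q F) ≫ b)) := by
  let R := injectiveResolution F
  let J₁ := injectiveResolution ((EtCoh.pull e).obj F)
  let J₂ := injectiveResolution ((EtCoh.pull k).obj ((EtCoh.pull e).obj F))
  let u' := EtCore.pullComp k e
  let s₁ := sRes e R J₁
  let s₂ := sRes k J₁ J₂
  let J₃ := resOfIso (u'.app F) J₂
  have hs₃ : (EtCoh.pull (k ≫ e)).map (R.ι.f 0) ≫ (sPaste u' s₁ s₂).f 0 = J₃.ι.f 0 := by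
    refine Eq.trans ?_ (resOfIso_ι (u'.app F) J₂).symm
    change (EtCoh.pull (k ≫ e)).map (R.ι.f 0) ≫ u'.hom.app (R.cocomplex.X 0) ≫
      (EtCoh.pull k).map (s₁.f 0) ≫ s₂.f 0 = _
    erw [u'.hom.naturality_assoc (R.ι.f 0)]
    refine congrArg (u'.hom.app F ≫ ·) ?_
    rw [Functor.comp_map, ← Functor.map_comp_assoc]
    erw [sRes_zero e R J₁]
    exact sRes_zero k J₁ J₂
  let φ₁ := natMap (σBC g f h e w₁) s₁
  let φ₂ := natMap (σBC h i j k w₂) s₂
  let Q := ((EtCoh.push h).mapHomologicalComplex (ComplexShape.up ℕ)).obj J₁.cocomplex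
  let m := (Q.sc q).mapHomologyIso (EtCoh.pull i)
  refine ⟨_, (EtCoh.pull i).map (J₁.isoRightDerivedObj (EtCoh.push h) q).hom ≫
    m.inv ≫ HomologicalComplex.homologyMap φ₂ q, ?_, ?_⟩
  · exact (isIso_bcQ_iff h i j k w₂ ((EtCoh.pull e).obj F) q J₂ s₂ (sRes_zero k J₁ J₂)).trans
      (((isIso_comp_left_iff _ _).trans (isIso_comp_left_iff _ _)).symm)
  refine (isIso_bcQ_iff g (i ≫ f) j (k ≫ e) wo F q J₃ (sPaste u' s₁ s₂) hs₃).trans ?_
  refine (isIso_paste_iff (σBC g f h e w₁) (σBC h i j k w₂) (σBC g (i ≫ f) j (k ≫ e) wo) (EtCore.pullComp i f) u'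
    (σBC_paste f g h e w₁ i j k w₂ wo) s₁ s₂ q).trans ?_
  rw [homologyMap_map_eq (EtCoh.pull i) φ₁ q, Category.assoc, Category.assoc, isIso_comp_left_iff,
    bcQ_eq g f h e w₁ F q J₁ s₁ (sRes_zero e R J₁), Functor.map_comp, Functor.map_comp, Functor.map_comp,
    Category.assoc, Category.assoc, Category.assoc, Iso.map_inv_hom_id_assoc]
  exact ((isIso_comp_left_iff _ _).trans (isIso_comp_left_iff _ _)).symm

theorem isIso_bcQ_vcomp (h1 : IsIso (EtBC.bcQ g f h e w₁ q F))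
    (h2 : IsIso (EtBC.bcQ h i j k w₂ q ((EtCoh.pull e).obj F))) :
    IsIso (EtBC.bcQ g (i ≫ f) j (k ≫ e) wo q F) := by
  obtain ⟨R, b, hb, hab⟩ := exists_vcomp f g h e w₁ i j k w₂ wo F q
  haveI := h1
  haveI := hb.1 h2
  exact hab.2 inferInstance

/-- cancellation of the upper square -/
theorem isIso_bcQ_upper (h1 : IsIso (EtBC.bcQ g f h e w₁ q F))
    (ho : IsIso (EtBC.bcQ g (i ≫ f) j (k ≫ e) wo q F)) :
    IsIso (EtBC.bcQ h i j k w₂ q ((EtCoh.pull e).obj F)) := by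
  obtain ⟨R, b, hb, hab⟩ := exists_vcomp f g h e w₁ i j k w₂ wo F q
  haveI := h1
  haveI := hab.1 ho
  exact hb.2 (IsIso.of_isIso_comp_left ((EtCoh.pull i).map (EtBC.bcQ g f h e w₁ q F)) b)

end Groth.Agent.EtBCQ
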